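import Mathlib
import Cfsg.Prelude.Def_Characters
import Cfsg.Agent.Helper6.IndFun
import Cfsg.Agent.Helper6.CentralChar
import Cfsg.Agent.Helper6.Brauer8
import Cfsg.Agent.Helper6.DadeIntE

/-!
# Model-generic version of the `SEmbG` / `SEmbH` pipeline

`GSetup G Mdl sing`: a subgroup `N` of `G` with an isomorphism `e : N ≃* Mdl` onto a model group,
such that the set `A` of elements of `N` whose image in the model satisfies `sing` has the property:
`t ∈ A`, `z⁻¹ t z ∈ A` imply `z ∈ N`.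

For an integer valued function `d` on the model vanishing off `sing`, `S.Theta d` is the function
on `G` induced from `d ∘ e`.

This file does not depend on `Helper6.ClassMult` nor on `Helper6.StructConst`, so that it can be used
on both sides.  The first part repeats (with the prefix `h1_`) four general statements of
`Helper6.SEmbA` for that reason.
-/

set_option autoImplicit false
set_option linter.style.haveILetI false

namespace Cfsg.Agent.Helper6.H72

open Cfsg.Agent.Helper6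
open scoped ComplexConjugate

universe u v

variable {G : Type u} [Group G]

/-- Conjugation by `z` permutes a conjugacy class. -/
theorem h1_sum_classFinset_conj [Fintype G] (g z : G) (f : G → ℂ) :
    ∑ x ∈ classFinset g, f (z⁻¹ * x * z) = ∑ x ∈ classFinset g, f x := by
  apply Finset.sum_bij (fun x _ => z⁻¹ * x * z)
  · intro x hx
    rw [mem_classFinset] at hx ⊢
    exact hx.trans (isConj_iff.mpr ⟨z⁻¹, by simp⟩)
  · intro x _ y _ hxy
    simpa using hxy
  · intro y hy
    refine ⟨z * y * z⁻¹, ?_, by group⟩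
    rw [mem_classFinset] at hy ⊢
    exact hy.trans (isConj_iff.mpr ⟨z, rfl⟩)
  · intro x _
    rfl

/-- Double class sums of an induced function are computed inside the subgroup. -/
theorem h1_sum_class_mul_indFun [Fintype G] (N : Subgroup G) (φ : N → ℂ) (g h : G) :
    ∑ x ∈ classFinset g, ∑ y ∈ classFinset h, Cfsg.indFun N φ (x * y) =
      (Nat.card N : ℂ)⁻¹ * (Nat.card G : ℂ) *
        ∑ x ∈ classFinset g, ∑ y ∈ classFinset h, Cfsg.extendByZero N φ (x * y) := by
  simp_rw [indFun_apply, ← Finset.mul_sum]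
  rw [mul_assoc]
  congr 1
  have h1 : ∑ x ∈ classFinset g, ∑ y ∈ classFinset h, ∑ z : G,
      Cfsg.extendByZero N φ (z⁻¹ * (x * y) * z) =
      ∑ z : G, ∑ x ∈ classFinset g, ∑ y ∈ classFinset h,
        Cfsg.extendByZero N φ (z⁻¹ * (x * y) * z) := by
    calc _ = ∑ x ∈ classFinset g, ∑ z : G, ∑ y ∈ classFinset h,
          Cfsg.extendByZero N φ (z⁻¹ * (x * y) * z) :=
          Finset.sum_congr rfl (fun x _ => Finset.sum_comm)
      _ = _ := Finset.sum_comm
  rw [h1]
  have h2 : ∀ z : G, ∑ x ∈ classFinset g, ∑ y ∈ classFinset h,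
      Cfsg.extendByZero N φ (z⁻¹ * (x * y) * z) =
      ∑ x ∈ classFinset g, ∑ y ∈ classFinset h, Cfsg.extendByZero N φ (x * y) := by
    intro z
    have h3 : ∀ x y : G, z⁻¹ * (x * y) * z = (z⁻¹ * x * z) * (z⁻¹ * y * z) := by
      intro x y; group
    simp_rw [h3]
    rw [h1_sum_classFinset_conj g z (fun x' => ∑ y ∈ classFinset h,
      Cfsg.extendByZero N φ (x' * (z⁻¹ * y * z)))]
    apply Finset.sum_congr rfl
    intro x _
    exact h1_sum_classFinset_conj h z (fun y' => Cfsg.extendByZero N φ (x * y'))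
  rw [Finset.sum_congr rfl (fun z _ => h2 z), Finset.sum_const, Finset.card_univ, nsmul_eq_mul,
    Nat.card_eq_fintype_card]

/-- Value of an induced function at an element of the support set. -/
theorem h1_indFun_apply_of_TI [Fintype G] (N : Subgroup G) (A : Set G) (φ : N → ℂ)
    (hφ : Cfsg.IsClassFunction N φ) (hvan : ∀ x : N, (x : G) ∉ A → φ x = 0)
    (hTI : ∀ t ∈ A, ∀ z : G, z⁻¹ * t * z ∈ A → z ∈ N) (t : N) (ht : (t : G) ∈ A) :
    Cfsg.indFun N φ (t : G) = φ t := by
  classical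
  haveI : Fintype N := Fintype.ofFinite N
  rw [indFun_apply]
  have hN0 : (Nat.card N : ℂ) ≠ 0 := by
    have : 0 < Nat.card N := Nat.card_pos
    exact_mod_cast this.ne'
  have h1 : ∀ z : G, Cfsg.extendByZero N φ (z⁻¹ * (t : G) * z) =
      Cfsg.extendByZero N (fun _ => φ t) z := by
    intro z
    by_cases hz : z ∈ N
    · have hm : z⁻¹ * (t : G) * z ∈ N := N.mul_mem (N.mul_mem (N.inv_mem hz) t.2) hz
      rw [extendByZero_mem N φ hm, extendByZero_mem N _ hz]
      have := hφ t (⟨z, hz⟩⁻¹ : N)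
      rw [inv_inv] at this
      rw [← this]
      rfl
    · rw [extendByZero_not_mem N _ hz]
      by_cases hm : z⁻¹ * (t : G) * z ∈ N
      · rw [extendByZero_mem N φ hm]
        apply hvan
        intro hA
        exact hz (hTI _ ht z hA)
      · exact extendByZero_not_mem N φ hm
  rw [Finset.sum_congr rfl (fun z _ => h1 z), sum_extendByZero, Finset.sum_const, Finset.card_univ,
    nsmul_eq_mul, ← Nat.card_eq_fintype_card, ← mul_assoc, inv_mul_cancel₀ hN0, one_mul]

/-- An induced function vanishes at elements not conjugate into the support set. -/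
theorem h1_indFun_eq_zero_of_not_conj [Fintype G] (N : Subgroup G) (A : Set G) (φ : N → ℂ)
    (hvan : ∀ x : N, (x : G) ∉ A → φ x = 0) (g : G) (hg : ∀ z : G, z⁻¹ * g * z ∉ A) :
    Cfsg.indFun N φ g = 0 := by
  rw [indFun_apply, Finset.sum_eq_zero, mul_zero]
  intro z _
  by_cases hm : z⁻¹ * g * z ∈ N
  · rw [extendByZero_mem N φ hm]
    exact hvan _ (hg z)
  · exact extendByZero_not_mem N φ hm

/-- Induction is an isometry on class functions of `N` supported on the set `A`. -/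
theorem h1_classInner_indFun_indFun_of_TI [Fintype G] (N : Subgroup G) [Fintype N] (A : Set G)
    (α φ : N → ℂ) (hφ : Cfsg.IsClassFunction N φ) (hvanα : ∀ x : N, (x : G) ∉ A → α x = 0)
    (hvan : ∀ x : N, (x : G) ∉ A → φ x = 0)
    (hTI : ∀ t ∈ A, ∀ z : G, z⁻¹ * t * z ∈ A → z ∈ N) :
    Cfsg.classInner (Cfsg.indFun N α) (Cfsg.indFun N φ) = Cfsg.classInner α φ := by
  rw [frobenius_reciprocity N α _ (indFun_isClassFunction N φ)]
  unfold Cfsg.classInner
  congr 1
  apply Finset.sum_congr rfl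
  intro x _
  by_cases hx : (x : G) ∈ A
  · show α x * conj (Cfsg.indFun N φ (x : G)) = α x * conj (φ x)
    rw [h1_indFun_apply_of_TI N A φ hφ hvan hTI x hx]
  · rw [hvanα x hx, zero_mul, zero_mul]

/-- The abstract situation: a subgroup `N` identified with a model group `Mdl`, with a
conjugation-rigid "singular" part. -/
structure GSetup (G : Type u) [Group G] (Mdl : Type v) [Group Mdl] (sing : Mdl → Bool) where
  /-- the subgroup -/
  N : Subgroup G
  /-- the identification with the model -/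
  e : ↥N ≃* Mdl
  hTI : ∀ t t' : N, sing (e t) = true → sing (e t') = true → ∀ z : G,
    (t' : G) = z⁻¹ * (t : G) * z → z ∈ N

namespace GSetup

variable {Mdl : Type v} [Group Mdl] {sing : Mdl → Bool} (S : GSetup G Mdl sing)

/-- the embedding of the model -/
def ι : Mdl →* G := S.N.subtype.comp S.e.symm.toMonoidHom

theorem ι_mem (m : Mdl) : S.ι m ∈ S.N := (S.e.symm m).2

theorem ι_e (n : S.N) : S.ι (S.e n) = (n : G) := by
  show ((S.e.symm (S.e n) : S.N) : G) = n
  rw [MulEquiv.symm_apply_apply]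

theorem e_ι (m : Mdl) (h : S.ι m ∈ S.N) : S.e ⟨S.ι m, h⟩ = m := by
  have : (⟨S.ι m, h⟩ : S.N) = S.e.symm m := Subtype.ext rfl
  rw [this, MulEquiv.apply_symm_apply]

theorem ι_injective : Function.Injective S.ι := by
  intro a b hab
  have : S.e.symm a = S.e.symm b := Subtype.ext hab
  exact S.e.symm.injective this

theorem exists_of_mem {g : G} (hg : g ∈ S.N) : ∃ m : Mdl, S.ι m = g :=
  ⟨S.e ⟨g, hg⟩, S.ι_e ⟨g, hg⟩⟩

theorem ι_eq_one_iff (m : Mdl) : S.ι m = 1 ↔ m = 1 := by
  constructor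
  · intro h
    apply S.ι_injective
    rw [h, map_one]
  · rintro rfl
    exact map_one _

theorem hTI' (m m' : Mdl) (hm : sing m = true) (hm' : sing m' = true) (z : G)
    (h : S.ι m' = z⁻¹ * S.ι m * z) : z ∈ S.N := by
  apply S.hTI ⟨S.ι m, S.ι_mem m⟩ ⟨S.ι m', S.ι_mem m'⟩ _ _ z h
  · rw [S.e_ι]; exact hm
  · rw [S.e_ι]; exact hm'

/-- the support set -/
def A : Set G := {g | ∃ m : Mdl, sing m = true ∧ S.ι m = g}

theorem ι_mem_A_iff (m : Mdl) : S.ι m ∈ S.A ↔ sing m = true := by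
  constructor
  · rintro ⟨m', hm', h⟩
    rw [← S.ι_injective h]
    exact hm'
  · intro h
    exact ⟨m, h, rfl⟩

theorem A_subset_N {g : G} (hg : g ∈ S.A) : g ∈ S.N := by
  obtain ⟨m, -, rfl⟩ := hg
  exact S.ι_mem m

theorem hTI_A : ∀ t ∈ S.A, ∀ z : G, z⁻¹ * t * z ∈ S.A → z ∈ S.N := by
  rintro t ⟨m, hm, rfl⟩ z ⟨m', hm', h⟩
  exact S.hTI' m m' hm hm' z h

theorem card_N [Fintype Mdl] : Nat.card S.N = Fintype.card Mdl := by
  rw [Nat.card_congr S.e.toEquiv, Nat.card_eq_fintype_card]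

/-- the function on `N` given by a function on the model -/
def phi (d : Mdl → ℤ) : S.N → ℂ := fun n => (d (S.e n) : ℂ)

/-- the induced function -/
noncomputable def Theta [Fintype G] (d : Mdl → ℤ) : G → ℂ := Cfsg.indFun S.N (S.phi d)

theorem phi_vanish (d : Mdl → ℤ) (hd : ∀ m, sing m = false → d m = 0) (x : S.N)
    (hx : (x : G) ∉ S.A) : S.phi d x = 0 := by
  unfold phi
  rw [hd, Int.cast_zero]
  by_contra h
  rw [Bool.not_eq_false] at h
  apply hx
  rw [← S.ι_e x, S.ι_mem_A_iff]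
  exact h

theorem phi_classFunction (d : Mdl → ℤ) (hcf : ∀ m c, d (c * m * c⁻¹) = d m) :
    Cfsg.IsClassFunction S.N (S.phi d) := by
  intro g h
  unfold phi
  rw [map_mul, map_mul, map_inv, hcf]

theorem isGenChar_Theta [Fintype G] (d : Mdl → ℤ)
    (hd : Cfsg.IsGeneralizedCharacter Mdl (fun m => (d m : ℂ))) :
    Cfsg.IsGeneralizedCharacter G (S.Theta d) :=
  IsGeneralizedCharacter.indFun S.N (IsGeneralizedCharacter.comp_hom' S.e.toMonoidHom hd)

theorem sum_phi [Fintype Mdl] [Fintype S.N] (F : Mdl → ℂ) :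
    ∑ n : S.N, F (S.e n) = ∑ m : Mdl, F m :=
  Equiv.sum_comp S.e.toEquiv F

theorem classInner_Theta [Fintype G] [Fintype Mdl] (d d' : Mdl → ℤ)
    (hd : ∀ m, sing m = false → d m = 0)
    (hd' : ∀ m, sing m = false → d' m = 0) (hcf : ∀ m c, d' (c * m * c⁻¹) = d' m) :
    Cfsg.classInner (S.Theta d) (S.Theta d') =
      (Fintype.card Mdl : ℂ)⁻¹ * ((∑ m : Mdl, d m * d' m : ℤ) : ℂ) := by
  classical
  haveI : Fintype S.N := Fintype.ofFinite S.N
  unfold Theta
  rw [h1_classInner_indFun_indFun_of_TI S.N S.A (S.phi d) (S.phi d') (S.phi_classFunction d' hcf)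
    (S.phi_vanish d hd) (S.phi_vanish d' hd') S.hTI_A]
  unfold Cfsg.classInner
  rw [S.card_N]
  have h2 : ∑ n : S.N, S.phi d n * conj (S.phi d' n) =
      ∑ m : Mdl, (d m : ℂ) * conj ((d' m : ℤ) : ℂ) :=
    S.sum_phi (fun m => ((d m : ℂ)) * conj ((d' m : ℤ) : ℂ))
  rw [h2]
  push_cast
  congr 1
  apply Finset.sum_congr rfl
  intro m _
  rw [map_intCast]

theorem classInner_Theta_one [Fintype G] [Fintype Mdl] (d : Mdl → ℤ) :
    Cfsg.classInner (S.Theta d) (fun _ => (1 : ℂ)) =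
      (Fintype.card Mdl : ℂ)⁻¹ * ((∑ m : Mdl, d m : ℤ) : ℂ) := by
  classical
  haveI : Fintype S.N := Fintype.ofFinite S.N
  unfold Theta
  rw [frobenius_reciprocity S.N (S.phi d) _ (fun _ _ => rfl)]
  unfold Cfsg.classInner
  rw [S.card_N]
  have h2 : ∑ n : S.N, S.phi d n * conj ((fun _ : G => (1 : ℂ)) (n : G)) = ∑ m : Mdl, (d m : ℂ) := by
    simp only [map_one, mul_one]
    exact S.sum_phi (fun m => ((d m : ℂ)))
  rw [h2]
  push_cast
  rfl

theorem Theta_apply_ι [Fintype G] (d : Mdl → ℤ) (hd : ∀ m, sing m = false → d m = 0)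
    (hcf : ∀ m c, d (c * m * c⁻¹) = d m) (m : Mdl) (hm : sing m = true) :
    S.Theta d (S.ι m) = (d m : ℂ) := by
  unfold Theta
  have h := h1_indFun_apply_of_TI S.N S.A (S.phi d) (S.phi_classFunction d hcf) (S.phi_vanish d hd)
    S.hTI_A ⟨S.ι m, S.ι_mem m⟩ ((S.ι_mem_A_iff m).mpr hm)
  rw [h]
  unfold phi
  rw [S.e_ι]

theorem Theta_eq_zero [Fintype G] (d : Mdl → ℤ) (hd : ∀ m, sing m = false → d m = 0) (g : G)
    (hg : ∀ z : G, z⁻¹ * g * z ∉ S.A) : S.Theta d g = 0 :=
  h1_indFun_eq_zero_of_not_conj S.N S.A (S.phi d) (S.phi_vanish d hd) g hg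

/-- `Theta d` is a class function. -/
theorem Theta_isClassFunction [Fintype G] (d : Mdl → ℤ) :
    Cfsg.IsClassFunction G (S.Theta d) :=
  indFun_isClassFunction S.N (S.phi d)

/-- Two elements of square one whose product is in `A` lie in `N`. -/
theorem mem_of_mul_mem_A (hinv : ∀ m : Mdl, sing m⁻¹ = sing m) (x y : G) (hx : x * x = 1)
    (hy : y * y = 1) (hxy : x * y ∈ S.A) : x ∈ S.N ∧ y ∈ S.N := by
  obtain ⟨m, hm, hm2⟩ := hxy
  have hxinv : x⁻¹ = x := inv_eq_of_mul_eq_one_left hx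
  have hyinv : y⁻¹ = y := inv_eq_of_mul_eq_one_left hy
  have hxN : x ∈ S.N := by
    apply S.hTI' m m⁻¹ hm (by rw [hinv]; exact hm) x
    rw [map_inv, hm2]
    have h3 : (x * y)⁻¹ = y * x := by rw [mul_inv_rev, hxinv, hyinv]
    rw [h3]
    group
  refine ⟨hxN, ?_⟩
  have : y = x⁻¹ * (x * y) := by group
  rw [this]
  apply S.N.mul_mem (S.N.inv_mem hxN)
  rw [← hm2]
  exact S.ι_mem m

/-- Elements of square one are not conjugate into `A`. -/
theorem not_mem_A_of_sq (hsq : ∀ m : Mdl, sing m = true → m * m ≠ 1) (g : G) (hg : g * g = 1)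
    (z : G) : z⁻¹ * g * z ∉ S.A := by
  rintro ⟨m, hm, hm2⟩
  have h1 : S.ι (m * m) = 1 := by
    rw [map_mul, hm2]
    calc z⁻¹ * g * z * (z⁻¹ * g * z) = z⁻¹ * (g * g) * z := by group
      _ = 1 := by rw [hg]; group
  rw [S.ι_eq_one_iff] at h1
  exact hsq m hm h1

/-- `Theta d` vanishes at elements of square one. -/
theorem Theta_eq_zero_of_sq [Fintype G] (hsq : ∀ m : Mdl, sing m = true → m * m ≠ 1) (d : Mdl → ℤ)
    (hd : ∀ m, sing m = false → d m = 0) (g : G) (hg : g * g = 1) : S.Theta d g = 0 :=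
  S.Theta_eq_zero d hd g (S.not_mem_A_of_sq hsq g hg)

/-- Double class sums of `Theta d` over classes of elements of square one, computed in the model. -/
theorem sum_class_Theta [Fintype G] [Fintype Mdl] [DecidableEq Mdl]
    (hinv : ∀ m : Mdl, sing m⁻¹ = sing m) (d : Mdl → ℤ)
    (hd : ∀ m, sing m = false → d m = 0)
    (g h : G) (hg : g * g = 1) (hh : h * h = 1) (U V : Finset Mdl)
    (hU : ∀ m, m ∈ U ↔ IsConj g (S.ι m)) (hV : ∀ m, m ∈ V ↔ IsConj h (S.ι m)) :
    ∑ x ∈ classFinset g, ∑ y ∈ classFinset h, S.Theta d (x * y) =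
      (Nat.card G : ℂ) / (Fintype.card Mdl : ℂ) *
        ((∑ m₁ ∈ U, ∑ m₂ ∈ V, d (m₁ * m₂) : ℤ) : ℂ) := by
  classical
  unfold Theta
  rw [h1_sum_class_mul_indFun, S.card_N]
  have hsq : ∀ a b : G, a * a = 1 → IsConj a b → b * b = 1 := by
    intro a b ha hab
    obtain ⟨c, hc⟩ := isConj_iff.mp hab
    rw [← hc]
    calc c * a * c⁻¹ * (c * a * c⁻¹) = c * (a * a) * c⁻¹ := by group
      _ = 1 := by rw [ha]; group
  have hkey : ∑ x ∈ classFinset g, ∑ y ∈ classFinset h, Cfsg.extendByZero S.N (S.phi d) (x * y) =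
      ((∑ m₁ ∈ U, ∑ m₂ ∈ V, d (m₁ * m₂) : ℤ) : ℂ) := by
    push_cast
    rw [← Finset.sum_product', ← Finset.sum_product']
    symm
    apply Finset.sum_of_injOn (fun q : Mdl × Mdl => (S.ι q.1, S.ι q.2))
    · intro a _ b _ hab
      simp only [Prod.mk.injEq] at hab
      exact Prod.ext (S.ι_injective hab.1) (S.ι_injective hab.2)
    · intro q hq
      rw [Finset.coe_product, Set.mem_prod] at hq
      rw [Finset.coe_product, Set.mem_prod]
      exact ⟨(mem_classFinset _ _).mpr ((hU _).mp hq.1), (mem_classFinset _ _).mpr ((hV _).mp hq.2)⟩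
    · intro p hp hnot
      rw [Finset.mem_product, mem_classFinset, mem_classFinset] at hp
      by_contra hne
      apply hnot
      have hxx := hsq g p.1 hg hp.1
      have hyy := hsq h p.2 hh hp.2
      have hmem : p.1 * p.2 ∈ S.N := by
        by_contra hn
        exact hne (extendByZero_not_mem S.N _ hn)
      rw [extendByZero_mem S.N _ hmem] at hne
      have hA : p.1 * p.2 ∈ S.A := by
        by_contra hA
        exact hne (S.phi_vanish d hd ⟨p.1 * p.2, hmem⟩ hA)
      obtain ⟨h1, h2⟩ := S.mem_of_mul_mem_A hinv p.1 p.2 hxx hyy hA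
      obtain ⟨m₁, hm₁⟩ := S.exists_of_mem h1
      obtain ⟨m₂, hm₂⟩ := S.exists_of_mem h2
      refine ⟨(m₁, m₂), ?_, ?_⟩
      · rw [Finset.coe_product, Set.mem_prod]
        refine ⟨?_, ?_⟩
        · rw [Finset.mem_coe, hU, hm₁]; exact hp.1
        · rw [Finset.mem_coe, hV, hm₂]; exact hp.2
      · exact Prod.ext hm₁ hm₂
    · intro q _
      show ((d (q.1 * q.2) : ℤ) : ℂ) = Cfsg.extendByZero S.N (S.phi d) (S.ι q.1 * S.ι q.2)
      rw [← map_mul, extendByZero_mem S.N _ (S.ι_mem _)]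
      unfold phi
      rw [S.e_ι]
  rw [hkey]
  ring

theorem isConj_ι_of_conj (m m' c : Mdl) (h : c * m * c⁻¹ = m') : IsConj (S.ι m) (S.ι m') := by
  rw [isConj_iff]
  refine ⟨S.ι c, ?_⟩
  rw [← map_inv, ← map_mul, ← map_mul, h]

end GSetup

end Cfsg.Agent.Helper6.H72
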