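import Mathlib
import Cfsg.Prelude.Def_Characters
import Cfsg.Agent.Helper6.Linear

/-!
# S3716 / H72, piece P6-F: the final arithmetic and the non-simplicity from a linear character
-/

set_option autoImplicit false
set_option linter.style.haveILetI false

namespace Cfsg.Agent.Helper6.H72

open Cfsg.Agent.Helper6

universe u

/-- the final arithmetic: all branches except `D5 = -1` die modulo `3` or modulo `27` -/
theorem finish_arith (D1 D2 D4 D5 : ℤ) (h1 : D1 % 9 = 7) (h2 : D2 % 9 = 8) (h4 : D4 % 9 = 8)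
    (h5 : D5 % 9 = 8)
    (hcore : D5 = -1 ∨ 9 * ((1 - D1) * (D1 + D2)) = 17 * D2 ∨ 9 * ((1 - D1) * (D1 + D4)) = 17 * D4 ∨
      9 * ((D1 + D4) * (D1 + D5)) = 17 * (D4 * D5) ∨ (1 - D1) * (D1 + D2) = 9801 * D2 ∨
      (1 - D1) * (D1 + D4) = 9801 * D4) : D5 = -1 := by
  obtain ⟨a, rfl⟩ : ∃ a, D1 = 9 * a + 7 := ⟨D1 / 9, by omega⟩
  obtain ⟨b, rfl⟩ : ∃ b, D2 = 9 * b + 8 := ⟨D2 / 9, by omega⟩
  obtain ⟨c, rfl⟩ : ∃ c, D4 = 9 * c + 8 := ⟨D4 / 9, by omega⟩
  obtain ⟨d, rfl⟩ : ∃ d, D5 = 9 * d + 8 := ⟨D5 / 9, by omega⟩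
  rcases hcore with h | h | h | h | h | h
  · exact h
  · exfalso
    have h' : 9 * ((1 - (9 * a + 7)) * (9 * a + 7 + (9 * b + 8))) =
        3 * (-243 * (a * a) - 243 * (a * b) - 567 * a - 162 * b - 270) := by ring
    rw [h'] at h
    omega
  · exfalso
    have h' : 9 * ((1 - (9 * a + 7)) * (9 * a + 7 + (9 * c + 8))) =
        3 * (-243 * (a * a) - 243 * (a * c) - 567 * a - 162 * c - 270) := by ring
    rw [h'] at h
    omega
  · exfalso
    have h' : 17 * ((9 * c + 8) * (9 * d + 8)) = 3 * (459 * (c * d) + 408 * c + 408 * d + 362) + 2 := by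
      ring
    rw [h'] at h
    omega
  · exfalso
    have h' : (1 - (9 * a + 7)) * (9 * a + 7 + (9 * b + 8)) =
        27 * (-3 * (a * a) - 3 * (a * b) - 7 * a - 2 * b - 4) + 18 := by ring
    rw [h'] at h
    omega
  · exfalso
    have h' : (1 - (9 * a + 7)) * (9 * a + 7 + (9 * c + 8)) =
        27 * (-3 * (a * a) - 3 * (a * c) - 7 * a - 2 * c - 4) + 18 := by ring
    rw [h'] at h
    omega

variable {G : Type u} [Group G]

/-- A finite group with a nontrivial linear character and a subgroup of order `72` is not simple. -/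
theorem not_simple_of_linear [Finite G] (χ : Cfsg.IrrCharacter G) (h1 : (χ : G → ℂ) 1 = 1)
    (hne : (χ : G → ℂ) ≠ fun _ => (1 : ℂ)) (H : Subgroup G) (hH : Nat.card H = 72) :
    ¬ IsSimpleGroup G := by
  intro hs
  obtain ⟨lam, hlam⟩ := exists_hom_of_irr_degree_one χ.2 h1
  rcases hs.eq_bot_or_eq_top_of_normal lam.ker (MonoidHom.normal_ker lam) with hk | hk
  · -- `lam` injective, so `G` is commutative
    have hinj : Function.Injective lam := (MonoidHom.ker_eq_bot_iff lam).mp hk
    have hcomm : ∀ x y : G, x * y = y * x := by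
      intro x y
      apply hinj
      rw [map_mul, map_mul, mul_comm]
    letI : CommGroup G := { ‹Group G› with mul_comm := hcomm }
    have hp : (Nat.card G).Prime := IsSimpleGroup.prime_card
    have hdvd : Nat.card H ∣ Nat.card G := Subgroup.card_subgroup_dvd_card H
    rw [hH] at hdvd
    rcases (Nat.dvd_prime hp).mp hdvd with h72 | h72
    · omega
    · rw [← h72] at hp
      exact absurd hp (by decide)
  · apply hne
    rw [hlam]
    funext g
    have hg : g ∈ lam.ker := by rw [hk]; exact Subgroup.mem_top g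
    rw [MonoidHom.mem_ker] at hg
    rw [hg]
    rfl

end Cfsg.Agent.Helper6.H72
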