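import Mathlib

/-!
# H72-P4: classification of the embeddings (pure combinatorics)

Four integer vectors `cA cB cC cD` indexed by a finite type, with Gram matrix
`[[4,1,-2,-2],[1,4,-2,-2],[-2,-2,4,1],[-2,-2,1,4]]`, column `(-1,0,1,0)` at a distinguished index,
and vanishing "degree" sums: either the coherent shape, or one of `cC - cD, cA + cB + cD, cA + cB + cC`
collapses (shape `±1, ±1, ±2`) and one of `cA - cB, cA + cC + cD, cB + cC + cD` collapses.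
-/

set_option autoImplicit false

namespace Cfsg.Agent.Helper6.H72

open Finset

variable {ι : Type*} [Fintype ι] [DecidableEq ι]

/-- `v` has exactly three nonzero entries, of shape `±1, ±1, ±2`. -/
def Coll (v : ι → ℤ) : Prop :=
  ∃ x1 x2 x3 : ι, x1 ≠ x2 ∧ x1 ≠ x3 ∧ x2 ≠ x3 ∧
    ∃ s1 s2 s3 : ℤ, (s1 = 1 ∨ s1 = -1) ∧ (s2 = 1 ∨ s2 = -1) ∧ (s3 = 1 ∨ s3 = -1) ∧
      ∀ x, v x = s1 * (if x = x1 then 1 else 0) + s2 * (if x = x2 then 1 else 0) +
        2 * s3 * (if x = x3 then 1 else 0)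

/-- the coherent embedding -/
def Coherent (triv : ι) (cA cB cC cD : ι → ℤ) : Prop :=
  ∃ e1 e2 e3 e4 e5 e6 e7 e8 : ι, [triv, e1, e2, e3, e4, e5, e6, e7, e8].Nodup ∧
    ∃ s1 s2 s3 s4 s5 s6 s7 s8 : ℤ, (s1 = 1 ∨ s1 = -1) ∧ (s2 = 1 ∨ s2 = -1) ∧ (s3 = 1 ∨ s3 = -1) ∧
      (s4 = 1 ∨ s4 = -1) ∧ (s5 = 1 ∨ s5 = -1) ∧ (s6 = 1 ∨ s6 = -1) ∧ (s7 = 1 ∨ s7 = -1) ∧
      (s8 = 1 ∨ s8 = -1) ∧
      ∀ x,
        cA x = -(if x = triv then 1 else 0) + s1 * (if x = e1 then 1 else 0) +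
          s2 * (if x = e2 then 1 else 0) + s3 * (if x = e3 then 1 else 0) ∧
        cB x = s1 * (if x = e1 then 1 else 0) + s4 * (if x = e4 then 1 else 0) +
          s5 * (if x = e5 then 1 else 0) + s6 * (if x = e6 then 1 else 0) ∧
        cC x = (if x = triv then 1 else 0) - s1 * (if x = e1 then 1 else 0) -
          s4 * (if x = e4 then 1 else 0) + s7 * (if x = e7 then 1 else 0) ∧
        cD x = -(s1 * (if x = e1 then 1 else 0)) - s2 * (if x = e2 then 1 else 0) -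
          s5 * (if x = e5 then 1 else 0) + s8 * (if x = e8 then 1 else 0)

/-! ### generic helper lemmas -/

theorem h3_unique_one (f : ι → ℤ) (h01 : ∀ x, f x = 0 ∨ f x = 1) (hs : ∑ x, f x = 1) :
    ∃ x0, f x0 = 1 ∧ ∀ x, x ≠ x0 → f x = 0 := by
  have hex : ∃ x0, f x0 = 1 := by
    by_contra hne
    push Not at hne
    have : ∑ x, f x = 0 := Finset.sum_eq_zero (fun x _ => (h01 x).resolve_right (hne x))
    omega
  obtain ⟨x0, hx0⟩ := hex
  refine ⟨x0, hx0, ?_⟩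
  have hsplit := Finset.add_sum_erase Finset.univ f (Finset.mem_univ x0)
  have hrest : ∑ x ∈ Finset.univ.erase x0, f x = 0 := by omega
  have hnn : ∀ x ∈ Finset.univ.erase x0, 0 ≤ f x := by
    intro x _
    rcases h01 x with h | h <;> omega
  have := (Finset.sum_eq_zero_iff_of_nonneg hnn).mp hrest
  intro x hx
  exact this x (Finset.mem_erase.mpr ⟨hx, Finset.mem_univ x⟩)

theorem h3_entry (c deg : ι → ℤ) (hn : ∑ x, c x ^ 2 = 4) (hdeg : ∀ x, 0 < deg x)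
    (h0 : ∑ x, c x * deg x = 0) (x : ι) : c x = -1 ∨ c x = 0 ∨ c x = 1 := by
  have hle : c x ^ 2 ≤ 4 := by
    rw [← hn]
    exact Finset.single_le_sum (f := fun i => c i ^ 2) (fun i _ => sq_nonneg (c i))
      (Finset.mem_univ x)
  have h1 : -2 ≤ c x := by nlinarith
  have h2 : c x ≤ 2 := by nlinarith
  have hsplit : c x ^ 2 + ∑ y ∈ Finset.univ.erase x, c y ^ 2 = ∑ y, c y ^ 2 :=
    Finset.add_sum_erase Finset.univ (fun i => c i ^ 2) (Finset.mem_univ x)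
  have hsplit2 : c x * deg x + ∑ y ∈ Finset.univ.erase x, c y * deg y = ∑ y, c y * deg y :=
    Finset.add_sum_erase Finset.univ (fun i => c i * deg i) (Finset.mem_univ x)
  have key : c x ^ 2 = 4 → False := by
    intro h4
    have hrest : ∑ y ∈ Finset.univ.erase x, c y ^ 2 = 0 := by omega
    have hz := (Finset.sum_eq_zero_iff_of_nonneg (fun i _ => sq_nonneg (c i))).mp hrest
    have hrest2 : ∑ y ∈ Finset.univ.erase x, c y * deg y = 0 := by
      apply Finset.sum_eq_zero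
      intro y hy
      have := hz y hy
      have hy0 : c y = 0 := by nlinarith
      rw [hy0, zero_mul]
    have hcx : c x * deg x = 0 := by omega
    have hd := hdeg x
    have : c x = 0 := by
      rcases mul_eq_zero.mp hcx with h | h
      · exact h
      · omega
    rw [this] at h4
    norm_num at h4
  have hc : c x = -2 ∨ c x = -1 ∨ c x = 0 ∨ c x = 1 ∨ c x = 2 := by omega
  rcases hc with h | h | h | h | h
  · exact (key (by rw [h]; norm_num)).elim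
  · exact Or.inl h
  · exact Or.inr (Or.inl h)
  · exact Or.inr (Or.inr h)
  · exact (key (by rw [h]; norm_num)).elim

omit [Fintype ι] in
theorem h3_peel (s : Finset ι) (w : ι → ℤ) (k : ℤ) (hk : 0 < k) (hs : ∑ x ∈ s, w x ^ 2 = k) :
    ∃ x ∈ s, w x ≠ 0 ∧ ∑ y ∈ s.erase x, w y ^ 2 = k - w x ^ 2 := by
  have hex : ∃ x ∈ s, w x ≠ 0 := by
    by_contra hne
    push Not at hne
    have : ∑ x ∈ s, w x ^ 2 = 0 := Finset.sum_eq_zero (fun x hx => by rw [hne x hx]; norm_num)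
    omega
  obtain ⟨x, hx, hwx⟩ := hex
  refine ⟨x, hx, hwx, ?_⟩
  have : w x ^ 2 + ∑ y ∈ s.erase x, w y ^ 2 = ∑ y ∈ s, w y ^ 2 :=
    Finset.add_sum_erase s (fun i => w i ^ 2) hx
  omega

theorem h3_pm_one_of_sq_le (a : ℤ) (h0 : a ≠ 0) (h : a ^ 2 ≤ 3) : a = 1 ∨ a = -1 := by
  have h1 : -1 ≤ a := by nlinarith
  have h2 : a ≤ 1 := by nlinarith
  omega

theorem h3_coll_of_two (v : ι → ℤ) (hn : ∑ x, v x ^ 2 = 6) (x3 : ι) (h3 : v x3 = 2 ∨ v x3 = -2) :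
    Coll v := by
  have h3sq : v x3 ^ 2 = 4 := by rcases h3 with h | h <;> rw [h] <;> norm_num
  have hs0 : ∑ x ∈ Finset.univ.erase x3, v x ^ 2 = 2 := by
    have : v x3 ^ 2 + ∑ y ∈ Finset.univ.erase x3, v y ^ 2 = ∑ y, v y ^ 2 :=
      Finset.add_sum_erase Finset.univ (fun i => v i ^ 2) (Finset.mem_univ x3)
    omega
  obtain ⟨x1, hx1, hv1, hs1⟩ := h3_peel _ v 2 (by norm_num) hs0
  have hnn1 : 0 ≤ ∑ y ∈ (Finset.univ.erase x3).erase x1, v y ^ 2 :=
    Finset.sum_nonneg (fun i _ => sq_nonneg (v i))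
  have hv1' : v x1 = 1 ∨ v x1 = -1 := h3_pm_one_of_sq_le _ hv1 (by omega)
  have hv1sq : v x1 ^ 2 = 1 := by rcases hv1' with h | h <;> rw [h] <;> norm_num
  rw [hv1sq] at hs1
  obtain ⟨x2, hx2, hv2, hs2⟩ := h3_peel _ v 1 (by norm_num) (by rw [hs1]; norm_num)
  have hnn2 : 0 ≤ ∑ y ∈ ((Finset.univ.erase x3).erase x1).erase x2, v y ^ 2 :=
    Finset.sum_nonneg (fun i _ => sq_nonneg (v i))
  have hv2' : v x2 = 1 ∨ v x2 = -1 := h3_pm_one_of_sq_le _ hv2 (by omega)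
  have hv2sq : v x2 ^ 2 = 1 := by rcases hv2' with h | h <;> rw [h] <;> norm_num
  rw [hv2sq] at hs2
  have hz := (Finset.sum_eq_zero_iff_of_nonneg (fun i _ => sq_nonneg (v i))).mp
    (show ∑ y ∈ ((Finset.univ.erase x3).erase x1).erase x2, v y ^ 2 = 0 by rw [hs2]; norm_num)
  have h13 : x1 ≠ x3 := (Finset.mem_erase.mp hx1).1
  have h21 : x2 ≠ x1 := (Finset.mem_erase.mp hx2).1
  have h23 : x2 ≠ x3 := (Finset.mem_erase.mp (Finset.mem_erase.mp hx2).2).1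
  refine ⟨x1, x2, x3, h21.symm, h13, h23, v x1, v x2, v x3 / 2, hv1', hv2', ?_, ?_⟩
  · rcases h3 with h | h <;> rw [h] <;> norm_num
  · intro x
    by_cases e3 : x = x3
    · subst e3
      simp only [if_neg h13.symm, if_neg h23.symm, if_true]
      rcases h3 with h | h <;> rw [h] <;> norm_num
    · by_cases e1 : x = x1
      · subst e1
        simp [h21.symm, h13]
      · by_cases e2 : x = x2
        · subst e2
          simp [h21, h23]
        · have hmem : x ∈ ((Finset.univ.erase x3).erase x1).erase x2 :=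
            Finset.mem_erase.mpr ⟨e2, Finset.mem_erase.mpr ⟨e1, Finset.mem_erase.mpr
              ⟨e3, Finset.mem_univ x⟩⟩⟩
          have := hz x hmem
          have hx0 : v x = 0 := by nlinarith
          simp [hx0, e1, e2, e3]

/-! ### pointwise analysis of a column -/

/-- the type of a column: `1 = (s,s,-s,-s)`, `9 = (s,0,-s,0)`, `2 = (s,0,0,-s)`, `3 = (s,0,0,0)`,
`4 = (0,s,-s,0)`, `5 = (0,s,0,-s)`, `6 = (0,s,0,0)`, `7 = (0,0,s,0)`, `8 = (0,0,0,s)`, `0` = zero. -/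
def h3_ty (a b c d : ℤ) : ℕ :=
  if a ≠ 0 ∧ b ≠ 0 then 1
  else if a ≠ 0 ∧ c ≠ 0 then 9
  else if a ≠ 0 ∧ d ≠ 0 then 2
  else if a ≠ 0 then 3
  else if b ≠ 0 ∧ c ≠ 0 then 4
  else if b ≠ 0 ∧ d ≠ 0 then 5
  else if b ≠ 0 then 6
  else if c ≠ 0 then 7
  else if d ≠ 0 then 8
  else 0

/-- indicator of a type -/
def h3_T (k : ℕ) (a b c d : ℤ) : ℤ := if h3_ty a b c d = k then 1 else 0

theorem h3_int_key (a b c d : ℤ) (ha : a = -1 ∨ a = 0 ∨ a = 1) (hb : b = -1 ∨ b = 0 ∨ b = 1)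
    (hc : c = -1 ∨ c = 0 ∨ c = 1) (hd : d = -1 ∨ d = 0 ∨ d = 1)
    (h1 : -1 ≤ c - d ∧ c - d ≤ 1) (h2 : -1 ≤ a + b + d ∧ a + b + d ≤ 1)
    (h3 : -1 ≤ a + b + c ∧ a + b + c ≤ 1) : 0 ≤ c * d - a * b := by
  rcases ha with rfl | rfl | rfl <;> rcases hb with rfl | rfl | rfl <;>
    rcases hc with rfl | rfl | rfl <;> rcases hd with rfl | rfl | rfl <;> omega

theorem h3_col (a b c d : ℤ) (ha : a = -1 ∨ a = 0 ∨ a = 1) (hb : b = -1 ∨ b = 0 ∨ b = 1)
    (hc : c = -1 ∨ c = 0 ∨ c = 1) (hd : d = -1 ∨ d = 0 ∨ d = 1)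
    (h1 : -1 ≤ c - d ∧ c - d ≤ 1) (h2 : -1 ≤ a + b + d ∧ a + b + d ≤ 1)
    (h3 : -1 ≤ a + b + c ∧ a + b + c ≤ 1) (h0 : c * d - a * b = 0) :
    a * b = h3_T 1 a b c d ∧
    a * c = -(h3_T 1 a b c d + h3_T 9 a b c d) ∧
    a * d = -(h3_T 1 a b c d + h3_T 2 a b c d) ∧
    a ^ 2 = h3_T 1 a b c d + h3_T 9 a b c d + h3_T 2 a b c d + h3_T 3 a b c d ∧
    b * c = -(h3_T 1 a b c d + h3_T 4 a b c d) ∧
    b * d = -(h3_T 1 a b c d + h3_T 5 a b c d) ∧
    b ^ 2 = h3_T 1 a b c d + h3_T 4 a b c d + h3_T 5 a b c d + h3_T 6 a b c d ∧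
    c ^ 2 = h3_T 1 a b c d + h3_T 9 a b c d + h3_T 4 a b c d + h3_T 7 a b c d ∧
    d ^ 2 = h3_T 1 a b c d + h3_T 2 a b c d + h3_T 5 a b c d + h3_T 8 a b c d := by
  rcases ha with rfl | rfl | rfl <;> rcases hb with rfl | rfl | rfl <;>
    rcases hc with rfl | rfl | rfl <;> rcases hd with rfl | rfl | rfl <;>
    first | (exfalso; omega) | decide

theorem h3_col_val (a b c d : ℤ) (ha : a = -1 ∨ a = 0 ∨ a = 1) (hb : b = -1 ∨ b = 0 ∨ b = 1)
    (hc : c = -1 ∨ c = 0 ∨ c = 1) (hd : d = -1 ∨ d = 0 ∨ d = 1)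
    (h1 : -1 ≤ c - d ∧ c - d ≤ 1) (h2 : -1 ≤ a + b + d ∧ a + b + d ≤ 1)
    (h3 : -1 ≤ a + b + c ∧ a + b + c ≤ 1) (h0 : c * d - a * b = 0) :
    h3_ty a b c d ≤ 9 ∧
    (h3_ty a b c d = 0 → a = 0 ∧ b = 0 ∧ c = 0 ∧ d = 0) ∧
    (h3_ty a b c d = 1 → (a = 1 ∨ a = -1) ∧ b = a ∧ c = -a ∧ d = -a) ∧
    (h3_ty a b c d = 9 → (a = 1 ∨ a = -1) ∧ b = 0 ∧ c = -a ∧ d = 0) ∧
    (h3_ty a b c d = 2 → (a = 1 ∨ a = -1) ∧ b = 0 ∧ c = 0 ∧ d = -a) ∧
    (h3_ty a b c d = 3 → (a = 1 ∨ a = -1) ∧ b = 0 ∧ c = 0 ∧ d = 0) ∧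
    (h3_ty a b c d = 4 → a = 0 ∧ (b = 1 ∨ b = -1) ∧ c = -b ∧ d = 0) ∧
    (h3_ty a b c d = 5 → a = 0 ∧ (b = 1 ∨ b = -1) ∧ c = 0 ∧ d = -b) ∧
    (h3_ty a b c d = 6 → a = 0 ∧ (b = 1 ∨ b = -1) ∧ c = 0 ∧ d = 0) ∧
    (h3_ty a b c d = 7 → a = 0 ∧ b = 0 ∧ (c = 1 ∨ c = -1) ∧ d = 0) ∧
    (h3_ty a b c d = 8 → a = 0 ∧ b = 0 ∧ c = 0 ∧ (d = 1 ∨ d = -1)) := by
  rcases ha with rfl | rfl | rfl <;> rcases hb with rfl | rfl | rfl <;>
    rcases hc with rfl | rfl | rfl <;> rcases hd with rfl | rfl | rfl <;>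
    first | (exfalso; omega) | (simp +decide)

theorem h3_T_01 (k : ℕ) (a b c d : ℤ) : h3_T k a b c d = 0 ∨ h3_T k a b c d = 1 := by
  unfold h3_T
  split_ifs
  · exact Or.inr rfl
  · exact Or.inl rfl

theorem h3_T_eq_one_iff (k : ℕ) (a b c d : ℤ) : h3_T k a b c d = 1 ↔ h3_ty a b c d = k := by
  unfold h3_T
  split_ifs with h
  · simp [h]
  · simp [h]

/-! ### the X-side: no collapse among `cC - cD`, `cA + cB + cD`, `cA + cB + cC` forces coherence -/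

theorem h3_coherent_of_X (triv : ι) (cA cB cC cD : ι → ℤ)
    (hAA : ∑ x, cA x ^ 2 = 4) (hAB : ∑ x, cA x * cB x = 1) (hAC : ∑ x, cA x * cC x = -2)
    (hAD : ∑ x, cA x * cD x = -2) (hBB : ∑ x, cB x ^ 2 = 4) (hBC : ∑ x, cB x * cC x = -2)
    (hBD : ∑ x, cB x * cD x = -2) (hCC : ∑ x, cC x ^ 2 = 4) (hCD : ∑ x, cC x * cD x = 1)
    (hDD : ∑ x, cD x ^ 2 = 4)
    (hA1 : cA triv = -1) (hB1 : cB triv = 0) (hC1 : cC triv = 1) (hD1 : cD triv = 0)
    (hEA : ∀ x, cA x = -1 ∨ cA x = 0 ∨ cA x = 1) (hEB : ∀ x, cB x = -1 ∨ cB x = 0 ∨ cB x = 1)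
    (hEC : ∀ x, cC x = -1 ∨ cC x = 0 ∨ cC x = 1) (hED : ∀ x, cD x = -1 ∨ cD x = 0 ∨ cD x = 1)
    (hX1 : ∀ x, -1 ≤ cC x - cD x ∧ cC x - cD x ≤ 1)
    (hX2 : ∀ x, -1 ≤ cA x + cB x + cD x ∧ cA x + cB x + cD x ≤ 1)
    (hX3 : ∀ x, -1 ≤ cA x + cB x + cC x ∧ cA x + cB x + cC x ≤ 1) :
    Coherent triv cA cB cC cD := by
  have hF0 : ∀ x, cC x * cD x - cA x * cB x = 0 := by
    have hnn : ∀ x ∈ Finset.univ, 0 ≤ cC x * cD x - cA x * cB x := fun x _ =>
      h3_int_key _ _ _ _ (hEA x) (hEB x) (hEC x) (hED x) (hX1 x) (hX2 x) (hX3 x)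
    have hsum : ∑ x, (cC x * cD x - cA x * cB x) = 0 := by
      rw [Finset.sum_sub_distrib, hCD, hAB]; norm_num
    intro x
    exact (Finset.sum_eq_zero_iff_of_nonneg hnn).mp hsum x (Finset.mem_univ x)
  have hcol := fun x =>
    h3_col _ _ _ _ (hEA x) (hEB x) (hEC x) (hED x) (hX1 x) (hX2 x) (hX3 x) (hF0 x)
  have hval := fun x =>
    h3_col_val _ _ _ _ (hEA x) (hEB x) (hEC x) (hED x) (hX1 x) (hX2 x) (hX3 x) (hF0 x)
  -- sums of the type indicators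
  have hS1 : ∑ x, h3_T 1 (cA x) (cB x) (cC x) (cD x) = 1 := by
    rw [← hAB]; exact Finset.sum_congr rfl (fun x _ => ((hcol x).1).symm)
  have hS9 : ∑ x, h3_T 9 (cA x) (cB x) (cC x) (cD x) = 1 := by
    have : ∑ x, cA x * cC x = -(∑ x, h3_T 1 (cA x) (cB x) (cC x) (cD x) +
        ∑ x, h3_T 9 (cA x) (cB x) (cC x) (cD x)) := by
      rw [← Finset.sum_add_distrib, ← Finset.sum_neg_distrib]
      exact Finset.sum_congr rfl (fun x _ => (hcol x).2.1)
    omega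
  have hS2 : ∑ x, h3_T 2 (cA x) (cB x) (cC x) (cD x) = 1 := by
    have : ∑ x, cA x * cD x = -(∑ x, h3_T 1 (cA x) (cB x) (cC x) (cD x) +
        ∑ x, h3_T 2 (cA x) (cB x) (cC x) (cD x)) := by
      rw [← Finset.sum_add_distrib, ← Finset.sum_neg_distrib]
      exact Finset.sum_congr rfl (fun x _ => (hcol x).2.2.1)
    omega
  have hS3 : ∑ x, h3_T 3 (cA x) (cB x) (cC x) (cD x) = 1 := by
    have : ∑ x, cA x ^ 2 = ∑ x, h3_T 1 (cA x) (cB x) (cC x) (cD x) +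
        ∑ x, h3_T 9 (cA x) (cB x) (cC x) (cD x) + ∑ x, h3_T 2 (cA x) (cB x) (cC x) (cD x) +
        ∑ x, h3_T 3 (cA x) (cB x) (cC x) (cD x) := by
      rw [← Finset.sum_add_distrib, ← Finset.sum_add_distrib, ← Finset.sum_add_distrib]
      exact Finset.sum_congr rfl (fun x _ => (hcol x).2.2.2.1)
    omega
  have hS4 : ∑ x, h3_T 4 (cA x) (cB x) (cC x) (cD x) = 1 := by
    have : ∑ x, cB x * cC x = -(∑ x, h3_T 1 (cA x) (cB x) (cC x) (cD x) +
        ∑ x, h3_T 4 (cA x) (cB x) (cC x) (cD x)) := by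
      rw [← Finset.sum_add_distrib, ← Finset.sum_neg_distrib]
      exact Finset.sum_congr rfl (fun x _ => (hcol x).2.2.2.2.1)
    omega
  have hS5 : ∑ x, h3_T 5 (cA x) (cB x) (cC x) (cD x) = 1 := by
    have : ∑ x, cB x * cD x = -(∑ x, h3_T 1 (cA x) (cB x) (cC x) (cD x) +
        ∑ x, h3_T 5 (cA x) (cB x) (cC x) (cD x)) := by
      rw [← Finset.sum_add_distrib, ← Finset.sum_neg_distrib]
      exact Finset.sum_congr rfl (fun x _ => (hcol x).2.2.2.2.2.1)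
    omega
  have hS6 : ∑ x, h3_T 6 (cA x) (cB x) (cC x) (cD x) = 1 := by
    have : ∑ x, cB x ^ 2 = ∑ x, h3_T 1 (cA x) (cB x) (cC x) (cD x) +
        ∑ x, h3_T 4 (cA x) (cB x) (cC x) (cD x) + ∑ x, h3_T 5 (cA x) (cB x) (cC x) (cD x) +
        ∑ x, h3_T 6 (cA x) (cB x) (cC x) (cD x) := by
      rw [← Finset.sum_add_distrib, ← Finset.sum_add_distrib, ← Finset.sum_add_distrib]
      exact Finset.sum_congr rfl (fun x _ => (hcol x).2.2.2.2.2.2.1)
    omega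
  have hS7 : ∑ x, h3_T 7 (cA x) (cB x) (cC x) (cD x) = 1 := by
    have : ∑ x, cC x ^ 2 = ∑ x, h3_T 1 (cA x) (cB x) (cC x) (cD x) +
        ∑ x, h3_T 9 (cA x) (cB x) (cC x) (cD x) + ∑ x, h3_T 4 (cA x) (cB x) (cC x) (cD x) +
        ∑ x, h3_T 7 (cA x) (cB x) (cC x) (cD x) := by
      rw [← Finset.sum_add_distrib, ← Finset.sum_add_distrib, ← Finset.sum_add_distrib]
      exact Finset.sum_congr rfl (fun x _ => (hcol x).2.2.2.2.2.2.2.1)
    omega
  have hS8 : ∑ x, h3_T 8 (cA x) (cB x) (cC x) (cD x) = 1 := by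
    have : ∑ x, cD x ^ 2 = ∑ x, h3_T 1 (cA x) (cB x) (cC x) (cD x) +
        ∑ x, h3_T 2 (cA x) (cB x) (cC x) (cD x) + ∑ x, h3_T 5 (cA x) (cB x) (cC x) (cD x) +
        ∑ x, h3_T 8 (cA x) (cB x) (cC x) (cD x) := by
      rw [← Finset.sum_add_distrib, ← Finset.sum_add_distrib, ← Finset.sum_add_distrib]
      exact Finset.sum_congr rfl (fun x _ => (hcol x).2.2.2.2.2.2.2.2)
    omega
  -- the unique index of each type
  have huniq : ∀ k : ℕ, ∑ x, h3_T k (cA x) (cB x) (cC x) (cD x) = 1 →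
      ∃ e : ι, ∀ x, x = e ↔ h3_ty (cA x) (cB x) (cC x) (cD x) = k := by
    intro k hk
    obtain ⟨e, he1, he0⟩ := h3_unique_one (fun x => h3_T k (cA x) (cB x) (cC x) (cD x))
      (fun x => h3_T_01 k _ _ _ _) hk
    refine ⟨e, fun x => ⟨?_, ?_⟩⟩
    · rintro rfl
      exact (h3_T_eq_one_iff k _ _ _ _).mp he1
    · intro hx
      by_contra hne
      have h0 := he0 x hne
      have h1 := (h3_T_eq_one_iff k _ _ _ _).mpr hx
      omega
  obtain ⟨e1, he1⟩ := huniq 1 hS1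
  obtain ⟨e2, he2⟩ := huniq 2 hS2
  obtain ⟨e3, he3⟩ := huniq 3 hS3
  obtain ⟨e4, he4⟩ := huniq 4 hS4
  obtain ⟨e5, he5⟩ := huniq 5 hS5
  obtain ⟨e6, he6⟩ := huniq 6 hS6
  obtain ⟨e7, he7⟩ := huniq 7 hS7
  obtain ⟨e8, he8⟩ := huniq 8 hS8
  obtain ⟨e9, he9⟩ := huniq 9 hS9
  have htriv : triv = e9 := by
    rw [he9 triv, hA1, hB1, hC1, hD1]
    decide
  subst htriv
  have t1 := (he1 e1).mp rfl
  have t2 := (he2 e2).mp rfl
  have t3 := (he3 e3).mp rfl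
  have t4 := (he4 e4).mp rfl
  have t5 := (he5 e5).mp rfl
  have t6 := (he6 e6).mp rfl
  have t7 := (he7 e7).mp rfl
  have t8 := (he8 e8).mp rfl
  have t9 := (he9 triv).mp rfl
  refine ⟨e1, e2, e3, e4, e5, e6, e7, e8, ?_, cA e1, cA e2, cA e3, cB e4, cB e5, cB e6, cC e7,
    cD e8, ?_, ?_, ?_, ?_, ?_, ?_, ?_, ?_, ?_⟩
  · apply List.Nodup.of_map (fun x => h3_ty (cA x) (cB x) (cC x) (cD x))
    simp only [List.map, t1, t2, t3, t4, t5, t6, t7, t8, t9]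
    decide
  · exact ((hval e1).2.2.1 t1).1
  · exact ((hval e2).2.2.2.2.1 t2).1
  · exact ((hval e3).2.2.2.2.2.1 t3).1
  · exact ((hval e4).2.2.2.2.2.2.1 t4).2.1
  · exact ((hval e5).2.2.2.2.2.2.2.1 t5).2.1
  · exact ((hval e6).2.2.2.2.2.2.2.2.1 t6).2.1
  · exact ((hval e7).2.2.2.2.2.2.2.2.2.1 t7).2.2.1
  · exact ((hval e8).2.2.2.2.2.2.2.2.2.2 t8).2.2.2
  · intro x
    have i9 : (if x = triv then (1 : ℤ) else 0) =
        if h3_ty (cA x) (cB x) (cC x) (cD x) = 9 then 1 else 0 := if_congr (he9 x) rfl rfl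
    have i1 : (if x = e1 then (1 : ℤ) else 0) =
        if h3_ty (cA x) (cB x) (cC x) (cD x) = 1 then 1 else 0 := if_congr (he1 x) rfl rfl
    have i2 : (if x = e2 then (1 : ℤ) else 0) =
        if h3_ty (cA x) (cB x) (cC x) (cD x) = 2 then 1 else 0 := if_congr (he2 x) rfl rfl
    have i3 : (if x = e3 then (1 : ℤ) else 0) =
        if h3_ty (cA x) (cB x) (cC x) (cD x) = 3 then 1 else 0 := if_congr (he3 x) rfl rfl
    have i4 : (if x = e4 then (1 : ℤ) else 0) =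
        if h3_ty (cA x) (cB x) (cC x) (cD x) = 4 then 1 else 0 := if_congr (he4 x) rfl rfl
    have i5 : (if x = e5 then (1 : ℤ) else 0) =
        if h3_ty (cA x) (cB x) (cC x) (cD x) = 5 then 1 else 0 := if_congr (he5 x) rfl rfl
    have i6 : (if x = e6 then (1 : ℤ) else 0) =
        if h3_ty (cA x) (cB x) (cC x) (cD x) = 6 then 1 else 0 := if_congr (he6 x) rfl rfl
    have i7 : (if x = e7 then (1 : ℤ) else 0) =
        if h3_ty (cA x) (cB x) (cC x) (cD x) = 7 then 1 else 0 := if_congr (he7 x) rfl rfl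
    have i8 : (if x = e8 then (1 : ℤ) else 0) =
        if h3_ty (cA x) (cB x) (cC x) (cD x) = 8 then 1 else 0 := if_congr (he8 x) rfl rfl
    rw [i9, i1, i2, i3, i4, i5, i6, i7, i8]
    obtain ⟨hle, v0, v1, v9, v2, v3, v4, v5, v6, v7, v8⟩ := hval x
    have hk : h3_ty (cA x) (cB x) (cC x) (cD x) = 0 ∨ h3_ty (cA x) (cB x) (cC x) (cD x) = 1 ∨
        h3_ty (cA x) (cB x) (cC x) (cD x) = 2 ∨ h3_ty (cA x) (cB x) (cC x) (cD x) = 3 ∨
        h3_ty (cA x) (cB x) (cC x) (cD x) = 4 ∨ h3_ty (cA x) (cB x) (cC x) (cD x) = 5 ∨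
        h3_ty (cA x) (cB x) (cC x) (cD x) = 6 ∨ h3_ty (cA x) (cB x) (cC x) (cD x) = 7 ∨
        h3_ty (cA x) (cB x) (cC x) (cD x) = 8 ∨ h3_ty (cA x) (cB x) (cC x) (cD x) = 9 := by omega
    rcases hk with h | h | h | h | h | h | h | h | h | h
    · obtain ⟨a0, b0, c0, d0⟩ := v0 h
      rw [h, a0, b0, c0, d0]; simp
    · obtain ⟨-, b0, c0, d0⟩ := v1 h
      have hx := (he1 x).mpr h
      subst hx
      rw [h, b0, c0, d0]; simp
    · obtain ⟨-, b0, c0, d0⟩ := v2 h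
      have hx := (he2 x).mpr h
      subst hx
      rw [h, b0, c0, d0]; simp
    · obtain ⟨-, b0, c0, d0⟩ := v3 h
      have hx := (he3 x).mpr h
      subst hx
      rw [h, b0, c0, d0]; simp
    · obtain ⟨a0, -, c0, d0⟩ := v4 h
      have hx := (he4 x).mpr h
      subst hx
      rw [h, a0, c0, d0]; simp
    · obtain ⟨a0, -, c0, d0⟩ := v5 h
      have hx := (he5 x).mpr h
      subst hx
      rw [h, a0, c0, d0]; simp
    · obtain ⟨a0, -, c0, d0⟩ := v6 h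
      have hx := (he6 x).mpr h
      subst hx
      rw [h, a0, c0, d0]; simp
    · obtain ⟨a0, b0, -, d0⟩ := v7 h
      have hx := (he7 x).mpr h
      subst hx
      rw [h, a0, b0, d0]; simp
    · obtain ⟨a0, b0, c0, -⟩ := v8 h
      have hx := (he8 x).mpr h
      subst hx
      rw [h, a0, b0, c0]; simp
    · obtain ⟨-, b0, c0, d0⟩ := v9 h
      have hx := (he9 x).mpr h
      subst hx
      rw [h, hA1, hB1, hC1, hD1]; simp

/-! ### the Y-side, by the symmetry `(cA, cB, cC, cD) ↦ (-cC, -cD, -cA, -cB)` -/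

omit [Fintype ι] in
theorem h3_coherent_symm (triv : ι) (cA cB cC cD : ι → ℤ)
    (h : Coherent triv (fun x => -cC x) (fun x => -cD x) (fun x => -cA x) (fun x => -cB x)) :
    Coherent triv cA cB cC cD := by
  obtain ⟨e1, e2, e3, e4, e5, e6, e7, e8, hnd, s1, s2, s3, s4, s5, s6, s7, s8, h1, h2, h3, h4, h5,
    h6, h7, h8, hf⟩ := h
  refine ⟨e1, e4, e7, e2, e5, e8, e3, e6, ?_, s1, s4, -s7, s2, s5, -s8, -s3, -s6, h1, h4, ?_, h2,
    h5, ?_, ?_, ?_, ?_⟩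
  · have hp : List.Perm [triv, e1, e4, e7, e2, e5, e8, e3, e6]
        [triv, e1, e2, e3, e4, e5, e6, e7, e8] := by
      rw [List.perm_iff_count]
      intro a
      simp only [List.count_cons, List.count_nil]
      ring
    exact hp.nodup_iff.mpr hnd
  · rcases h7 with h | h <;> rw [h] <;> norm_num
  · rcases h8 with h | h <;> rw [h] <;> norm_num
  · rcases h3 with h | h <;> rw [h] <;> norm_num
  · rcases h6 with h | h <;> rw [h] <;> norm_num
  · intro x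
    obtain ⟨fa, fb, fc, fd⟩ := hf x
    simp only at fa fb fc fd
    refine ⟨?_, ?_, ?_, ?_⟩
    · linarith
    · linarith
    · linarith
    · linarith

/-! ### the main theorem -/

theorem h3_coll_or_small (v : ι → ℤ) (hn : ∑ x, v x ^ 2 = 6) :
    Coll v ∨ ∀ x, -1 ≤ v x ∧ v x ≤ 1 := by
  by_cases h : ∀ x, -1 ≤ v x ∧ v x ≤ 1
  · exact Or.inr h
  · left
    push Not at h
    obtain ⟨x, hx⟩ := h
    have hle : v x ^ 2 ≤ 6 := by
      rw [← hn]
      exact Finset.single_le_sum (f := fun i => v i ^ 2) (fun i _ => sq_nonneg (v i))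
        (Finset.mem_univ x)
    have h1 : -2 ≤ v x := by nlinarith
    have h2 : v x ≤ 2 := by nlinarith
    apply h3_coll_of_two v hn x
    by_cases h3 : -1 ≤ v x
    · have := hx h3
      left; omega
    · right; omega

/-- **H72-P4**: classification of the embeddings. -/
theorem embedding_cases (triv : ι) (cA cB cC cD deg : ι → ℤ)
    (hAA : ∑ x, cA x ^ 2 = 4) (hAB : ∑ x, cA x * cB x = 1) (hAC : ∑ x, cA x * cC x = -2)
    (hAD : ∑ x, cA x * cD x = -2) (hBB : ∑ x, cB x ^ 2 = 4) (hBC : ∑ x, cB x * cC x = -2)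
    (hBD : ∑ x, cB x * cD x = -2) (hCC : ∑ x, cC x ^ 2 = 4) (hCD : ∑ x, cC x * cD x = 1)
    (hDD : ∑ x, cD x ^ 2 = 4)
    (hA1 : cA triv = -1) (hB1 : cB triv = 0) (hC1 : cC triv = 1) (hD1 : cD triv = 0)
    (hdeg : ∀ x, 0 < deg x)
    (hA0 : ∑ x, cA x * deg x = 0) (hB0 : ∑ x, cB x * deg x = 0)
    (hC0 : ∑ x, cC x * deg x = 0) (hD0 : ∑ x, cD x * deg x = 0) :
    Coherent triv cA cB cC cD ∨
      ((Coll (cC - cD) ∨ Coll (cA + cB + cD) ∨ Coll (cA + cB + cC)) ∧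
        (Coll (cA - cB) ∨ Coll (cA + cC + cD) ∨ Coll (cB + cC + cD))) := by
  have hEA := h3_entry cA deg hAA hdeg hA0
  have hEB := h3_entry cB deg hBB hdeg hB0
  have hEC := h3_entry cC deg hCC hdeg hC0
  have hED := h3_entry cD deg hDD hdeg hD0
  -- norms of the six vectors
  have nCD : ∑ x, (cC - cD) x ^ 2 = 6 := by
    have : ∀ x, (cC - cD) x ^ 2 = cC x ^ 2 - 2 * (cC x * cD x) + cD x ^ 2 := fun x => by
      simp only [Pi.sub_apply]; ring
    simp only [this, Finset.sum_add_distrib, Finset.sum_sub_distrib, ← Finset.mul_sum]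
    rw [hCC, hCD, hDD]; norm_num
  have nAB : ∑ x, (cA - cB) x ^ 2 = 6 := by
    have : ∀ x, (cA - cB) x ^ 2 = cA x ^ 2 - 2 * (cA x * cB x) + cB x ^ 2 := fun x => by
      simp only [Pi.sub_apply]; ring
    simp only [this, Finset.sum_add_distrib, Finset.sum_sub_distrib, ← Finset.mul_sum]
    rw [hAA, hAB, hBB]; norm_num
  have nABD : ∑ x, (cA + cB + cD) x ^ 2 = 6 := by
    have : ∀ x, (cA + cB + cD) x ^ 2 = cA x ^ 2 + cB x ^ 2 + cD x ^ 2 + 2 * (cA x * cB x) +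
        2 * (cA x * cD x) + 2 * (cB x * cD x) := fun x => by
      simp only [Pi.add_apply]; ring
    simp only [this, Finset.sum_add_distrib, ← Finset.mul_sum]
    rw [hAA, hBB, hDD, hAB, hAD, hBD]; norm_num
  have nABC : ∑ x, (cA + cB + cC) x ^ 2 = 6 := by
    have : ∀ x, (cA + cB + cC) x ^ 2 = cA x ^ 2 + cB x ^ 2 + cC x ^ 2 + 2 * (cA x * cB x) +
        2 * (cA x * cC x) + 2 * (cB x * cC x) := fun x => by
      simp only [Pi.add_apply]; ring
    simp only [this, Finset.sum_add_distrib, ← Finset.mul_sum]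
    rw [hAA, hBB, hCC, hAB, hAC, hBC]; norm_num
  have nACD : ∑ x, (cA + cC + cD) x ^ 2 = 6 := by
    have : ∀ x, (cA + cC + cD) x ^ 2 = cA x ^ 2 + cC x ^ 2 + cD x ^ 2 + 2 * (cA x * cC x) +
        2 * (cA x * cD x) + 2 * (cC x * cD x) := fun x => by
      simp only [Pi.add_apply]; ring
    simp only [this, Finset.sum_add_distrib, ← Finset.mul_sum]
    rw [hAA, hCC, hDD, hAC, hAD, hCD]; norm_num
  have nBCD : ∑ x, (cB + cC + cD) x ^ 2 = 6 := by
    have : ∀ x, (cB + cC + cD) x ^ 2 = cB x ^ 2 + cC x ^ 2 + cD x ^ 2 + 2 * (cB x * cC x) +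
        2 * (cB x * cD x) + 2 * (cC x * cD x) := fun x => by
      simp only [Pi.add_apply]; ring
    simp only [this, Finset.sum_add_distrib, ← Finset.mul_sum]
    rw [hBB, hCC, hDD, hBC, hBD, hCD]; norm_num
  have hXalt : (Coll (cC - cD) ∨ Coll (cA + cB + cD) ∨ Coll (cA + cB + cC)) ∨
      ((∀ x, -1 ≤ (cC - cD) x ∧ (cC - cD) x ≤ 1) ∧
        (∀ x, -1 ≤ (cA + cB + cD) x ∧ (cA + cB + cD) x ≤ 1) ∧
        (∀ x, -1 ≤ (cA + cB + cC) x ∧ (cA + cB + cC) x ≤ 1)) := by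
    rcases h3_coll_or_small _ nCD with h1 | h1
    · exact Or.inl (Or.inl h1)
    rcases h3_coll_or_small _ nABD with h2 | h2
    · exact Or.inl (Or.inr (Or.inl h2))
    rcases h3_coll_or_small _ nABC with h3 | h3
    · exact Or.inl (Or.inr (Or.inr h3))
    exact Or.inr ⟨h1, h2, h3⟩
  have hYalt : (Coll (cA - cB) ∨ Coll (cA + cC + cD) ∨ Coll (cB + cC + cD)) ∨
      ((∀ x, -1 ≤ (cA - cB) x ∧ (cA - cB) x ≤ 1) ∧
        (∀ x, -1 ≤ (cA + cC + cD) x ∧ (cA + cC + cD) x ≤ 1) ∧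
        (∀ x, -1 ≤ (cB + cC + cD) x ∧ (cB + cC + cD) x ≤ 1)) := by
    rcases h3_coll_or_small _ nAB with h1 | h1
    · exact Or.inl (Or.inl h1)
    rcases h3_coll_or_small _ nACD with h2 | h2
    · exact Or.inl (Or.inr (Or.inl h2))
    rcases h3_coll_or_small _ nBCD with h3 | h3
    · exact Or.inl (Or.inr (Or.inr h3))
    exact Or.inr ⟨h1, h2, h3⟩
  rcases hXalt with hx | ⟨x1, x2, x3⟩
  · rcases hYalt with hy | ⟨y1, y2, y3⟩
    · exact Or.inr ⟨hx, hy⟩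
    · left
      apply h3_coherent_symm
      apply h3_coherent_of_X triv (fun x => -cC x) (fun x => -cD x) (fun x => -cA x)
        (fun x => -cB x)
      · simpa using hCC
      · simpa using hCD
      · simpa [mul_comm] using hAC
      · simpa [mul_comm] using hBC
      · simpa using hDD
      · simpa [mul_comm] using hAD
      · simpa [mul_comm] using hBD
      · simpa using hAA
      · simpa using hAB
      · simpa using hBB
      · simp [hC1]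
      · simp [hD1]
      · simp [hA1]
      · simp [hB1]
      · intro x; rcases hEC x with h | h | h <;> simp [h]
      · intro x; rcases hED x with h | h | h <;> simp [h]
      · intro x; rcases hEA x with h | h | h <;> simp [h]
      · intro x; rcases hEB x with h | h | h <;> simp [h]
      · intro x
        have := y1 x
        simp only [Pi.sub_apply] at this
        constructor <;> linarith [this.1, this.2]
      · intro x
        have := y3 x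
        simp only [Pi.add_apply] at this
        constructor <;> linarith [this.1, this.2]
      · intro x
        have := y2 x
        simp only [Pi.add_apply] at this
        constructor <;> linarith [this.1, this.2]
  · left
    exact h3_coherent_of_X triv cA cB cC cD hAA hAB hAC hAD hBB hBC hBD hCC hCD hDD hA1 hB1 hC1
      hD1 hEA hEB hEC hED x1 x2 x3

end Cfsg.Agent.Helper6.H72
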