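import Mathlib
import Cfsg.Agent.H72.H1_Finish
import Cfsg.Agent.H72.H3_P4

/-!
# S3716 / H72, piece P7c: the coherent endgame

From the coherent shape of the four columns `cA cB cC cD`, the congruence
`deg x ≡ 4 (cA x + cB x - cC x - cD x) (mod 9)` and the disjunction produced by the coherent cores,
the signed degree `D5 = s5 * deg e5` is `-1`, so `e5` is a character of degree one different from
the trivial one.
-/

set_option autoImplicit false
set_option linter.style.haveILetI false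

namespace Cfsg.Agent.Helper6.H72

variable {ι : Type*} [DecidableEq ι]

theorem h1_sign_mul_pos (s d : ℤ) (hs : s = 1 ∨ s = -1) (hd : 0 < d) (h : s * d = -1) :
    s = -1 ∧ d = 1 := by
  rcases hs with rfl | rfl
  · omega
  · constructor
    · rfl
    · omega

/-- explicit form of the coherent endgame (integers) -/
theorem coherent_finish (triv : ι) (cA cB cC cD deg : ι → ℤ) (hdeg : ∀ x, 0 < deg x)
    (hcong : ∀ x, (9 : ℤ) ∣ deg x - 4 * (cA x + cB x - cC x - cD x))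
    (e1 e2 e3 e4 e5 e6 e7 e8 : ι) (hnd : [triv, e1, e2, e3, e4, e5, e6, e7, e8].Nodup)
    (s1 s2 s3 s4 s5 s6 s7 s8 : ℤ) (h1 : s1 = 1 ∨ s1 = -1) (h2 : s2 = 1 ∨ s2 = -1)
    (h4 : s4 = 1 ∨ s4 = -1) (h5 : s5 = 1 ∨ s5 = -1)
    (hform : ∀ x,
        cA x = -(if x = triv then 1 else 0) + s1 * (if x = e1 then 1 else 0) +
          s2 * (if x = e2 then 1 else 0) + s3 * (if x = e3 then 1 else 0) ∧
        cB x = s1 * (if x = e1 then 1 else 0) + s4 * (if x = e4 then 1 else 0) +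
          s5 * (if x = e5 then 1 else 0) + s6 * (if x = e6 then 1 else 0) ∧
        cC x = (if x = triv then 1 else 0) - s1 * (if x = e1 then 1 else 0) -
          s4 * (if x = e4 then 1 else 0) + s7 * (if x = e7 then 1 else 0) ∧
        cD x = -(s1 * (if x = e1 then 1 else 0)) - s2 * (if x = e2 then 1 else 0) -
          s5 * (if x = e5 then 1 else 0) + s8 * (if x = e8 then 1 else 0))
    (hcore : s5 * deg e5 = -1 ∨
      9 * ((1 - s1 * deg e1) * (s1 * deg e1 + s2 * deg e2)) = 17 * (s2 * deg e2) ∨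
      9 * ((1 - s1 * deg e1) * (s1 * deg e1 + s4 * deg e4)) = 17 * (s4 * deg e4) ∨
      9 * ((s1 * deg e1 + s4 * deg e4) * (s1 * deg e1 + s5 * deg e5)) =
        17 * ((s4 * deg e4) * (s5 * deg e5)) ∨
      (1 - s1 * deg e1) * (s1 * deg e1 + s2 * deg e2) = 9801 * (s2 * deg e2) ∨
      (1 - s1 * deg e1) * (s1 * deg e1 + s4 * deg e4) = 9801 * (s4 * deg e4)) :
    s5 = -1 ∧ deg e5 = 1 ∧ e5 ≠ triv := by
  simp only [List.nodup_cons, List.mem_cons, List.not_mem_nil, or_false, not_or,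
    List.nodup_nil, and_true] at hnd
  obtain ⟨⟨ht1, ht2, ht3, ht4, ht5, ht6, ht7, ht8⟩, ⟨h12, h13, h14, h15, h16, h17, h18⟩,
    ⟨h23, h24, h25, h26, h27, h28⟩, ⟨h34, h35, h36, h37, h38⟩, ⟨h45, h46, h47, h48⟩,
    ⟨h56, h57, h58⟩, ⟨h67, h68⟩, h78⟩ := hnd
  -- values at e1
  have v1 : cA e1 + cB e1 - cC e1 - cD e1 = 4 * s1 := by
    obtain ⟨a, b, c, d⟩ := hform e1
    rw [a, b, c, d]
    simp only [if_neg (Ne.symm ht1), if_true, if_neg h12, if_neg h13, if_neg h14, if_neg h15,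
      if_neg h16, if_neg h17, if_neg h18]
    ring
  have v2 : cA e2 + cB e2 - cC e2 - cD e2 = 2 * s2 := by
    obtain ⟨a, b, c, d⟩ := hform e2
    rw [a, b, c, d]
    simp only [if_neg (Ne.symm ht2), if_true, if_neg (Ne.symm h12), if_neg h23, if_neg h24,
      if_neg h25, if_neg h26, if_neg h27, if_neg h28]
    ring
  have v4 : cA e4 + cB e4 - cC e4 - cD e4 = 2 * s4 := by
    obtain ⟨a, b, c, d⟩ := hform e4
    rw [a, b, c, d]
    simp only [if_neg (Ne.symm ht4), if_true, if_neg (Ne.symm h14), if_neg (Ne.symm h24),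
      if_neg (Ne.symm h34), if_neg h45, if_neg h46, if_neg h47, if_neg h48]
    ring
  have v5 : cA e5 + cB e5 - cC e5 - cD e5 = 2 * s5 := by
    obtain ⟨a, b, c, d⟩ := hform e5
    rw [a, b, c, d]
    simp only [if_neg (Ne.symm ht5), if_true, if_neg (Ne.symm h15), if_neg (Ne.symm h25),
      if_neg (Ne.symm h35), if_neg (Ne.symm h45), if_neg h56, if_neg h57, if_neg h58]
    ring
  have c1 := hcong e1
  rw [v1] at c1
  have c2 := hcong e2
  rw [v2] at c2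
  have c4 := hcong e4
  rw [v4] at c4
  have c5 := hcong e5
  rw [v5] at c5
  have m1 : (s1 * deg e1) % 9 = 7 := by
    obtain ⟨m, hm⟩ := c1
    rcases h1 with rfl | rfl <;> omega
  have m2 : (s2 * deg e2) % 9 = 8 := by
    obtain ⟨m, hm⟩ := c2
    rcases h2 with rfl | rfl <;> omega
  have m4 : (s4 * deg e4) % 9 = 8 := by
    obtain ⟨m, hm⟩ := c4
    rcases h4 with rfl | rfl <;> omega
  have m5 : (s5 * deg e5) % 9 = 8 := by
    obtain ⟨m, hm⟩ := c5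
    rcases h5 with rfl | rfl <;> omega
  have hfin := finish_arith (s1 * deg e1) (s2 * deg e2) (s4 * deg e4) (s5 * deg e5) m1 m2 m4 m5 hcore
  obtain ⟨hs5, hd5⟩ := h1_sign_mul_pos s5 (deg e5) h5 (hdeg e5) hfin
  exact ⟨hs5, hd5, Ne.symm ht5⟩

/-- the same with the disjunction stated over `ℂ` (as produced by `core_F1` / `core_Ft`) for
`D1 D2 D4 D5 : ℂ` equal to the casts of the signed degrees -/
theorem coherent_finish_complex (triv : ι) (cA cB cC cD deg : ι → ℤ) (hdeg : ∀ x, 0 < deg x)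
    (hcong : ∀ x, (9 : ℤ) ∣ deg x - 4 * (cA x + cB x - cC x - cD x))
    (e1 e2 e3 e4 e5 e6 e7 e8 : ι) (hnd : [triv, e1, e2, e3, e4, e5, e6, e7, e8].Nodup)
    (s1 s2 s3 s4 s5 s6 s7 s8 : ℤ) (h1 : s1 = 1 ∨ s1 = -1) (h2 : s2 = 1 ∨ s2 = -1)
    (h4 : s4 = 1 ∨ s4 = -1) (h5 : s5 = 1 ∨ s5 = -1)
    (hform : ∀ x,
        cA x = -(if x = triv then 1 else 0) + s1 * (if x = e1 then 1 else 0) +
          s2 * (if x = e2 then 1 else 0) + s3 * (if x = e3 then 1 else 0) ∧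
        cB x = s1 * (if x = e1 then 1 else 0) + s4 * (if x = e4 then 1 else 0) +
          s5 * (if x = e5 then 1 else 0) + s6 * (if x = e6 then 1 else 0) ∧
        cC x = (if x = triv then 1 else 0) - s1 * (if x = e1 then 1 else 0) -
          s4 * (if x = e4 then 1 else 0) + s7 * (if x = e7 then 1 else 0) ∧
        cD x = -(s1 * (if x = e1 then 1 else 0)) - s2 * (if x = e2 then 1 else 0) -
          s5 * (if x = e5 then 1 else 0) + s8 * (if x = e8 then 1 else 0))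
    (D1 D2 D4 D5 : ℂ) (hD1 : D1 = ((s1 * deg e1 : ℤ) : ℂ)) (hD2 : D2 = ((s2 * deg e2 : ℤ) : ℂ))
    (hD4 : D4 = ((s4 * deg e4 : ℤ) : ℂ)) (hD5 : D5 = ((s5 * deg e5 : ℤ) : ℂ))
    (hcore : D5 = -1 ∨ 9 * ((1 - D1) * (D1 + D2)) = 17 * D2 ∨
      9 * ((1 - D1) * (D1 + D4)) = 17 * D4 ∨
      9 * ((D1 + D4) * (D1 + D5)) = 17 * (D4 * D5) ∨ (1 - D1) * (D1 + D2) = 9801 * D2 ∨
      (1 - D1) * (D1 + D4) = 9801 * D4) :
    s5 = -1 ∧ deg e5 = 1 ∧ e5 ≠ triv := by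
  apply coherent_finish triv cA cB cC cD deg hdeg hcong e1 e2 e3 e4 e5 e6 e7 e8 hnd
    s1 s2 s3 s4 s5 s6 s7 s8 h1 h2 h4 h5 hform
  subst hD1 hD2 hD4 hD5
  rcases hcore with h | h | h | h | h | h
  · left; exact_mod_cast h
  · right; left; exact_mod_cast h
  · right; right; left; exact_mod_cast h
  · right; right; right; left; exact_mod_cast h
  · right; right; right; right; left; exact_mod_cast h
  · right; right; right; right; right; exact_mod_cast h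

/-- packaged form: from `Coherent` and a core valid for all witnesses, a non-trivial index of
degree one -/
theorem exists_linear_of_coherent [Fintype ι] (triv : ι) (cA cB cC cD deg : ι → ℤ)
    (hdeg : ∀ x, 0 < deg x)
    (hcong : ∀ x, (9 : ℤ) ∣ deg x - 4 * (cA x + cB x - cC x - cD x))
    (hcoh : Coherent triv cA cB cC cD)
    (hcore : ∀ e1 e2 e3 e4 e5 e6 e7 e8 : ι, [triv, e1, e2, e3, e4, e5, e6, e7, e8].Nodup →
      ∀ s1 s2 s3 s4 s5 s6 s7 s8 : ℤ, (s1 = 1 ∨ s1 = -1) → (s2 = 1 ∨ s2 = -1) → (s3 = 1 ∨ s3 = -1) →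
      (s4 = 1 ∨ s4 = -1) → (s5 = 1 ∨ s5 = -1) → (s6 = 1 ∨ s6 = -1) → (s7 = 1 ∨ s7 = -1) →
      (s8 = 1 ∨ s8 = -1) →
      (∀ x,
        cA x = -(if x = triv then 1 else 0) + s1 * (if x = e1 then 1 else 0) +
          s2 * (if x = e2 then 1 else 0) + s3 * (if x = e3 then 1 else 0) ∧
        cB x = s1 * (if x = e1 then 1 else 0) + s4 * (if x = e4 then 1 else 0) +
          s5 * (if x = e5 then 1 else 0) + s6 * (if x = e6 then 1 else 0) ∧
        cC x = (if x = triv then 1 else 0) - s1 * (if x = e1 then 1 else 0) -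
          s4 * (if x = e4 then 1 else 0) + s7 * (if x = e7 then 1 else 0) ∧
        cD x = -(s1 * (if x = e1 then 1 else 0)) - s2 * (if x = e2 then 1 else 0) -
          s5 * (if x = e5 then 1 else 0) + s8 * (if x = e8 then 1 else 0)) →
      ((((s5 * deg e5 : ℤ) : ℂ)) = -1 ∨
        9 * ((1 - ((s1 * deg e1 : ℤ) : ℂ)) * (((s1 * deg e1 : ℤ) : ℂ) + ((s2 * deg e2 : ℤ) : ℂ))) =
          17 * ((s2 * deg e2 : ℤ) : ℂ) ∨
        9 * ((1 - ((s1 * deg e1 : ℤ) : ℂ)) * (((s1 * deg e1 : ℤ) : ℂ) + ((s4 * deg e4 : ℤ) : ℂ))) =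
          17 * ((s4 * deg e4 : ℤ) : ℂ) ∨
        9 * ((((s1 * deg e1 : ℤ) : ℂ) + ((s4 * deg e4 : ℤ) : ℂ)) *
            (((s1 * deg e1 : ℤ) : ℂ) + ((s5 * deg e5 : ℤ) : ℂ))) =
          17 * (((s4 * deg e4 : ℤ) : ℂ) * ((s5 * deg e5 : ℤ) : ℂ)) ∨
        (1 - ((s1 * deg e1 : ℤ) : ℂ)) * (((s1 * deg e1 : ℤ) : ℂ) + ((s2 * deg e2 : ℤ) : ℂ)) =
          9801 * ((s2 * deg e2 : ℤ) : ℂ) ∨
        (1 - ((s1 * deg e1 : ℤ) : ℂ)) * (((s1 * deg e1 : ℤ) : ℂ) + ((s4 * deg e4 : ℤ) : ℂ)) =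
          9801 * ((s4 * deg e4 : ℤ) : ℂ))) :
    ∃ x, x ≠ triv ∧ deg x = 1 := by
  obtain ⟨e1, e2, e3, e4, e5, e6, e7, e8, hnd, s1, s2, s3, s4, s5, s6, s7, s8, h1, h2, h3, h4, h5,
    h6, h7, h8, hform⟩ := hcoh
  have hc := hcore e1 e2 e3 e4 e5 e6 e7 e8 hnd s1 s2 s3 s4 s5 s6 s7 s8 h1 h2 h3 h4 h5 h6 h7 h8 hform
  obtain ⟨_, hd, hne⟩ := coherent_finish_complex triv cA cB cC cD deg hdeg hcong e1 e2 e3 e4 e5 e6
    e7 e8 hnd s1 s2 s3 s4 s5 s6 s7 s8 h1 h2 h4 h5 hform _ _ _ _ rfl rfl rfl rfl hc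
  exact ⟨e5, hne, hd⟩

end Cfsg.Agent.Helper6.H72
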