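import Mathlib
import Cfsg.Prelude.Def_Characters
import Cfsg.Agent.H72.H1_GSetup

/-!
# Model-generic version of `SEmbH`: control of fusion

`GSetupT G Mdl sing rr p` extends `GSetup` by a Sylow `p`-subgroup `T` of `G` which is the preimage
of the subset `rr` of the model.  Under the model facts
* `rr m → rr (c m c⁻¹)`,
* `rr m → m ≠ 1 → sing m`,
* `rr m → m ^ p = 1`,
the subgroup `N` controls `G`-fusion of elements centralizing a nonidentity element of `T`.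
-/

set_option autoImplicit false
set_option linter.style.haveILetI false

namespace Cfsg.Agent.Helper6.H72

open Cfsg.Agent.Helper6

universe u v

variable {G : Type u} [Group G]

theorem h1_conj_mem_of_smul [Finite G] {p : ℕ} [Fact p.Prime] (P Q : Sylow p G) (g : G)
    (hg : g • P = Q) {x : G} (hx : x ∈ (Q : Subgroup G)) : g⁻¹ * x * g ∈ (P : Subgroup G) := by
  rw [← hg, Sylow.coe_subgroup_smul, Subgroup.mem_pointwise_smul_iff_inv_smul_mem] at hx
  have : (MulAut.conj g)⁻¹ • x = g⁻¹ * x * g := by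
    rw [MulAut.smul_def, MulAut.conj_inv_apply]
  rw [this] at hx
  exact hx

theorem h1_isPGroup_zpowers_of_pow {p : ℕ} (c : G) (hc : c ^ p = 1) :
    IsPGroup p (Subgroup.zpowers c) := by
  rintro ⟨z, hz⟩
  obtain ⟨k, rfl⟩ := Subgroup.mem_zpowers_iff.mp hz
  refine ⟨1, ?_⟩
  apply Subtype.ext
  show (c ^ k) ^ p ^ 1 = 1
  rw [pow_one, ← zpow_natCast, ← zpow_mul, mul_comm, zpow_mul, zpow_natCast, hc, one_zpow]

/-- `GSetup` together with a Sylow `p`-subgroup of `G` lying in `N`, described in the model. -/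
structure GSetupT (G : Type u) [Group G] (Mdl : Type v) [Group Mdl] (sing rr : Mdl → Bool)
    (p : ℕ) [Fact p.Prime] extends GSetup G Mdl sing where
  /-- the Sylow subgroup -/
  T : Sylow p G
  hT : ∀ g : G, g ∈ (T : Subgroup G) ↔ ∃ n : N, (n : G) = g ∧ rr (e n) = true

namespace GSetupT

variable {Mdl : Type v} [Group Mdl] {sing rr : Mdl → Bool} {p : ℕ} [Fact p.Prime]
  (S : GSetupT G Mdl sing rr p)

theorem ι_mem_T_iff (m : Mdl) :
    S.ι m ∈ (S.T : Subgroup G) ↔ rr m = true := by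
  rw [S.hT]
  constructor
  · rintro ⟨n, hn, h⟩
    have : S.e n = m := by
      apply S.ι_injective
      rw [S.ι_e, hn]
    rw [this] at h
    exact h
  · intro h
    refine ⟨⟨S.ι m, S.ι_mem m⟩, rfl, ?_⟩
    rw [S.e_ι]
    exact h

theorem exists_of_mem_T {t : G} (ht : t ∈ (S.T : Subgroup G)) :
    ∃ m : Mdl, rr m = true ∧ S.ι m = t := by
  obtain ⟨n, hn, h⟩ := (S.hT t).mp ht
  exact ⟨S.e n, h, by rw [S.ι_e, hn]⟩

theorem T_le_N : (S.T : Subgroup G) ≤ S.N := by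
  intro t ht
  obtain ⟨m, -, rfl⟩ := S.exists_of_mem_T ht
  exact S.ι_mem m

theorem mem_A_of_mem_T (hsr : ∀ m : Mdl, rr m = true → m ≠ 1 → sing m = true) {t : G}
    (ht : t ∈ (S.T : Subgroup G)) (h1 : t ≠ 1) : t ∈ S.A := by
  obtain ⟨m, hm, rfl⟩ := S.exists_of_mem_T ht
  refine ⟨m, hsr m hm ?_, rfl⟩
  rintro rfl
  exact h1 (map_one _)

theorem pow_of_mem_T (hpow : ∀ m : Mdl, rr m = true → m ^ p = 1) {t : G}
    (ht : t ∈ (S.T : Subgroup G)) : t ^ p = 1 := by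
  obtain ⟨m, hm, rfl⟩ := S.exists_of_mem_T ht
  rw [← map_pow, hpow m hm, map_one]

theorem conj_mem_T (hconj : ∀ m c : Mdl, rr m = true → rr (c * m * c⁻¹) = true) (n : G)
    (hn : n ∈ S.N) (t : G) (ht : t ∈ (S.T : Subgroup G)) :
    n * t * n⁻¹ ∈ (S.T : Subgroup G) := by
  obtain ⟨m, hm, rfl⟩ := S.exists_of_mem_T ht
  obtain ⟨c, rfl⟩ := S.exists_of_mem hn
  rw [← map_inv, ← map_mul, ← map_mul, S.ι_mem_T_iff]
  exact hconj m c hm

/-- `T` is normal in `N`: `N` lies in the normalizer of `T`. -/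
theorem N_le_normalizer (hconj : ∀ m c : Mdl, rr m = true → rr (c * m * c⁻¹) = true) :
    S.N ≤ Subgroup.normalizer ((S.T : Subgroup G) : Set G) := by
  intro n hn
  rw [Subgroup.mem_normalizer_iff]
  intro t
  constructor
  · intro ht
    exact S.conj_mem_T hconj n hn t ht
  · intro ht
    have := S.conj_mem_T hconj n⁻¹ (S.N.inv_mem hn) _ ht
    have h2 : n⁻¹ * (n * t * n⁻¹) * n⁻¹⁻¹ = t := by group
    rwa [h2] at this

/-- centralizers of nonidentity elements of `T` lie in `N` -/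
theorem mem_N_of_comm (hsr : ∀ m : Mdl, rr m = true → m ≠ 1 → sing m = true) {t z : G}
    (ht : t ∈ (S.T : Subgroup G)) (h1 : t ≠ 1) (hz : z * t = t * z) :
    z ∈ S.N := by
  apply S.hTI_A t (S.mem_A_of_mem_T hsr ht h1) z
  have : z⁻¹ * t * z = t := by rw [mul_assoc, ← hz]; group
  rw [this]
  exact S.mem_A_of_mem_T hsr ht h1

/-- if `t` and `w t w⁻¹` are nonidentity elements of `T` then `w ∈ N` -/
theorem mem_N_of_conj_mem_T (hsr : ∀ m : Mdl, rr m = true → m ≠ 1 → sing m = true) {t w : G}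
    (ht : t ∈ (S.T : Subgroup G)) (h1 : t ≠ 1)
    (hw : w * t * w⁻¹ ∈ (S.T : Subgroup G)) : w ∈ S.N := by
  have hne : w * t * w⁻¹ ≠ 1 := by
    intro h
    apply h1
    have : t = w⁻¹ * (w * t * w⁻¹) * w := by group
    rw [this, h]
    group
  have h2 := S.hTI_A t (S.mem_A_of_mem_T hsr ht h1) w⁻¹ (by
    rw [inv_inv]
    exact S.mem_A_of_mem_T hsr hw hne)
  have := S.N.inv_mem h2
  rwa [inv_inv] at this

/-- The normalizer of `T` is `N` (given that `T ≠ 1`). -/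
theorem normalizer_le_N (hsr : ∀ m : Mdl, rr m = true → m ≠ 1 → sing m = true)
    (hne : ∃ t ∈ (S.T : Subgroup G), t ≠ 1) :
    Subgroup.normalizer ((S.T : Subgroup G) : Set G) ≤ S.N := by
  obtain ⟨t, ht, h1⟩ := hne
  intro w hw
  apply S.mem_N_of_conj_mem_T hsr ht h1
  exact (Subgroup.mem_normalizer_iff.mp hw t).mp ht

/-- A `p`-subgroup containing a nonidentity element of `T` lies in `T`. -/
theorem le_T_of_isPGroup [Finite G]
    (hconj : ∀ m c : Mdl, rr m = true → rr (c * m * c⁻¹) = true)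
    (hsr : ∀ m : Mdl, rr m = true → m ≠ 1 → sing m = true)
    (P : Subgroup G) (hP : IsPGroup p P) (t : G) (htP : t ∈ P)
    (htT : t ∈ (S.T : Subgroup G)) (ht1 : t ≠ 1) : P ≤ (S.T : Subgroup G) := by
  obtain ⟨Q, hQ⟩ := hP.exists_le_sylow
  obtain ⟨g, hg⟩ := MulAction.exists_smul_eq G S.T Q
  have h1 : g⁻¹ * t * g ∈ (S.T : Subgroup G) := h1_conj_mem_of_smul S.T Q g hg (hQ htP)
  have hgN : g⁻¹ ∈ S.N := by
    apply S.mem_N_of_conj_mem_T hsr htT ht1
    rw [inv_inv]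
    exact h1
  have hgN' : g ∈ S.N := by
    have := S.N.inv_mem hgN
    rwa [inv_inv] at this
  intro x hx
  have h2 : g⁻¹ * x * g ∈ (S.T : Subgroup G) := h1_conj_mem_of_smul S.T Q g hg (hQ hx)
  have h3 := S.conj_mem_T hconj g hgN' _ h2
  have : g * (g⁻¹ * x * g) * g⁻¹ = x := by group
  rwa [this] at h3

/-- `N` controls fusion of elements centralizing nonidentity elements of `T`. -/
theorem conj_in_N [Finite G]
    (hconj : ∀ m c : Mdl, rr m = true → rr (c * m * c⁻¹) = true)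
    (hsr : ∀ m : Mdl, rr m = true → m ≠ 1 → sing m = true)
    (hpow : ∀ m : Mdl, rr m = true → m ^ p = 1)
    (x y tx ty g : G) (htx : tx ∈ (S.T : Subgroup G)) (htx1 : tx ≠ 1)
    (hcx : tx * x = x * tx) (hty : ty ∈ (S.T : Subgroup G)) (hty1 : ty ≠ 1)
    (hcy : ty * y = y * ty) (hg : y = g * x * g⁻¹) : ∃ n ∈ S.N, y = n * x * n⁻¹ := by
  set C : Subgroup G := Subgroup.centralizer ({y} : Set G) with hC
  have hmemC : ∀ z : G, z ∈ C ↔ y * z = z * y := by
    intro z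
    rw [hC, Subgroup.mem_centralizer_singleton_iff]
    exact eq_comm
  have htyC : ty ∈ C := by rw [hmemC]; exact hcy.symm
  have ht'C : g * tx * g⁻¹ ∈ C := by
    rw [hmemC, hg]
    calc g * x * g⁻¹ * (g * tx * g⁻¹) = g * (x * tx) * g⁻¹ := by group
      _ = g * (tx * x) * g⁻¹ := by rw [hcx]
      _ = g * tx * g⁻¹ * (g * x * g⁻¹) := by group
  have htyp : (⟨ty, htyC⟩ : C) ^ p = 1 := by
    apply Subtype.ext
    show ty ^ p = 1
    exact S.pow_of_mem_T hpow hty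
  have ht'p : (⟨g * tx * g⁻¹, ht'C⟩ : C) ^ p = 1 := by
    apply Subtype.ext
    show (g * tx * g⁻¹) ^ p = 1
    rw [conj_pow, S.pow_of_mem_T hpow htx]
    group
  obtain ⟨P1, hP1⟩ := (h1_isPGroup_zpowers_of_pow _ htyp).exists_le_sylow
  obtain ⟨P2, hP2⟩ := (h1_isPGroup_zpowers_of_pow _ ht'p).exists_le_sylow
  obtain ⟨c, hc⟩ := MulAction.exists_smul_eq C P1 P2
  have h1 : c⁻¹ * ⟨g * tx * g⁻¹, ht'C⟩ * c ∈ (P1 : Subgroup C) :=
    h1_conj_mem_of_smul P1 P2 c hc (hP2 (Subgroup.mem_zpowers _))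
  have hS : IsPGroup p ((P1 : Subgroup C).map C.subtype) := P1.2.map _
  have hle := S.le_T_of_isPGroup hconj hsr _ hS ty
    (Subgroup.mem_map.mpr ⟨⟨ty, htyC⟩, hP1 (Subgroup.mem_zpowers _), rfl⟩) hty hty1
  have h2 : (c : G)⁻¹ * (g * tx * g⁻¹) * (c : G) ∈ (S.T : Subgroup G) := by
    apply hle
    exact Subgroup.mem_map.mpr ⟨_, h1, rfl⟩
  have hw : ((c : G)⁻¹ * g) * tx * ((c : G)⁻¹ * g)⁻¹ ∈ (S.T : Subgroup G) := by
    have : ((c : G)⁻¹ * g) * tx * ((c : G)⁻¹ * g)⁻¹ = (c : G)⁻¹ * (g * tx * g⁻¹) * (c : G) := by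
      group
    rw [this]
    exact h2
  refine ⟨(c : G)⁻¹ * g, S.mem_N_of_conj_mem_T hsr htx htx1 hw, ?_⟩
  have hcy' : y * (c : G) = (c : G) * y := (hmemC _).mp c.2
  calc y = (c : G)⁻¹ * ((c : G) * y) := by group
    _ = (c : G)⁻¹ * (y * (c : G)) := by rw [hcy']
    _ = (c : G)⁻¹ * (g * x * g⁻¹ * (c : G)) := by rw [← hg]
    _ = (c : G)⁻¹ * g * x * ((c : G)⁻¹ * g)⁻¹ := by group

/-- Model form of `conj_in_N`: if `ι m` and `ι m'` are `G`-conjugate and each commutes with a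
nonidentity element of `rr`, then `m` and `m'` are conjugate in the model. -/
theorem model_conj_of_isConj [Finite G]
    (hconj : ∀ m c : Mdl, rr m = true → rr (c * m * c⁻¹) = true)
    (hsr : ∀ m : Mdl, rr m = true → m ≠ 1 → sing m = true)
    (hpow : ∀ m : Mdl, rr m = true → m ^ p = 1)
    (m m' a a' : Mdl) (ha : rr a = true) (ha1 : a ≠ 1) (hca : a * m = m * a)
    (ha' : rr a' = true) (ha1' : a' ≠ 1) (hca' : a' * m' = m' * a')
    (h : IsConj (S.ι m) (S.ι m')) : ∃ c : Mdl, m' = c * m * c⁻¹ := by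
  obtain ⟨g, hg⟩ := isConj_iff.mp h
  have hcx : S.ι a * S.ι m = S.ι m * S.ι a := by
    rw [← map_mul, ← map_mul, hca]
  have hcy : S.ι a' * S.ι m' = S.ι m' * S.ι a' := by
    rw [← map_mul, ← map_mul, hca']
  have hane : S.ι a ≠ 1 := by rw [Ne, S.ι_eq_one_iff]; exact ha1
  have hane' : S.ι a' ≠ 1 := by rw [Ne, S.ι_eq_one_iff]; exact ha1'
  obtain ⟨n, hn, hn2⟩ := S.conj_in_N hconj hsr hpow (S.ι m) (S.ι m') (S.ι a) (S.ι a') g
    ((S.ι_mem_T_iff a).mpr ha) hane hcx ((S.ι_mem_T_iff a').mpr ha') hane' hcy hg.symm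
  obtain ⟨c, rfl⟩ := S.exists_of_mem hn
  rw [← map_inv, ← map_mul, ← map_mul] at hn2
  exact ⟨c, S.ι_injective hn2⟩

/-- An element of `N` conjugate in `G` to an element of square one of `N` has square one and is
not the identity (model form). -/
theorem sq_of_isConj (m₀ m : Mdl) (h0 : m₀ * m₀ = 1) (h1 : m₀ ≠ 1)
    (h : IsConj (S.ι m₀) (S.ι m)) : m * m = 1 ∧ m ≠ 1 := by
  obtain ⟨c, hc⟩ := isConj_iff.mp h
  constructor
  · apply S.ι_injective
    rw [map_mul, map_one, ← hc]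
    calc c * S.ι m₀ * c⁻¹ * (c * S.ι m₀ * c⁻¹) = c * (S.ι m₀ * S.ι m₀) * c⁻¹ := by group
      _ = 1 := by rw [← map_mul, h0, map_one]; group
  · rintro rfl
    apply h1
    apply S.ι_injective
    rw [map_one] at hc ⊢
    have : S.ι m₀ = c⁻¹ * (c * S.ι m₀ * c⁻¹) * c := by group
    rw [this, hc]
    group

end GSetupT

end Cfsg.Agent.Helper6.H72
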