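import Mathlib
import Cfsg.Agent.Helper6.H72A

/-!
# H72: the predicate `rr72` (elements of the normal subgroup of order nine of `M72`) and its
model facts (the hypotheses `hconj`, `hsr`, `hpow` of `GSetupT`)
-/

set_option autoImplicit false
set_option linter.style.haveILetI false

namespace Cfsg.Agent.Helper6.H72

/-- the elements of the normal subgroup `V9 × 1` of `M72` -/
def rr72 (m : M72) : Bool := decide (m.right = 1)

theorem rr72_iff (m : M72) : rr72 m = true ↔ m.right = 1 := by
  unfold rr72
  exact decide_eq_true_iff

theorem rr72_conj : ∀ m c : M72, rr72 m = true → rr72 (c * m * c⁻¹) = true := by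
  intro m c h
  rw [rr72_iff] at h ⊢
  show c.right * m.right * c⁻¹.right = 1
  rw [h, mul_one]
  show c.right * (c.right)⁻¹ = 1
  exact mul_inv_cancel _

theorem rr72_sing : ∀ m : M72, rr72 m = true → m ≠ 1 → sing m = true := by decide +kernel

theorem rr72_pow : ∀ m : M72, rr72 m = true → m ^ 3 = 1 := by decide +kernel

theorem rr72_one : rr72 1 = true := by decide +kernel

theorem rr72_mul : ∀ m m' : M72, rr72 m = true → rr72 m' = true → rr72 (m * m') = true := by
  intro m m' h h'
  rw [rr72_iff] at h h' ⊢
  show m.right * m'.right = 1
  rw [h, h', mul_one]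

theorem rr72_inv : ∀ m : M72, rr72 m = true → rr72 m⁻¹ = true := by decide +kernel

/-- exactly nine elements of the model satisfy `rr72` -/
theorem rr72_card : (Finset.univ.filter (fun m : M72 => rr72 m = true)).card = 9 := by
  decide +kernel

end Cfsg.Agent.Helper6.H72
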