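import Mathlib
import Cfsg.Prelude.Def_Characters
import Cfsg.Agent.Helper6.H72C
import Cfsg.Agent.H72.H1_GFusion
import Cfsg.Agent.H72.H9_RR72

/-!
# S3716 / H72, piece P5 (i)+(ii): fusion of the involutions of `N ≅ M72` in `G`

* `h1_not_isConj_1_3`: involutions of class `1` (`I1`) and `3` (`Iτ`) are not fused in `G`.
* `h1_trichotomy`: the three fusion patterns `U`, `F1`, `Ft`.
-/

set_option autoImplicit false
set_option linter.style.haveILetI false

namespace Cfsg.Agent.Helper6.H72

open DihedralGroup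
open Cfsg.Agent.Helper6

universe u

/-- representative of `I1` -/
def u1 : M72 := mk 0 0 (sr 0)
/-- representative of `I12` -/
def u2 : M72 := mk 0 0 (r 2)
/-- representative of `Iτ` -/
def u3 : M72 := mk 0 0 (sr 1)

theorem h1_cls_u1 : cls u1 = 1 := by decide +kernel
theorem h1_cls_u2 : cls u2 = 2 := by decide +kernel
theorem h1_cls_u3 : cls u3 = 3 := by decide +kernel

set_option maxRecDepth 100000 in
theorem h1_cent_1 : ∀ m : M72, cls m = 1 → ∃ a : M72, rr72 a = true ∧ a ≠ 1 ∧ a * m = m * a := by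
  decide +kernel

set_option maxRecDepth 100000 in
theorem h1_cent_3 : ∀ m : M72, cls m = 3 → ∃ a : M72, rr72 a = true ∧ a ≠ 1 ∧ a * m = m * a := by
  decide +kernel

set_option maxRecDepth 100000 in
theorem h1_conj_u1 : ∀ m : M72, cls m = 1 → ∃ c : M72, c * u1 * c⁻¹ = m := by decide +kernel

set_option maxRecDepth 100000 in
theorem h1_conj_u2 : ∀ m : M72, cls m = 2 → ∃ c : M72, c * u2 * c⁻¹ = m := by decide +kernel

set_option maxRecDepth 100000 in
theorem h1_conj_u3 : ∀ m : M72, cls m = 3 → ∃ c : M72, c * u3 * c⁻¹ = m := by decide +kernel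

theorem h1_mem_finCl (k : ℕ) (m : M72) : m ∈ finCl k ↔ cls m = k := by
  unfold finCl
  rw [Finset.mem_filter]
  exact ⟨fun h => h.2, fun h => ⟨Finset.mem_univ _, h⟩⟩

theorem h1_mem_finCl2 (k l : ℕ) (m : M72) : m ∈ finCl2 k l ↔ (cls m = k ∨ cls m = l) := by
  unfold finCl2
  rw [Finset.mem_filter]
  exact ⟨fun h => h.2, fun h => ⟨Finset.mem_univ _, h⟩⟩

variable {G : Type u} [Group G]

section

variable (S : GSetupT G M72 sing rr72 3)

/-- elements of the same involution class of the model are conjugate in `G` -/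
theorem h1_isConj_u1 (m : M72) (hm : cls m = 1) : IsConj (S.ι u1) (S.ι m) := by
  obtain ⟨c, hc⟩ := h1_conj_u1 m hm
  exact S.isConj_ι_of_conj _ _ c hc

theorem h1_isConj_u2 (m : M72) (hm : cls m = 2) : IsConj (S.ι u2) (S.ι m) := by
  obtain ⟨c, hc⟩ := h1_conj_u2 m hm
  exact S.isConj_ι_of_conj _ _ c hc

theorem h1_isConj_u3 (m : M72) (hm : cls m = 3) : IsConj (S.ι u3) (S.ι m) := by
  obtain ⟨c, hc⟩ := h1_conj_u3 m hm
  exact S.isConj_ι_of_conj _ _ c hc

/-- an element of the model whose image is conjugate in `G` to the image of an involution of the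
model is an involution of the model -/
theorem h1_cls_of_isConj (m₀ m : M72) (h0 : cls m₀ = 1 ∨ cls m₀ = 2 ∨ cls m₀ = 3)
    (h : IsConj (S.ι m₀) (S.ι m)) : cls m = 1 ∨ cls m = 2 ∨ cls m = 3 := by
  have h00 : m₀ * m₀ = 1 := by
    rw [sq_of_cls]
    rcases h0 with h0 | h0 | h0 <;> omega
  have h01 : m₀ ≠ 1 := by
    intro h1
    have := (cls_one m₀).mpr h1
    rcases h0 with h0 | h0 | h0 <;> omega
  obtain ⟨hsq, hne⟩ := S.sq_of_isConj m₀ m h00 h01 h
  have h2 : cls m ≤ 3 := (sq_of_cls m).mp hsq
  have h3 : cls m ≠ 0 := fun h3 => hne ((cls_one m).mp h3)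
  omega

/-- involutions of type `I1` and `Iτ` are not fused in `G` -/
theorem h1_not_isConj_1_3 [Finite G] (m m' : M72) (hm : cls m = 1) (hm' : cls m' = 3) :
    ¬ IsConj (S.ι m) (S.ι m') := by
  intro hconj
  obtain ⟨a, ha, ha1, hca⟩ := h1_cent_1 m hm
  obtain ⟨a', ha', ha1', hca'⟩ := h1_cent_3 m' hm'
  obtain ⟨c, hc⟩ := S.model_conj_of_isConj rr72_conj rr72_sing rr72_pow
    m m' a a' ha ha1 hca ha' ha1' hca' hconj
  have := cls_conj m c
  rw [← hc, hm, hm'] at this
  omega

/-- the unfused pattern -/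
def PatU : Prop :=
  (∀ m, m ∈ finCl 1 ↔ IsConj (S.ι u1) (S.ι m)) ∧ (∀ m, m ∈ finCl 2 ↔ IsConj (S.ι u2) (S.ι m)) ∧
    (∀ m, m ∈ finCl 3 ↔ IsConj (S.ι u3) (S.ι m))

/-- the pattern `I12 ~ I1` -/
def PatF1 : Prop :=
  (∀ m, m ∈ finCl2 1 2 ↔ IsConj (S.ι u1) (S.ι m)) ∧ (∀ m, m ∈ finCl 3 ↔ IsConj (S.ι u3) (S.ι m))

/-- the pattern `I12 ~ Iτ` -/
def PatFt : Prop :=
  (∀ m, m ∈ finCl 1 ↔ IsConj (S.ι u1) (S.ι m)) ∧ (∀ m, m ∈ finCl2 2 3 ↔ IsConj (S.ι u3) (S.ι m))

/-- the three fusion patterns -/
theorem h1_trichotomy [Finite G] : PatU S ∨ PatF1 S ∨ PatFt S := by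
  have h13 : ¬ IsConj (S.ι u1) (S.ι u3) := h1_not_isConj_1_3 S u1 u3 h1_cls_u1 h1_cls_u3
  have hc1 : cls u1 = 1 ∨ cls u1 = 2 ∨ cls u1 = 3 := Or.inl h1_cls_u1
  have hc2 : cls u2 = 1 ∨ cls u2 = 2 ∨ cls u2 = 3 := Or.inr (Or.inl h1_cls_u2)
  have hc3 : cls u3 = 1 ∨ cls u3 = 2 ∨ cls u3 = 3 := Or.inr (Or.inr h1_cls_u3)
  by_cases h12 : IsConj (S.ι u1) (S.ι u2)
  · -- pattern F1
    have h23 : ¬ IsConj (S.ι u2) (S.ι u3) := fun h => h13 (h12.trans h)
    right; left
    refine ⟨?_, ?_⟩
    · intro m
      rw [h1_mem_finCl2]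
      constructor
      · rintro (hm | hm)
        · exact h1_isConj_u1 S m hm
        · exact h12.trans (h1_isConj_u2 S m hm)
      · intro h
        rcases h1_cls_of_isConj S u1 m hc1 h with hm | hm | hm
        · exact Or.inl hm
        · exact Or.inr hm
        · exact absurd (h.trans (h1_isConj_u3 S m hm).symm) h13
    · intro m
      rw [h1_mem_finCl]
      constructor
      · intro hm
        exact h1_isConj_u3 S m hm
      · intro h
        rcases h1_cls_of_isConj S u3 m hc3 h with hm | hm | hm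
        · exact absurd ((h1_isConj_u1 S m hm).trans h.symm) h13
        · exact absurd ((h1_isConj_u2 S m hm).trans h.symm) h23
        · exact hm
  · by_cases h23 : IsConj (S.ι u2) (S.ι u3)
    · -- pattern Ft
      right; right
      refine ⟨?_, ?_⟩
      · intro m
        rw [h1_mem_finCl]
        constructor
        · intro hm
          exact h1_isConj_u1 S m hm
        · intro h
          rcases h1_cls_of_isConj S u1 m hc1 h with hm | hm | hm
          · exact hm
          · exact absurd (h.trans (h1_isConj_u2 S m hm).symm) h12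
          · exact absurd (h.trans (h1_isConj_u3 S m hm).symm) h13
      · intro m
        rw [h1_mem_finCl2]
        constructor
        · rintro (hm | hm)
          · exact h23.symm.trans (h1_isConj_u2 S m hm)
          · exact h1_isConj_u3 S m hm
        · intro h
          rcases h1_cls_of_isConj S u3 m hc3 h with hm | hm | hm
          · exact absurd ((h1_isConj_u1 S m hm).trans h.symm) h13
          · exact Or.inl hm
          · exact Or.inr hm
    · -- pattern U
      left
      refine ⟨?_, ?_, ?_⟩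
      · intro m
        rw [h1_mem_finCl]
        constructor
        · intro hm
          exact h1_isConj_u1 S m hm
        · intro h
          rcases h1_cls_of_isConj S u1 m hc1 h with hm | hm | hm
          · exact hm
          · exact absurd (h.trans (h1_isConj_u2 S m hm).symm) h12
          · exact absurd (h.trans (h1_isConj_u3 S m hm).symm) h13
      · intro m
        rw [h1_mem_finCl]
        constructor
        · intro hm
          exact h1_isConj_u2 S m hm
        · intro h
          rcases h1_cls_of_isConj S u2 m hc2 h with hm | hm | hm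
          · exact absurd ((h1_isConj_u1 S m hm).trans h.symm) h12
          · exact hm
          · exact absurd (h.trans (h1_isConj_u3 S m hm).symm) h23
      · intro m
        rw [h1_mem_finCl]
        constructor
        · intro hm
          exact h1_isConj_u3 S m hm
        · intro h
          rcases h1_cls_of_isConj S u3 m hc3 h with hm | hm | hm
          · exact absurd ((h1_isConj_u1 S m hm).trans h.symm) h13
          · exact absurd ((h1_isConj_u2 S m hm).trans h.symm) h23
          · exact hm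

end

end Cfsg.Agent.Helper6.H72
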