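import Mathlib
import Cfsg.Prelude.Def_Characters
import Cfsg.Agent.Helper6.Expansion
import Cfsg.Agent.Helper6.ClassInner
import Cfsg.Agent.Helper6.SmallDegree
import Cfsg.Agent.Helper6.H72C
import Cfsg.Agent.H72.H1_GSetup
import Cfsg.Agent.H72.H3_P4

/-!
# H72-P7e: the Gram data of the four induced generalized characters

For `S : GSetup G M72 sing` and integer coefficient functions `cA .. cD` of `S.Theta fa .. fd`,
the hypotheses of `embedding_cases` (H72-P4) hold.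
-/

set_option autoImplicit false
set_option linter.style.haveILetI false

namespace Cfsg.Agent.Helper6.H72

open Cfsg.Agent.Helper6
open scoped ComplexConjugate

universe u

variable {G : Type u} [Group G] [Fintype G] [Fintype (Cfsg.IrrCharacter G)]

/-- Parseval's identity for class functions (local copy). -/
theorem h3_parseval (φ ψ : G → ℂ) (hφ : Cfsg.IsClassFunction G φ) :
    Cfsg.classInner φ ψ = ∑ χ : Cfsg.IrrCharacter G,
      Cfsg.classInner φ (χ : G → ℂ) * conj (Cfsg.classInner ψ (χ : G → ℂ)) := by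
  conv_lhs => rw [classFunction_expansion φ hφ]
  rw [classInner_sum_left]
  apply Finset.sum_congr rfl
  intro χ _
  rw [classInner_smul_left, classInner_conj_symm ψ (χ : G → ℂ)]

/-- Parseval with integer coefficients. -/
theorem h3_gram_int (φ ψ : G → ℂ) (hφ : Cfsg.IsClassFunction G φ)
    (c c' : Cfsg.IrrCharacter G → ℤ) (hc : ∀ χ : Cfsg.IrrCharacter G, Cfsg.classInner φ (χ : G → ℂ) = c χ)
    (hc' : ∀ χ : Cfsg.IrrCharacter G, Cfsg.classInner ψ (χ : G → ℂ) = c' χ) (n : ℤ)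
    (h : Cfsg.classInner φ ψ = n) : ∑ χ, c χ * c' χ = n := by
  have h1 := h3_parseval φ ψ hφ
  rw [h] at h1
  have h2 : ∑ χ : Cfsg.IrrCharacter G,
      Cfsg.classInner φ (χ : G → ℂ) * conj (Cfsg.classInner ψ (χ : G → ℂ)) =
      ((∑ χ, c χ * c' χ : ℤ) : ℂ) := by
    push_cast
    apply Finset.sum_congr rfl
    intro χ _
    rw [hc, hc', map_intCast]
  rw [h2] at h1
  exact_mod_cast h1.symm

/-- value at `1` as a degree sum. -/
theorem h3_degree_sum (φ : G → ℂ) (hφ : Cfsg.IsClassFunction G φ)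
    (c deg : Cfsg.IrrCharacter G → ℤ) (hc : ∀ χ : Cfsg.IrrCharacter G, Cfsg.classInner φ (χ : G → ℂ) = c χ)
    (hdeg : ∀ χ : Cfsg.IrrCharacter G, ((deg χ : ℤ) : ℂ) = (χ : G → ℂ) 1) (h1 : φ 1 = 0) :
    ∑ χ, c χ * deg χ = 0 := by
  have h := congrFun (classFunction_expansion φ hφ) 1
  rw [h1, Finset.sum_apply] at h
  have h2 : ∑ χ : Cfsg.IrrCharacter G,
      (Cfsg.classInner φ (χ : G → ℂ) • (χ : G → ℂ)) 1 = ((∑ χ, c χ * deg χ : ℤ) : ℂ) := by
    push_cast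
    apply Finset.sum_congr rfl
    intro χ _
    rw [Pi.smul_apply, smul_eq_mul, hc, hdeg]
  rw [h2] at h
  exact_mod_cast h.symm

theorem h3_exists_deg : ∃ deg : Cfsg.IrrCharacter G → ℤ,
    (∀ χ : Cfsg.IrrCharacter G, ((deg χ : ℤ) : ℂ) = (χ : G → ℂ) 1) ∧ ∀ χ, 0 < deg χ := by
  have h : ∀ χ : Cfsg.IrrCharacter G, ∃ n : ℕ, (χ : G → ℂ) 1 = n ∧ n ∣ Nat.card G ∧ 0 < n :=
    fun χ => IsIrrCharacter.degree_dvd_card χ.2
  choose d hd1 _ hd3 using h
  refine ⟨fun χ => (d χ : ℤ), fun χ => ?_, fun χ => ?_⟩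
  · rw [hd1 χ]; push_cast; rfl
  · show (0 : ℤ) < (d χ : ℤ)
    exact_mod_cast hd3 χ

theorem h3_card_M72 : (Fintype.card M72 : ℂ) = 72 := by
  have : Fintype.card M72 = 72 := by rw [← Nat.card_eq_fintype_card]; exact card_M72
  rw [this]; norm_num

variable (S : GSetup G M72 sing)

omit [Fintype G] [Fintype (Cfsg.IrrCharacter G)] in
theorem h3_one_not_mem_A : (1 : G) ∉ S.A := by
  rintro ⟨m, hm, h1⟩
  rw [S.ι_eq_one_iff] at h1
  rw [h1] at hm
  revert hm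
  decide +kernel

theorem h3_Theta_one (f : M72 → ℤ) (hf : ∀ m, sing m = false → f m = 0) : S.Theta f 1 = 0 := by
  apply S.Theta_eq_zero f hf
  intro z
  have : z⁻¹ * 1 * z = 1 := by group
  rw [this]
  exact h3_one_not_mem_A S

omit [Fintype (Cfsg.IrrCharacter G)] in
theorem h3_inner (f f' : M72 → ℤ) (hf : ∀ m, sing m = false → f m = 0)
    (hf' : ∀ m, sing m = false → f' m = 0) (hcf : ∀ m c, f' (c * m * c⁻¹) = f' m) (n : ℤ)
    (hs : ∑ m : M72, f m * f' m = 72 * n) :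
    Cfsg.classInner (S.Theta f) (S.Theta f') = n := by
  rw [S.classInner_Theta f f' hf hf' hcf, h3_card_M72, hs]
  push_cast
  field_simp

omit [Fintype (Cfsg.IrrCharacter G)] in
theorem h3_inner_one (f : M72 → ℤ) (n : ℤ) (hs : ∑ m : M72, f m = 72 * n) :
    Cfsg.classInner (S.Theta f) (fun _ => (1 : ℂ)) = n := by
  rw [S.classInner_Theta_one f, h3_card_M72, hs]
  push_cast
  field_simp

/-- **H72-P7e**: the hypotheses of `embedding_cases` hold for the coefficient functions of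
`S.Theta fa`, ..., `S.Theta fd`; hence its conclusion. -/
theorem gram_of_setup [DecidableEq (Cfsg.IrrCharacter G)] (triv : Cfsg.IrrCharacter G)
    (htriv : (triv : G → ℂ) = fun _ => (1 : ℂ))
    (cA cB cC cD deg : Cfsg.IrrCharacter G → ℤ)
    (hA : ∀ χ : Cfsg.IrrCharacter G, Cfsg.classInner (S.Theta fa) (χ : G → ℂ) = cA χ)
    (hB : ∀ χ : Cfsg.IrrCharacter G, Cfsg.classInner (S.Theta fb) (χ : G → ℂ) = cB χ)
    (hC : ∀ χ : Cfsg.IrrCharacter G, Cfsg.classInner (S.Theta fc) (χ : G → ℂ) = cC χ)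
    (hD : ∀ χ : Cfsg.IrrCharacter G, Cfsg.classInner (S.Theta fd) (χ : G → ℂ) = cD χ)
    (hdeg : ∀ χ : Cfsg.IrrCharacter G, ((deg χ : ℤ) : ℂ) = (χ : G → ℂ) 1) :
    (∑ χ, cA χ ^ 2 = 4 ∧ ∑ χ, cA χ * cB χ = 1 ∧ ∑ χ, cA χ * cC χ = -2 ∧
      ∑ χ, cA χ * cD χ = -2 ∧ ∑ χ, cB χ ^ 2 = 4 ∧ ∑ χ, cB χ * cC χ = -2 ∧
      ∑ χ, cB χ * cD χ = -2 ∧ ∑ χ, cC χ ^ 2 = 4 ∧ ∑ χ, cC χ * cD χ = 1 ∧ ∑ χ, cD χ ^ 2 = 4) ∧
    (cA triv = -1 ∧ cB triv = 0 ∧ cC triv = 1 ∧ cD triv = 0) ∧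
    (∑ χ, cA χ * deg χ = 0 ∧ ∑ χ, cB χ * deg χ = 0 ∧ ∑ χ, cC χ * deg χ = 0 ∧
      ∑ χ, cD χ * deg χ = 0) := by
  have cfA := S.Theta_isClassFunction fa
  have cfB := S.Theta_isClassFunction fb
  have cfC := S.Theta_isClassFunction fc
  have cfD := S.Theta_isClassFunction fd
  refine ⟨⟨?_, ?_, ?_, ?_, ?_, ?_, ?_, ?_, ?_, ?_⟩, ⟨?_, ?_, ?_, ?_⟩, ⟨?_, ?_, ?_, ?_⟩⟩
  · simp only [pow_two]
    exact h3_gram_int _ _ cfA cA cA hA hA 4
      (h3_inner S fa fa fa_van fa_van fa_cf 4 (by rw [sum_fa_fa]; norm_num))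
  · exact h3_gram_int _ _ cfA cA cB hA hB 1
      (h3_inner S fa fb fa_van fb_van fb_cf 1 (by rw [sum_fa_fb]; norm_num))
  · exact h3_gram_int _ _ cfA cA cC hA hC (-2)
      (h3_inner S fa fc fa_van fc_van fc_cf (-2) (by rw [sum_fa_fc]; norm_num))
  · exact h3_gram_int _ _ cfA cA cD hA hD (-2)
      (h3_inner S fa fd fa_van fd_van fd_cf (-2) (by rw [sum_fa_fd]; norm_num))
  · simp only [pow_two]
    exact h3_gram_int _ _ cfB cB cB hB hB 4
      (h3_inner S fb fb fb_van fb_van fb_cf 4 (by rw [sum_fb_fb]; norm_num))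
  · exact h3_gram_int _ _ cfB cB cC hB hC (-2)
      (h3_inner S fb fc fb_van fc_van fc_cf (-2) (by rw [sum_fb_fc]; norm_num))
  · exact h3_gram_int _ _ cfB cB cD hB hD (-2)
      (h3_inner S fb fd fb_van fd_van fd_cf (-2) (by rw [sum_fb_fd]; norm_num))
  · simp only [pow_two]
    exact h3_gram_int _ _ cfC cC cC hC hC 4
      (h3_inner S fc fc fc_van fc_van fc_cf 4 (by rw [sum_fc_fc]; norm_num))
  · exact h3_gram_int _ _ cfC cC cD hC hD 1
      (h3_inner S fc fd fc_van fd_van fd_cf 1 (by rw [sum_fc_fd]; norm_num))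
  · simp only [pow_two]
    exact h3_gram_int _ _ cfD cD cD hD hD 4
      (h3_inner S fd fd fd_van fd_van fd_cf 4 (by rw [sum_fd_fd]; norm_num))
  · have h := h3_inner_one S fa (-1) (by rw [sum_fa]; norm_num)
    rw [← htriv, hA triv] at h
    exact_mod_cast h
  · have h := h3_inner_one S fb 0 (by rw [sum_fb]; norm_num)
    rw [← htriv, hB triv] at h
    exact_mod_cast h
  · have h := h3_inner_one S fc 1 (by rw [sum_fc]; norm_num)
    rw [← htriv, hC triv] at h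
    exact_mod_cast h
  · have h := h3_inner_one S fd 0 (by rw [sum_fd]; norm_num)
    rw [← htriv, hD triv] at h
    exact_mod_cast h
  · exact h3_degree_sum _ cfA cA deg hA hdeg (h3_Theta_one S fa fa_van)
  · exact h3_degree_sum _ cfB cB deg hB hdeg (h3_Theta_one S fb fb_van)
  · exact h3_degree_sum _ cfC cC deg hC hdeg (h3_Theta_one S fc fc_van)
  · exact h3_degree_sum _ cfD cD deg hD hdeg (h3_Theta_one S fd fd_van)

/-- P4 applied to a setup. -/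
theorem embedding_of_setup [DecidableEq (Cfsg.IrrCharacter G)] (triv : Cfsg.IrrCharacter G)
    (htriv : (triv : G → ℂ) = fun _ => (1 : ℂ))
    (cA cB cC cD deg : Cfsg.IrrCharacter G → ℤ)
    (hA : ∀ χ : Cfsg.IrrCharacter G, Cfsg.classInner (S.Theta fa) (χ : G → ℂ) = cA χ)
    (hB : ∀ χ : Cfsg.IrrCharacter G, Cfsg.classInner (S.Theta fb) (χ : G → ℂ) = cB χ)
    (hC : ∀ χ : Cfsg.IrrCharacter G, Cfsg.classInner (S.Theta fc) (χ : G → ℂ) = cC χ)
    (hD : ∀ χ : Cfsg.IrrCharacter G, Cfsg.classInner (S.Theta fd) (χ : G → ℂ) = cD χ)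
    (hdeg : ∀ χ : Cfsg.IrrCharacter G, ((deg χ : ℤ) : ℂ) = (χ : G → ℂ) 1)
    (hpos : ∀ χ, 0 < deg χ) :
    Coherent triv cA cB cC cD ∨
      ((Coll (cC - cD) ∨ Coll (cA + cB + cD) ∨ Coll (cA + cB + cC)) ∧
        (Coll (cA - cB) ∨ Coll (cA + cC + cD) ∨ Coll (cB + cC + cD))) := by
  obtain ⟨⟨g1, g2, g3, g4, g5, g6, g7, g8, g9, g10⟩, ⟨t1, t2, t3, t4⟩, ⟨d1, d2, d3, d4⟩⟩ :=
    gram_of_setup S triv htriv cA cB cC cD deg hA hB hC hD hdeg
  exact embedding_cases triv cA cB cC cD deg g1 g2 g3 g4 g5 g6 g7 g8 g9 g10 t1 t2 t3 t4 hpos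
    d1 d2 d3 d4

end Cfsg.Agent.Helper6.H72
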