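import Mathlib
import Cfsg.Prelude.Def_Characters
import Cfsg.Agent.Helper6.H72C

/-!
# S3716 / H72, piece P7a: values of a class function on the 3-singular classes, congruence mod 9

`N ≤ G` with an isomorphism `e : N ≃* M72`.  For a class function `χ` of `G` the four inner products
`cA = ⟨Ind fa, χ⟩`, ..., `cD = ⟨Ind fd, χ⟩` determine the values of `χ` on the classes `3A, 3B, 6A, 6B`
of `N`:  `y5 = (cA + cB) + 2 (cC + cD)`, `y6 = -2 (cA + cB) - (cC + cD)`, `y7 = -(cA - cB)`, `y8 = cC - cD`.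
If `χ` is a character then `9 ∣ χ 1 + 4 y5 + 4 y6 = χ 1 - 4 (cA + cB - cC - cD)` (restriction to the normal
subgroup of order nine).  Model level statements first (`h4_model_*`), then the versions in `G`.
-/

set_option autoImplicit false
set_option linter.style.haveILetI false

namespace Cfsg.Agent.Helper6.H72

open DihedralGroup
open Cfsg.Agent.Helper6
open scoped ComplexConjugate

/-! ### the classes of the model -/

/-- class representatives -/
def h4_rep : ℕ → M72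
  | 0 => 1
  | 1 => mk 0 0 (sr 0)
  | 2 => mk 0 0 (r 2)
  | 3 => mk 0 0 (sr 1)
  | 4 => mk 0 0 (r 1)
  | 5 => mk 1 0 (r 0)
  | 6 => mk 1 1 (r 0)
  | 7 => mk 1 0 (sr 0)
  | _ => mk 1 0 (sr 1)

theorem h4_cls_rep : ∀ k ∈ ({0, 1, 2, 3, 4, 5, 6, 7, 8} : Finset ℕ), cls (h4_rep k) = k := by
  decide +kernel

set_option maxRecDepth 100000 in
/-- the fibres of `cls` are conjugacy classes -/
theorem h4_conj_rep : ∀ m : M72, ∃ c : M72, c * h4_rep (cls m) * c⁻¹ = m := by decide +kernel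

theorem h4_image_cls : (Finset.univ : Finset M72).image cls = {0, 1, 2, 3, 4, 5, 6, 7, 8} := by
  decide +kernel

/-- class sizes -/
def h4_size : ℕ → ℕ
  | 0 => 1 | 1 => 6 | 2 => 9 | 3 => 6 | 4 => 18 | 5 => 4 | 6 => 4 | 7 => 12 | _ => 12

theorem h4_card_cls : ∀ k ∈ ({0, 1, 2, 3, 4, 5, 6, 7, 8} : Finset ℕ),
    ((Finset.univ : Finset M72).filter (fun m => cls m = k)).card = h4_size k := by
  decide +kernel

/-- a class function is constant on the classes -/
theorem h4_cf_rep (ψ : M72 → ℂ) (hψ : Cfsg.IsClassFunction M72 ψ) (m : M72) :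
    ψ m = ψ (h4_rep (cls m)) := by
  obtain ⟨c, hc⟩ := h4_conj_rep m
  have h := hψ (h4_rep (cls m)) c
  rw [hc] at h
  exact h

/-- two elements of the model with the same class number are conjugate -/
theorem h4_conj_of_cls (m m' : M72) (h : cls m = cls m') : ∃ c : M72, c * m * c⁻¹ = m' := by
  obtain ⟨c, hc⟩ := h4_conj_rep m
  obtain ⟨c', hc'⟩ := h4_conj_rep m'
  refine ⟨c' * c⁻¹, ?_⟩
  rw [← hc, ← hc', h]
  group

/-- sums of functions of the class number -/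
theorem h4_sum_cls (F : ℕ → ℂ) : ∑ m : M72, F (cls m) =
    F 0 + 6 * F 1 + 9 * F 2 + 6 * F 3 + 18 * F 4 + 4 * F 5 + 4 * F 6 + 12 * F 7 + 12 * F 8 := by
  rw [Finset.sum_comp F cls, h4_image_cls]
  rw [Finset.sum_congr rfl (fun k hk => by rw [h4_card_cls k hk])]
  simp [Finset.sum_insert, h4_size]
  ring

/-! ### the four class functions as functions of the class number -/

/-- `fa` on class numbers -/
def h4_faN : ℕ → ℤ
  | 5 => -3 | 6 => -6 | 7 => -3 | _ => 0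
/-- `fb` on class numbers -/
def h4_fbN : ℕ → ℤ
  | 5 => -3 | 6 => -6 | 7 => 3 | _ => 0
/-- `fc` on class numbers -/
def h4_fcN : ℕ → ℤ
  | 5 => 6 | 6 => 3 | 8 => 3 | _ => 0
/-- `fd` on class numbers -/
def h4_fdN : ℕ → ℤ
  | 5 => 6 | 6 => 3 | 8 => -3 | _ => 0

theorem h4_fa_eq (m : M72) : fa m = h4_faN (cls m) := rfl
theorem h4_fb_eq (m : M72) : fb m = h4_fbN (cls m) := rfl
theorem h4_fc_eq (m : M72) : fc m = h4_fcN (cls m) := rfl
theorem h4_fd_eq (m : M72) : fd m = h4_fdN (cls m) := rfl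

/-- inner product with a class function, in terms of the values on the representatives -/
theorem h4_inner_of_N (fN : ℕ → ℤ) (ψ : M72 → ℂ) (hψ : Cfsg.IsClassFunction M72 ψ) :
    72 * Cfsg.classInner (fun m => ((fN (cls m) : ℤ) : ℂ)) ψ =
      ∑ m : M72, (fun k => ((fN k : ℤ) : ℂ) * conj (ψ (h4_rep k))) (cls m) := by
  rw [classInner_def, card_M72]
  have h72 : ((72 : ℕ) : ℂ) ≠ 0 := by norm_num
  rw [← mul_assoc]
  have : (72 : ℂ) * ((72 : ℕ) : ℂ)⁻¹ = 1 := by
    push_cast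
    norm_num
  rw [this, one_mul]
  apply Finset.sum_congr rfl
  intro m _
  show ((fN (cls m) : ℤ) : ℂ) * conj (ψ m) = ((fN (cls m) : ℤ) : ℂ) * conj (ψ (h4_rep (cls m)))
  rw [← h4_cf_rep ψ hψ m]

theorem h4_inner_fa (ψ : M72 → ℂ) (hψ : Cfsg.IsClassFunction M72 ψ) :
    72 * Cfsg.classInner (fun m => (fa m : ℂ)) ψ =
      -12 * conj (ψ (h4_rep 5)) - 24 * conj (ψ (h4_rep 6)) - 36 * conj (ψ (h4_rep 7)) := by
  have h := h4_inner_of_N h4_faN ψ hψ
  rw [h4_sum_cls (fun k => ((h4_faN k : ℤ) : ℂ) * conj (ψ (h4_rep k)))] at h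
  have h2 : (fun m : M72 => (fa m : ℂ)) = fun m => ((h4_faN (cls m) : ℤ) : ℂ) := by
    funext m; rw [h4_fa_eq]
  rw [h2, h]
  simp only [h4_faN]
  push_cast
  ring

theorem h4_inner_fb (ψ : M72 → ℂ) (hψ : Cfsg.IsClassFunction M72 ψ) :
    72 * Cfsg.classInner (fun m => (fb m : ℂ)) ψ =
      -12 * conj (ψ (h4_rep 5)) - 24 * conj (ψ (h4_rep 6)) + 36 * conj (ψ (h4_rep 7)) := by
  have h := h4_inner_of_N h4_fbN ψ hψ
  rw [h4_sum_cls (fun k => ((h4_fbN k : ℤ) : ℂ) * conj (ψ (h4_rep k)))] at h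
  have h2 : (fun m : M72 => (fb m : ℂ)) = fun m => ((h4_fbN (cls m) : ℤ) : ℂ) := by
    funext m; rw [h4_fb_eq]
  rw [h2, h]
  simp only [h4_fbN]
  push_cast
  ring

theorem h4_inner_fc (ψ : M72 → ℂ) (hψ : Cfsg.IsClassFunction M72 ψ) :
    72 * Cfsg.classInner (fun m => (fc m : ℂ)) ψ =
      24 * conj (ψ (h4_rep 5)) + 12 * conj (ψ (h4_rep 6)) + 36 * conj (ψ (h4_rep 8)) := by
  have h := h4_inner_of_N h4_fcN ψ hψ
  rw [h4_sum_cls (fun k => ((h4_fcN k : ℤ) : ℂ) * conj (ψ (h4_rep k)))] at h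
  have h2 : (fun m : M72 => (fc m : ℂ)) = fun m => ((h4_fcN (cls m) : ℤ) : ℂ) := by
    funext m; rw [h4_fc_eq]
  rw [h2, h]
  simp only [h4_fcN]
  push_cast
  ring

theorem h4_inner_fd (ψ : M72 → ℂ) (hψ : Cfsg.IsClassFunction M72 ψ) :
    72 * Cfsg.classInner (fun m => (fd m : ℂ)) ψ =
      24 * conj (ψ (h4_rep 5)) + 12 * conj (ψ (h4_rep 6)) - 36 * conj (ψ (h4_rep 8)) := by
  have h := h4_inner_of_N h4_fdN ψ hψ
  rw [h4_sum_cls (fun k => ((h4_fdN k : ℤ) : ℂ) * conj (ψ (h4_rep k)))] at h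
  have h2 : (fun m : M72 => (fd m : ℂ)) = fun m => ((h4_fdN (cls m) : ℤ) : ℂ) := by
    funext m; rw [h4_fd_eq]
  rw [h2, h]
  simp only [h4_fdN]
  push_cast
  ring

/-! ### values on the 3-singular classes (model level) -/

theorem h4_conj_int_eq {z : ℂ} {n : ℤ} (h : conj z = (n : ℂ)) : z = (n : ℂ) := by
  have := congrArg conj h
  rw [Complex.conj_conj, map_intCast] at this
  exact this

/-- the values of a class function `ψ` of the model on the representatives of the classes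
`3A, 3B, 6A, 6B`, in terms of its four integral inner products -/
theorem h4_model_values_rep (ψ : M72 → ℂ) (hψ : Cfsg.IsClassFunction M72 ψ) (cA cB cC cD : ℤ)
    (hA : Cfsg.classInner (fun m => (fa m : ℂ)) ψ = cA)
    (hB : Cfsg.classInner (fun m => (fb m : ℂ)) ψ = cB)
    (hC : Cfsg.classInner (fun m => (fc m : ℂ)) ψ = cC)
    (hD : Cfsg.classInner (fun m => (fd m : ℂ)) ψ = cD) :
    ψ (h4_rep 5) = ((cA + cB + 2 * (cC + cD) : ℤ) : ℂ) ∧
    ψ (h4_rep 6) = ((-2 * (cA + cB) - (cC + cD) : ℤ) : ℂ) ∧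
    ψ (h4_rep 7) = ((-(cA - cB) : ℤ) : ℂ) ∧
    ψ (h4_rep 8) = ((cC - cD : ℤ) : ℂ) := by
  have h1 := h4_inner_fa ψ hψ
  have h2 := h4_inner_fb ψ hψ
  have h3 := h4_inner_fc ψ hψ
  have h4 := h4_inner_fd ψ hψ
  rw [hA] at h1
  rw [hB] at h2
  rw [hC] at h3
  rw [hD] at h4
  refine ⟨h4_conj_int_eq ?_, h4_conj_int_eq ?_, h4_conj_int_eq ?_, h4_conj_int_eq ?_⟩
  · push_cast
    linear_combination (-1 / 72 : ℂ) * h1 + (-1 / 72 : ℂ) * h2 + (-2 / 72 : ℂ) * h3 +
      (-2 / 72 : ℂ) * h4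
  · push_cast
    linear_combination (2 / 72 : ℂ) * h1 + (2 / 72 : ℂ) * h2 + (1 / 72 : ℂ) * h3 +
      (1 / 72 : ℂ) * h4
  · push_cast
    linear_combination (1 / 72 : ℂ) * h1 + (-1 / 72 : ℂ) * h2
  · push_cast
    linear_combination (-1 / 72 : ℂ) * h3 + (1 / 72 : ℂ) * h4

/-- the values of a class function `ψ` of the model on the classes `3A, 3B, 6A, 6B`,
in terms of its four integral inner products -/
theorem h4_model_values (ψ : M72 → ℂ) (hψ : Cfsg.IsClassFunction M72 ψ) (cA cB cC cD : ℤ)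
    (hA : Cfsg.classInner (fun m => (fa m : ℂ)) ψ = cA)
    (hB : Cfsg.classInner (fun m => (fb m : ℂ)) ψ = cB)
    (hC : Cfsg.classInner (fun m => (fc m : ℂ)) ψ = cC)
    (hD : Cfsg.classInner (fun m => (fd m : ℂ)) ψ = cD) (m : M72) :
    (cls m = 5 → ψ m = ((cA + cB + 2 * (cC + cD) : ℤ) : ℂ)) ∧
    (cls m = 6 → ψ m = ((-2 * (cA + cB) - (cC + cD) : ℤ) : ℂ)) ∧
    (cls m = 7 → ψ m = ((-(cA - cB) : ℤ) : ℂ)) ∧
    (cls m = 8 → ψ m = ((cC - cD : ℤ) : ℂ)) := by
  obtain ⟨h5, h6, h7, h8⟩ := h4_model_values_rep ψ hψ cA cB cC cD hA hB hC hD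
  refine ⟨fun h => ?_, fun h => ?_, fun h => ?_, fun h => ?_⟩
  · rw [h4_cf_rep ψ hψ m, h]; exact h5
  · rw [h4_cf_rep ψ hψ m, h]; exact h6
  · rw [h4_cf_rep ψ hψ m, h]; exact h7
  · rw [h4_cf_rep ψ hψ m, h]; exact h8

/-! ### the congruence modulo nine (model level) -/

/-- the embedding of the normal subgroup of order nine -/
def h4_inl : V9 →* M72 := SemidirectProduct.inl

theorem h4_card_V9 : Nat.card V9 = 9 := by
  rw [Nat.card_eq_fintype_card]
  decide +kernel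

theorem h4_image_cls_inl :
    (Finset.univ : Finset V9).image (fun v => cls (h4_inl v)) = {0, 5, 6} := by
  decide +kernel

theorem h4_card_cls_inl : ∀ k ∈ ({0, 5, 6} : Finset ℕ),
    ((Finset.univ : Finset V9).filter (fun v => cls (h4_inl v) = k)).card =
      (match k with | 0 => 1 | _ => 4) := by
  decide +kernel

theorem h4_sum_cls_inl (F : ℕ → ℂ) : ∑ v : V9, F (cls (h4_inl v)) = F 0 + 4 * F 5 + 4 * F 6 := by
  rw [Finset.sum_comp F (fun v : V9 => cls (h4_inl v)), h4_image_cls_inl]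
  rw [Finset.sum_congr rfl (fun k hk => by rw [h4_card_cls_inl k hk])]
  simp [Finset.sum_insert]
  ring

/-- the sum of a character of the model over the normal subgroup of order nine is divisible by nine -/
theorem h4_model_sum_V9 (ψ : M72 → ℂ) (hψ : Cfsg.IsCharacter M72 ψ) :
    ∃ n : ℕ, ψ 1 + 4 * ψ (h4_rep 5) + 4 * ψ (h4_rep 6) = 9 * (n : ℂ) := by
  have hcf : Cfsg.IsClassFunction M72 ψ := IsCharacter.isClassFunction hψ
  have hψ' : Cfsg.IsCharacter V9 (fun v => ψ (h4_inl v)) := IsCharacter.comp_hom h4_inl hψ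
  obtain ⟨n, hn⟩ := classInner_char_char_nat hψ' (isCharacter_one (G := V9))
  refine ⟨n, ?_⟩
  rw [classInner_def, h4_card_V9] at hn
  have hsum : ∑ v : V9, ψ (h4_inl v) * conj ((fun _ : V9 => (1 : ℂ)) v) =
      ∑ v : V9, (fun k => ψ (h4_rep k)) (cls (h4_inl v)) := by
    apply Finset.sum_congr rfl
    intro v _
    simp only [map_one, mul_one]
    exact h4_cf_rep ψ hcf (h4_inl v)
  rw [hsum, h4_sum_cls_inl (fun k => ψ (h4_rep k))] at hn
  have h0 : h4_rep 0 = 1 := rfl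
  rw [h0] at hn
  rw [← hn]
  push_cast
  field_simp

/-- `9 ∣ ψ 1 + 4 y5 + 4 y6` for a character `ψ` of the model -/
theorem h4_model_congr (ψ : M72 → ℂ) (hψ : Cfsg.IsCharacter M72 ψ) (d cA cB cC cD : ℤ)
    (hd : ψ 1 = d)
    (hA : Cfsg.classInner (fun m => (fa m : ℂ)) ψ = cA)
    (hB : Cfsg.classInner (fun m => (fb m : ℂ)) ψ = cB)
    (hC : Cfsg.classInner (fun m => (fc m : ℂ)) ψ = cC)
    (hD : Cfsg.classInner (fun m => (fd m : ℂ)) ψ = cD) :
    (9 : ℤ) ∣ d - 4 * (cA + cB - cC - cD) := by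
  have hcf : Cfsg.IsClassFunction M72 ψ := IsCharacter.isClassFunction hψ
  obtain ⟨h5, h6, -, -⟩ := h4_model_values_rep ψ hcf cA cB cC cD hA hB hC hD
  obtain ⟨n, hn⟩ := h4_model_sum_V9 ψ hψ
  rw [hd, h5, h6] at hn
  refine ⟨(n : ℤ), ?_⟩
  have h : ((d - 4 * (cA + cB - cC - cD) : ℤ) : ℂ) = ((9 * (n : ℤ) : ℤ) : ℂ) := by
    push_cast
    push_cast at hn
    linear_combination hn
  exact_mod_cast h

/-! ### the versions in `G` -/

section inG

variable {G : Type*} [Group G]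

/-- the embedding of the model given by an isomorphism `N ≃* M72` -/
def h4_iota (N : Subgroup G) (e : N ≃* M72) : M72 →* G := N.subtype.comp e.symm.toMonoidHom

theorem h4_iota_apply (N : Subgroup G) (e : N ≃* M72) (m : M72) :
    h4_iota N e m = ((e.symm m : N) : G) := rfl

theorem h4_iota_e (N : Subgroup G) (e : N ≃* M72) (n : N) : h4_iota N e (e n) = (n : G) := by
  rw [h4_iota_apply, MulEquiv.symm_apply_apply]

theorem h4_cf_iota (N : Subgroup G) (e : N ≃* M72) (χ : G → ℂ) (hχ : Cfsg.IsClassFunction G χ) :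
    Cfsg.IsClassFunction M72 (fun m => χ (h4_iota N e m)) := by
  intro m c
  show χ (h4_iota N e (c * m * c⁻¹)) = χ (h4_iota N e m)
  rw [map_mul, map_mul, map_inv]
  exact hχ _ _

/-- Frobenius reciprocity, transported to the model -/
theorem h4_inner_ind [Fintype G] (N : Subgroup G) (e : N ≃* M72) (f : M72 → ℤ) (χ : G → ℂ)
    (hχ : Cfsg.IsClassFunction G χ) :
    Cfsg.classInner (Cfsg.indFun N (fun n => (f (e n) : ℂ))) χ =
      Cfsg.classInner (fun m => (f m : ℂ)) (fun m => χ (h4_iota N e m)) := by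
  classical
  haveI : Fintype N := Fintype.ofFinite N
  rw [frobenius_reciprocity N _ χ hχ, classInner_def, classInner_def,
    Nat.card_congr e.toEquiv]
  congr 1
  have h := Equiv.sum_comp e.toEquiv (fun m => ((f m : ℤ) : ℂ) * conj (χ (h4_iota N e m)))
  rw [← h]
  apply Finset.sum_congr rfl
  intro n _
  show ((f (e n) : ℤ) : ℂ) * conj (χ (n : G)) = ((f (e n) : ℤ) : ℂ) * conj (χ (h4_iota N e (e n)))
  rw [h4_iota_e]

/-- the four inner products are integers for irreducible `χ` -/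
theorem h4_exists_int [Fintype G] (N : Subgroup G) (e : N ≃* M72) (f : M72 → ℤ)
    (hf : Cfsg.IsGeneralizedCharacter M72 (fun m => (f m : ℂ))) (χ : G → ℂ)
    (hχ : Cfsg.IsIrrCharacter G χ) :
    ∃ c : ℤ, Cfsg.classInner (Cfsg.indFun N (fun n => (f (e n) : ℂ))) χ = c :=
  IsGeneralizedCharacter.classInner_irr_int
    (IsGeneralizedCharacter.indFun N (IsGeneralizedCharacter.comp_hom' e.toMonoidHom hf)) hχ

/-- **values on the 3-singular classes**: for a class function `χ` of `G` with integral inner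
products `cA, cB, cC, cD` with the four induced class functions -/
theorem h4_values [Fintype G] (N : Subgroup G) (e : N ≃* M72) (χ : G → ℂ)
    (hχ : Cfsg.IsClassFunction G χ) (cA cB cC cD : ℤ)
    (hA : Cfsg.classInner (Cfsg.indFun N (fun n => (fa (e n) : ℂ))) χ = cA)
    (hB : Cfsg.classInner (Cfsg.indFun N (fun n => (fb (e n) : ℂ))) χ = cB)
    (hC : Cfsg.classInner (Cfsg.indFun N (fun n => (fc (e n) : ℂ))) χ = cC)
    (hD : Cfsg.classInner (Cfsg.indFun N (fun n => (fd (e n) : ℂ))) χ = cD) (m : M72) :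
    (cls m = 5 → χ (h4_iota N e m) = ((cA + cB + 2 * (cC + cD) : ℤ) : ℂ)) ∧
    (cls m = 6 → χ (h4_iota N e m) = ((-2 * (cA + cB) - (cC + cD) : ℤ) : ℂ)) ∧
    (cls m = 7 → χ (h4_iota N e m) = ((-(cA - cB) : ℤ) : ℂ)) ∧
    (cls m = 8 → χ (h4_iota N e m) = ((cC - cD : ℤ) : ℂ)) := by
  rw [h4_inner_ind N e _ χ hχ] at hA hB hC hD
  exact h4_model_values (fun m => χ (h4_iota N e m)) (h4_cf_iota N e χ hχ) cA cB cC cD hA hB hC hD m

/-- **congruence modulo nine**: for a character `χ` of `G` of degree `d` -/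
theorem h4_congr [Fintype G] (N : Subgroup G) (e : N ≃* M72) (χ : G → ℂ)
    (hχ : Cfsg.IsCharacter G χ) (d cA cB cC cD : ℤ) (hd : χ 1 = d)
    (hA : Cfsg.classInner (Cfsg.indFun N (fun n => (fa (e n) : ℂ))) χ = cA)
    (hB : Cfsg.classInner (Cfsg.indFun N (fun n => (fb (e n) : ℂ))) χ = cB)
    (hC : Cfsg.classInner (Cfsg.indFun N (fun n => (fc (e n) : ℂ))) χ = cC)
    (hD : Cfsg.classInner (Cfsg.indFun N (fun n => (fd (e n) : ℂ))) χ = cD) :
    (9 : ℤ) ∣ d - 4 * (cA + cB - cC - cD) := by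
  have hcf : Cfsg.IsClassFunction G χ := IsCharacter.isClassFunction hχ
  rw [h4_inner_ind N e _ χ hcf] at hA hB hC hD
  refine h4_model_congr (fun m => χ (h4_iota N e m)) (IsCharacter.comp_hom (h4_iota N e) hχ)
    d cA cB cC cD ?_ hA hB hC hD
  show χ (h4_iota N e 1) = d
  rw [map_one, hd]

end inG

end Cfsg.Agent.Helper6.H72
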