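import Mathlib
import Cfsg.Prelude.Def_Characters
import Cfsg.Agent.Helper6.SEmbA
import Cfsg.Agent.Helper6.H72C
import Cfsg.Agent.H72.H1_GSetup

/-!
# H72 / P5 (iii): class relations for two involutions, linearity, packaged facts

* `h7_class_rel2`: the class relation for two elements `u v` of square one of `G`.
* `h7_Theta_lin`, `h7_pairSum_lin` (and `add`, `sub`, `neg`, `smul` variants): linearity.
* Gram matrix of `Θ fa, Θ fb, Θ fc, Θ fd`, inner products with the trivial character, vanishing at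
  elements of square one, expansion in the irreducible characters.
-/

set_option autoImplicit false
set_option linter.style.haveILetI false

namespace Cfsg.Agent.Helper6.H72

open Cfsg.Agent.Helper6
open scoped ComplexConjugate

universe u v

variable {G : Type u} [Group G]

/-! ### Model generic part -/

section generic

variable {Mdl : Type v} [Group Mdl] {sing' : Mdl → Bool} (S : GSetup G Mdl sing')

theorem h7_phi_lin (a b : ℤ) (f g : Mdl → ℤ) :
    S.phi (fun m => a * f m + b * g m) = (a : ℂ) • S.phi f + (b : ℂ) • S.phi g := by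
  funext n
  simp only [GSetup.phi, Pi.add_apply, Pi.smul_apply, smul_eq_mul]
  push_cast
  ring

/-- `Theta` is additive and homogeneous. -/
theorem h7_Theta_lin [Fintype G] (a b : ℤ) (f g : Mdl → ℤ) :
    S.Theta (fun m => a * f m + b * g m) =
      fun x => (a : ℂ) * S.Theta f x + (b : ℂ) * S.Theta g x := by
  unfold GSetup.Theta
  rw [h7_phi_lin, indFun_add, indFun_smul, indFun_smul]
  funext x
  simp only [Pi.add_apply, Pi.smul_apply, smul_eq_mul]

theorem h7_Theta_add [Fintype G] (f g : Mdl → ℤ) :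
    S.Theta (fun m => f m + g m) = fun x => S.Theta f x + S.Theta g x := by
  have h := h7_Theta_lin S 1 1 f g
  simpa using h

theorem h7_Theta_sub [Fintype G] (f g : Mdl → ℤ) :
    S.Theta (fun m => f m - g m) = fun x => S.Theta f x - S.Theta g x := by
  have h := h7_Theta_lin S 1 (-1) f g
  simp only [one_mul, neg_mul, Int.cast_one, Int.cast_neg] at h
  have e : (fun m => f m - g m) = fun m => f m + -g m := by
    funext m
    ring
  rw [e, h]
  funext x
  ring

theorem h7_Theta_neg [Fintype G] (f : Mdl → ℤ) :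
    S.Theta (fun m => -f m) = fun x => -S.Theta f x := by
  have h := h7_Theta_lin S (-1) 0 f f
  simp only [neg_mul, one_mul, zero_mul, add_zero, Int.cast_neg, Int.cast_one, Int.cast_zero] at h
  exact h

theorem h7_Theta_smul [Fintype G] (a : ℤ) (f : Mdl → ℤ) :
    S.Theta (fun m => a * f m) = fun x => (a : ℂ) * S.Theta f x := by
  have h := h7_Theta_lin S a 0 f f
  simp only [zero_mul, add_zero, Int.cast_zero] at h
  exact h

/-- The expansion of `Theta d` in the irreducible characters, evaluated at an element. -/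
theorem h7_Theta_expansion [Fintype G] [Fintype (Cfsg.IrrCharacter G)] (d : Mdl → ℤ) (g : G) :
    ∑ χ : Cfsg.IrrCharacter G, Cfsg.classInner (S.Theta d) (χ : G → ℂ) * (χ : G → ℂ) g =
      S.Theta d g := by
  have h := classFunction_expansion (S.Theta d) (S.Theta_isClassFunction d)
  have h2 := congrFun h g
  rw [Finset.sum_apply] at h2
  simp only [Pi.smul_apply, smul_eq_mul] at h2
  exact h2.symm

/-- The class relation for two elements of square one, model generic. -/
theorem h7_class_rel_gen [Fintype G] [Fintype (Cfsg.IrrCharacter G)] [Fintype Mdl]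
    [DecidableEq Mdl] (hinv : ∀ m : Mdl, sing' m⁻¹ = sing' m) (d : Mdl → ℤ)
    (hd : ∀ m, sing' m = false → d m = 0) (u w : G) (hu : u * u = 1) (hw : w * w = 1)
    (U V : Finset Mdl) (hU : ∀ m, m ∈ U ↔ IsConj u (S.ι m)) (hV : ∀ m, m ∈ V ↔ IsConj w (S.ι m)) :
    ((classFinset u).card : ℂ) * ((classFinset w).card : ℂ) *
      ∑ χ : Cfsg.IrrCharacter G, Cfsg.classInner (S.Theta d) (χ : G → ℂ) *
        ((χ : G → ℂ) u * (χ : G → ℂ) w / (χ : G → ℂ) 1) =
    (Nat.card G : ℂ) / (Fintype.card Mdl : ℂ) *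
      ((∑ m₁ ∈ U, ∑ m₂ ∈ V, d (m₁ * m₂) : ℤ) : ℂ) := by
  rw [← SEmb.sum_class_mul_eq, S.sum_class_Theta hinv d hd u w hu hw U V hU hV]

end generic

/-! ### The model `M72` -/

theorem h7_card_M72 : (Fintype.card M72 : ℂ) = 72 := by
  have h := card_M72
  rw [Nat.card_eq_fintype_card] at h
  rw [h]
  norm_num

variable (S : GSetup G M72 sing)

/-- The class relation for two elements `u v` of square one of `G`. -/
theorem h7_class_rel2 [Fintype G] [Fintype (Cfsg.IrrCharacter G)] (f : M72 → ℤ)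
    (hf : ∀ m, sing m = false → f m = 0) (u v : G) (hu : u * u = 1) (hv : v * v = 1)
    (U V : Finset M72) (hU : ∀ m, m ∈ U ↔ IsConj u (S.ι m)) (hV : ∀ m, m ∈ V ↔ IsConj v (S.ι m)) :
    ((classFinset u).card : ℂ) * ((classFinset v).card : ℂ) *
      ∑ χ : Cfsg.IrrCharacter G, Cfsg.classInner (S.Theta f) (χ : G → ℂ) *
        ((χ : G → ℂ) u * (χ : G → ℂ) v / (χ : G → ℂ) 1) =
    (Nat.card G : ℂ) / 72 * ((pairSum U V f : ℤ) : ℂ) := by
  rw [h7_class_rel_gen S sing_inv f hf u v hu hv U V hU hV, h7_card_M72]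
  rfl

theorem h7_pairSum_lin (U V : Finset M72) (a b : ℤ) (f g : M72 → ℤ) :
    pairSum U V (fun m => a * f m + b * g m) = a * pairSum U V f + b * pairSum U V g := by
  unfold pairSum
  simp only [Finset.sum_add_distrib, Finset.mul_sum]

theorem h7_pairSum_add (U V : Finset M72) (f g : M72 → ℤ) :
    pairSum U V (fun m => f m + g m) = pairSum U V f + pairSum U V g := by
  unfold pairSum
  simp only [Finset.sum_add_distrib]

theorem h7_pairSum_sub (U V : Finset M72) (f g : M72 → ℤ) :
    pairSum U V (fun m => f m - g m) = pairSum U V f - pairSum U V g := by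
  unfold pairSum
  simp only [Finset.sum_sub_distrib]

theorem h7_pairSum_neg (U V : Finset M72) (f : M72 → ℤ) :
    pairSum U V (fun m => -f m) = -pairSum U V f := by
  unfold pairSum
  simp only [Finset.sum_neg_distrib]

theorem h7_pairSum_smul (U V : Finset M72) (a : ℤ) (f : M72 → ℤ) :
    pairSum U V (fun m => a * f m) = a * pairSum U V f := by
  unfold pairSum
  simp only [Finset.mul_sum]

/-- inner products of two `Theta`s from the model sum -/
theorem h7_inner_of_sum [Fintype G] (f f' : M72 → ℤ) (hf : ∀ m, sing m = false → f m = 0)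
    (hf' : ∀ m, sing m = false → f' m = 0) (hcf : ∀ m c, f' (c * m * c⁻¹) = f' m) (k : ℤ)
    (hk : ∑ m : M72, f m * f' m = 72 * k) :
    Cfsg.classInner (S.Theta f) (S.Theta f') = (k : ℂ) := by
  rw [S.classInner_Theta f f' hf hf' hcf, hk, h7_card_M72]
  push_cast
  field_simp

/-- inner product of a `Theta` with the trivial character from the model sum -/
theorem h7_inner_one_of_sum [Fintype G] (f : M72 → ℤ) (k : ℤ) (hk : ∑ m : M72, f m = 72 * k) :
    Cfsg.classInner (S.Theta f) (fun _ => (1 : ℂ)) = (k : ℂ) := by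
  rw [S.classInner_Theta_one f, hk, h7_card_M72]
  push_cast
  field_simp

theorem h7_sum_comm (f f' : M72 → ℤ) : ∑ m : M72, f m * f' m = ∑ m : M72, f' m * f m :=
  Finset.sum_congr rfl (fun _ _ => mul_comm _ _)

/-! ### Gram matrix -/

section gram

variable [Fintype G]

theorem h7_gram_aa : Cfsg.classInner (S.Theta fa) (S.Theta fa) = 4 := by
  have h := h7_inner_of_sum S fa fa fa_van fa_van fa_cf 4 (by rw [sum_fa_fa]; rfl)
  exact_mod_cast h

theorem h7_gram_ab : Cfsg.classInner (S.Theta fa) (S.Theta fb) = 1 := by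
  have h := h7_inner_of_sum S fa fb fa_van fb_van fb_cf 1 (by rw [sum_fa_fb]; rfl)
  exact_mod_cast h

theorem h7_gram_ac : Cfsg.classInner (S.Theta fa) (S.Theta fc) = -2 := by
  have h := h7_inner_of_sum S fa fc fa_van fc_van fc_cf (-2) (by rw [sum_fa_fc]; rfl)
  exact_mod_cast h

theorem h7_gram_ad : Cfsg.classInner (S.Theta fa) (S.Theta fd) = -2 := by
  have h := h7_inner_of_sum S fa fd fa_van fd_van fd_cf (-2) (by rw [sum_fa_fd]; rfl)
  exact_mod_cast h

theorem h7_gram_ba : Cfsg.classInner (S.Theta fb) (S.Theta fa) = 1 := by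
  have h := h7_inner_of_sum S fb fa fb_van fa_van fa_cf 1 (by rw [h7_sum_comm, sum_fa_fb]; rfl)
  exact_mod_cast h

theorem h7_gram_bb : Cfsg.classInner (S.Theta fb) (S.Theta fb) = 4 := by
  have h := h7_inner_of_sum S fb fb fb_van fb_van fb_cf 4 (by rw [sum_fb_fb]; rfl)
  exact_mod_cast h

theorem h7_gram_bc : Cfsg.classInner (S.Theta fb) (S.Theta fc) = -2 := by
  have h := h7_inner_of_sum S fb fc fb_van fc_van fc_cf (-2) (by rw [sum_fb_fc]; rfl)
  exact_mod_cast h

theorem h7_gram_bd : Cfsg.classInner (S.Theta fb) (S.Theta fd) = -2 := by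
  have h := h7_inner_of_sum S fb fd fb_van fd_van fd_cf (-2) (by rw [sum_fb_fd]; rfl)
  exact_mod_cast h

theorem h7_gram_ca : Cfsg.classInner (S.Theta fc) (S.Theta fa) = -2 := by
  have h := h7_inner_of_sum S fc fa fc_van fa_van fa_cf (-2) (by rw [h7_sum_comm, sum_fa_fc]; rfl)
  exact_mod_cast h

theorem h7_gram_cb : Cfsg.classInner (S.Theta fc) (S.Theta fb) = -2 := by
  have h := h7_inner_of_sum S fc fb fc_van fb_van fb_cf (-2) (by rw [h7_sum_comm, sum_fb_fc]; rfl)
  exact_mod_cast h

theorem h7_gram_cc : Cfsg.classInner (S.Theta fc) (S.Theta fc) = 4 := by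
  have h := h7_inner_of_sum S fc fc fc_van fc_van fc_cf 4 (by rw [sum_fc_fc]; rfl)
  exact_mod_cast h

theorem h7_gram_cd : Cfsg.classInner (S.Theta fc) (S.Theta fd) = 1 := by
  have h := h7_inner_of_sum S fc fd fc_van fd_van fd_cf 1 (by rw [sum_fc_fd]; rfl)
  exact_mod_cast h

theorem h7_gram_da : Cfsg.classInner (S.Theta fd) (S.Theta fa) = -2 := by
  have h := h7_inner_of_sum S fd fa fd_van fa_van fa_cf (-2) (by rw [h7_sum_comm, sum_fa_fd]; rfl)
  exact_mod_cast h

theorem h7_gram_db : Cfsg.classInner (S.Theta fd) (S.Theta fb) = -2 := by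
  have h := h7_inner_of_sum S fd fb fd_van fb_van fb_cf (-2) (by rw [h7_sum_comm, sum_fb_fd]; rfl)
  exact_mod_cast h

theorem h7_gram_dc : Cfsg.classInner (S.Theta fd) (S.Theta fc) = 1 := by
  have h := h7_inner_of_sum S fd fc fd_van fc_van fc_cf 1 (by rw [h7_sum_comm, sum_fc_fd]; rfl)
  exact_mod_cast h

theorem h7_gram_dd : Cfsg.classInner (S.Theta fd) (S.Theta fd) = 4 := by
  have h := h7_inner_of_sum S fd fd fd_van fd_van fd_cf 4 (by rw [sum_fd_fd]; rfl)
  exact_mod_cast h

theorem h7_inner_one_a : Cfsg.classInner (S.Theta fa) (fun _ => (1 : ℂ)) = -1 := by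
  have h := h7_inner_one_of_sum S fa (-1) (by rw [sum_fa]; rfl)
  exact_mod_cast h

theorem h7_inner_one_b : Cfsg.classInner (S.Theta fb) (fun _ => (1 : ℂ)) = 0 := by
  have h := h7_inner_one_of_sum S fb 0 (by rw [sum_fb]; rfl)
  exact_mod_cast h

theorem h7_inner_one_c : Cfsg.classInner (S.Theta fc) (fun _ => (1 : ℂ)) = 1 := by
  have h := h7_inner_one_of_sum S fc 1 (by rw [sum_fc]; rfl)
  exact_mod_cast h

theorem h7_inner_one_d : Cfsg.classInner (S.Theta fd) (fun _ => (1 : ℂ)) = 0 := by
  have h := h7_inner_one_of_sum S fd 0 (by rw [sum_fd]; rfl)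
  exact_mod_cast h

end gram

/-! ### Vanishing -/

/-- `Theta f` vanishes at elements of square one. -/
theorem h7_Theta_sq [Fintype G] (f : M72 → ℤ) (hf : ∀ m, sing m = false → f m = 0) (u : G)
    (hu : u * u = 1) : S.Theta f u = 0 :=
  S.Theta_eq_zero_of_sq sing_sq_ne f hf u hu

/-- `Theta f` vanishes at the identity. -/
theorem h7_Theta_one [Fintype G] (f : M72 → ℤ) (hf : ∀ m, sing m = false → f m = 0) :
    S.Theta f 1 = 0 :=
  h7_Theta_sq S f hf 1 (one_mul 1)

/-- the degree equation -/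
theorem h7_sum_deg [Fintype G] [Fintype (Cfsg.IrrCharacter G)] (f : M72 → ℤ)
    (hf : ∀ m, sing m = false → f m = 0) :
    ∑ χ : Cfsg.IrrCharacter G, Cfsg.classInner (S.Theta f) (χ : G → ℂ) * (χ : G → ℂ) 1 = 0 := by
  rw [h7_Theta_expansion, h7_Theta_one S f hf]

/-- the equation at an element of square one -/
theorem h7_sum_sq [Fintype G] [Fintype (Cfsg.IrrCharacter G)] (f : M72 → ℤ)
    (hf : ∀ m, sing m = false → f m = 0) (u : G) (hu : u * u = 1) :
    ∑ χ : Cfsg.IrrCharacter G, Cfsg.classInner (S.Theta f) (χ : G → ℂ) * (χ : G → ℂ) u = 0 := by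
  rw [h7_Theta_expansion, h7_Theta_sq S f hf u hu]

end Cfsg.Agent.Helper6.H72
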