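import Mathlib
import Cfsg.Prelude.Def_Characters
import Cfsg.Agent.Helper6.OddReal
import Cfsg.Agent.Helper6.SmallDegree
import Cfsg.Agent.Helper6.NormTwo
import Cfsg.Agent.Helper6.H72C
import Cfsg.Agent.H72.H1_GSetup
import Cfsg.Agent.H72.H4_P7a

/-!
# H72 / P7f: small glue facts for the assembly of S3716

For `S : GSetup G M72 sing`:
* `exists_coeffs`: the integer coefficients `cA cB cC cD` of `Θ fa, Θ fb, Θ fc, Θ fd`;
* `exists_degZ`: the integer degrees;
* `hcong_of_setup`: the congruence modulo nine;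
* `h7_triv`: the trivial irreducible character;
* nonvanishing of `|G| / 72` and of class sizes.
-/

set_option autoImplicit false
set_option linter.style.haveILetI false

namespace Cfsg.Agent.Helper6.H72

open Cfsg.Agent.Helper6
open scoped ComplexConjugate

universe u

variable {G : Type u} [Group G]

/-- the trivial irreducible character -/
noncomputable def h7_triv : Cfsg.IrrCharacter G := ⟨fun _ => (1 : ℂ), isIrrCharacter_one⟩

theorem h7_triv_coe : ((h7_triv : Cfsg.IrrCharacter G) : G → ℂ) = fun _ => (1 : ℂ) := rfl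

/-- integrality of the coefficients of one induced generalized character -/
theorem h7_exists_coeff [Fintype G] (S : GSetup G M72 sing) (f : M72 → ℤ)
    (hf : Cfsg.IsGeneralizedCharacter M72 (fun m => (f m : ℂ))) :
    ∃ c : Cfsg.IrrCharacter G → ℤ,
      ∀ χ : Cfsg.IrrCharacter G, Cfsg.classInner (S.Theta f) (χ : G → ℂ) = (c χ : ℂ) := by
  have h : ∀ χ : Cfsg.IrrCharacter G, ∃ c : ℤ,
      Cfsg.classInner (S.Theta f) (χ : G → ℂ) = (c : ℂ) :=
    fun χ => IsGeneralizedCharacter.classInner_irr_int (S.isGenChar_Theta f hf) χ.2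
  choose c hc using h
  exact ⟨c, hc⟩

/-- the four integer coefficient functions -/
theorem exists_coeffs [Fintype G] (S : GSetup G M72 sing) :
    ∃ cA cB cC cD : Cfsg.IrrCharacter G → ℤ,
      (∀ χ : Cfsg.IrrCharacter G, Cfsg.classInner (S.Theta fa) (χ : G → ℂ) = (cA χ : ℂ)) ∧
      (∀ χ : Cfsg.IrrCharacter G, Cfsg.classInner (S.Theta fb) (χ : G → ℂ) = (cB χ : ℂ)) ∧
      (∀ χ : Cfsg.IrrCharacter G, Cfsg.classInner (S.Theta fc) (χ : G → ℂ) = (cC χ : ℂ)) ∧
      (∀ χ : Cfsg.IrrCharacter G, Cfsg.classInner (S.Theta fd) (χ : G → ℂ) = (cD χ : ℂ)) := by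
  obtain ⟨cA, hA⟩ := h7_exists_coeff S fa isGenChar_fa
  obtain ⟨cB, hB⟩ := h7_exists_coeff S fb isGenChar_fb
  obtain ⟨cC, hC⟩ := h7_exists_coeff S fc isGenChar_fc
  obtain ⟨cD, hD⟩ := h7_exists_coeff S fd isGenChar_fd
  exact ⟨cA, cB, cC, cD, hA, hB, hC, hD⟩

/-- the integer degrees -/
theorem exists_degZ [Finite G] : ∃ degZ : Cfsg.IrrCharacter G → ℤ,
    (∀ χ : Cfsg.IrrCharacter G, 0 < degZ χ) ∧
      ∀ χ : Cfsg.IrrCharacter G, (χ : G → ℂ) 1 = (degZ χ : ℂ) := by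
  have h : ∀ χ : Cfsg.IrrCharacter G, ∃ n : ℕ, (χ : G → ℂ) 1 = n ∧ n ∣ Nat.card G ∧ 0 < n :=
    fun χ => IsIrrCharacter.degree_dvd_card χ.2
  choose d hd1 _ hd3 using h
  refine ⟨fun χ => (d χ : ℤ), fun χ => ?_, fun χ => ?_⟩
  · show (0 : ℤ) < (d χ : ℤ)
    exact_mod_cast hd3 χ
  · rw [hd1 χ]
    push_cast
    rfl

/-- the integer degree of a character which is constant `1` is `1` -/
theorem degZ_eq_one_of_triv (degZ : Cfsg.IrrCharacter G → ℤ)
    (hdeg : ∀ χ : Cfsg.IrrCharacter G, (χ : G → ℂ) 1 = (degZ χ : ℂ)) (triv : Cfsg.IrrCharacter G)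
    (htriv : (triv : G → ℂ) = fun _ => (1 : ℂ)) : degZ triv = 1 := by
  have h := hdeg triv
  rw [htriv] at h
  have h2 : (1 : ℂ) = (degZ triv : ℂ) := h
  exact_mod_cast h2.symm

/-- degrees of irreducible characters do not vanish -/
theorem h7_deg_ne_zero [Finite G] (χ : Cfsg.IrrCharacter G) : (χ : G → ℂ) 1 ≠ 0 := by
  obtain ⟨n, hn, -, hpos⟩ := IsIrrCharacter.degree_dvd_card χ.2
  rw [hn]
  exact_mod_cast hpos.ne'

/-- the congruence modulo nine -/
theorem hcong_of_setup [Fintype G] (S : GSetup G M72 sing)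
    (cA cB cC cD degZ : Cfsg.IrrCharacter G → ℤ)
    (hA : ∀ χ : Cfsg.IrrCharacter G, Cfsg.classInner (S.Theta fa) (χ : G → ℂ) = (cA χ : ℂ))
    (hB : ∀ χ : Cfsg.IrrCharacter G, Cfsg.classInner (S.Theta fb) (χ : G → ℂ) = (cB χ : ℂ))
    (hC : ∀ χ : Cfsg.IrrCharacter G, Cfsg.classInner (S.Theta fc) (χ : G → ℂ) = (cC χ : ℂ))
    (hD : ∀ χ : Cfsg.IrrCharacter G, Cfsg.classInner (S.Theta fd) (χ : G → ℂ) = (cD χ : ℂ))
    (hdeg : ∀ χ : Cfsg.IrrCharacter G, (χ : G → ℂ) 1 = (degZ χ : ℂ)) :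
    ∀ χ : Cfsg.IrrCharacter G, (9 : ℤ) ∣ degZ χ - 4 * (cA χ + cB χ - cC χ - cD χ) := by
  intro χ
  exact h4_congr S.N S.e (χ : G → ℂ) (IsIrrCharacter.isCharacter χ.2) (degZ χ) (cA χ) (cB χ) (cC χ)
    (cD χ) (hdeg χ) (hA χ) (hB χ) (hC χ) (hD χ)

/-! ### Nonvanishing -/

theorem h7_K_ne_zero [Finite G] : (Nat.card G : ℂ) / 72 ≠ 0 := by
  have h : 0 < Nat.card G := Nat.card_pos
  have h2 : (Nat.card G : ℂ) ≠ 0 := by exact_mod_cast h.ne'
  exact div_ne_zero h2 (by norm_num)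

theorem h7_card_classFinset_pos [Fintype G] (g : G) : 0 < (classFinset g).card := by
  apply Finset.card_pos.mpr
  exact ⟨g, (mem_classFinset g g).mpr (IsConj.refl g)⟩

theorem h7_card_classFinset_ne_zero [Fintype G] (g : G) : ((classFinset g).card : ℂ) ≠ 0 := by
  exact_mod_cast (h7_card_classFinset_pos g).ne'

theorem h7_card_classFinset_add_ne_zero [Fintype G] (g h : G) :
    ((classFinset g).card : ℂ) + ((classFinset h).card : ℂ) ≠ 0 := by
  have h1 := h7_card_classFinset_pos g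
  have h2 := h7_card_classFinset_pos h
  have h3 : (classFinset g).card + (classFinset h).card ≠ 0 := by omega
  exact_mod_cast h3

end Cfsg.Agent.Helper6.H72
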