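import Mathlib
import Cfsg.Agent.Helper6.H72C

/-!
# H72: pair sums over merged classes

`finCl2 k l` is the disjoint union of `finCl k` and `finCl l` for `k ≠ l`, hence the pair sums over
merged classes are sums of the unmerged ones (generic in the function).
-/

set_option autoImplicit false

namespace Cfsg.Agent.Helper6.H72

theorem h7_finCl2_eq (k l : ℕ) : finCl2 k l = finCl k ∪ finCl l := by
  unfold finCl2 finCl
  rw [Finset.filter_or]

theorem h7_disjoint_finCl (k l : ℕ) (hkl : k ≠ l) : Disjoint (finCl k) (finCl l) := by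
  unfold finCl
  rw [Finset.disjoint_filter]
  intro m _ h1 h2
  exact hkl (h1.symm.trans h2)

theorem h7_sum_finCl2 (k l : ℕ) (hkl : k ≠ l) (F : M72 → ℤ) :
    ∑ m ∈ finCl2 k l, F m = ∑ m ∈ finCl k, F m + ∑ m ∈ finCl l, F m := by
  rw [h7_finCl2_eq, Finset.sum_union (h7_disjoint_finCl k l hkl)]

/-- merging on the left -/
theorem h7_pairSum_union_left (k l : ℕ) (hkl : k ≠ l) (V : Finset M72) (f : M72 → ℤ) :
    pairSum (finCl2 k l) V f = pairSum (finCl k) V f + pairSum (finCl l) V f := by
  unfold pairSum
  exact h7_sum_finCl2 k l hkl _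

/-- merging on the right -/
theorem h7_pairSum_union_right (k l : ℕ) (hkl : k ≠ l) (U : Finset M72) (f : M72 → ℤ) :
    pairSum U (finCl2 k l) f = pairSum U (finCl k) f + pairSum U (finCl l) f := by
  unfold pairSum
  rw [← Finset.sum_add_distrib]
  apply Finset.sum_congr rfl
  intro m _
  exact h7_sum_finCl2 k l hkl _

/-- merging on both sides -/
theorem h7_pairSum_union_both (k l : ℕ) (hkl : k ≠ l) (f : M72 → ℤ) :
    pairSum (finCl2 k l) (finCl2 k l) f =
      pairSum (finCl k) (finCl k) f + pairSum (finCl k) (finCl l) f +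
        pairSum (finCl l) (finCl k) f + pairSum (finCl l) (finCl l) f := by
  rw [h7_pairSum_union_left k l hkl, h7_pairSum_union_right k l hkl, h7_pairSum_union_right k l hkl]
  ring

end Cfsg.Agent.Helper6.H72
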