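import Mathlib
import Cfsg.Agent.Helper6.H72C

/-!
# H72 / P6-R: the rank lemma and the nonzero minors of the merged pair sums

* `rank_core`: three weighted points with `∑ W = 0`, `∑ W p = 0`, `∑ W q = 0` satisfy
  `(∑ W p²)(∑ W q²) = (∑ W p q)²`.
* `rank_lift`: the same over a `Fintype`, for an integer vector supported on three points.
* the six norm-6 vectors `h9_vcd = fc - fd`, `h9_vabd = fa + fb + fd`, `h9_vabc = fa + fb + fc`,
  `h9_vab = fa - fb`, `h9_vacd = fa + fc + fd`, `h9_vbcd = fb + fc + fd`, their pair sums and the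
  nonzero `2 × 2` minors in the three fusion patterns.
-/

set_option autoImplicit false
set_option linter.style.haveILetI false

namespace Cfsg.Agent.Helper6.H72

/-- The rank lemma: three weighted points whose weights, first and second coordinates sum to zero
have a degenerate matrix of second moments. -/
theorem rank_core (W1 W2 W3 p1 p2 p3 q1 q2 q3 : ℂ) (h0 : W1 + W2 + W3 = 0)
    (hp : W1 * p1 + W2 * p2 + W3 * p3 = 0) (hq : W1 * q1 + W2 * q2 + W3 * q3 = 0) :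
    (W1 * p1 ^ 2 + W2 * p2 ^ 2 + W3 * p3 ^ 2) * (W1 * q1 ^ 2 + W2 * q2 ^ 2 + W3 * q3 ^ 2) =
      (W1 * p1 * q1 + W2 * p2 * q2 + W3 * p3 * q3) ^ 2 := by
  have hx : W1 * (p1 - p3) + W2 * (p2 - p3) = 0 := by linear_combination hp - p3 * h0
  have hy : W1 * (q1 - q3) + W2 * (q2 - q3) = 0 := by linear_combination hq - q3 * h0
  have hA : W1 * p1 ^ 2 + W2 * p2 ^ 2 + W3 * p3 ^ 2 =
      W1 * (p1 - p3) ^ 2 + W2 * (p2 - p3) ^ 2 := by
    linear_combination p3 ^ 2 * h0 + 2 * p3 * hx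
  have hB : W1 * q1 ^ 2 + W2 * q2 ^ 2 + W3 * q3 ^ 2 =
      W1 * (q1 - q3) ^ 2 + W2 * (q2 - q3) ^ 2 := by
    linear_combination q3 ^ 2 * h0 + 2 * q3 * hy
  have hC : W1 * p1 * q1 + W2 * p2 * q2 + W3 * p3 * q3 =
      W1 * (p1 - p3) * (q1 - q3) + W2 * (p2 - p3) * (q2 - q3) := by
    linear_combination p3 * q3 * h0 + q3 * hx + p3 * hy
  have hz : W1 * ((p1 - p3) * (q2 - q3) - (p2 - p3) * (q1 - q3)) = 0 := by
    linear_combination (q2 - q3) * hx - (p2 - p3) * hy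
  rw [hA, hB, hC]
  linear_combination W2 * ((p1 - p3) * (q2 - q3) - (p2 - p3) * (q1 - q3)) * hz

/-- a sum against an integer vector supported on three points -/
theorem h9_sum_three {ι : Type*} [Fintype ι] [DecidableEq ι] (v : ι → ℤ) (x1 x2 x3 : ι)
    (g1 g2 g3 : ℤ)
    (hv : ∀ x, v x = g1 * (if x = x1 then 1 else 0) + g2 * (if x = x2 then 1 else 0) +
      g3 * (if x = x3 then 1 else 0)) (F : ι → ℂ) :
    ∑ x, (v x : ℂ) * F x = (g1 : ℂ) * F x1 + (g2 : ℂ) * F x2 + (g3 : ℂ) * F x3 := by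
  have h1 : ∀ x, (v x : ℂ) * F x = (if x = x1 then (g1 : ℂ) * F x else 0) +
      (if x = x2 then (g2 : ℂ) * F x else 0) + (if x = x3 then (g3 : ℂ) * F x else 0) := by
    intro x
    rw [hv x]
    push_cast
    split_ifs <;> ring
  simp_rw [h1]
  rw [Finset.sum_add_distrib, Finset.sum_add_distrib, Finset.sum_ite_eq', Finset.sum_ite_eq',
    Finset.sum_ite_eq']
  simp

/-- The rank lemma for an integer vector supported on three points (in particular for a collapsed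
vector of shape `(±1, ±1, ±2)`). -/
theorem rank_lift {ι : Type*} [Fintype ι] [DecidableEq ι] (v : ι → ℤ) (x1 x2 x3 : ι)
    (g1 g2 g3 : ℤ)
    (hv : ∀ x, v x = g1 * (if x = x1 then 1 else 0) + g2 * (if x = x2 then 1 else 0) +
      g3 * (if x = x3 then 1 else 0)) (deg P Q : ι → ℂ)
    (h0 : ∑ x, (v x : ℂ) * deg x = 0) (hP : ∑ x, (v x : ℂ) * (deg x * P x) = 0)
    (hQ : ∑ x, (v x : ℂ) * (deg x * Q x) = 0) :
    (∑ x, (v x : ℂ) * (deg x * P x ^ 2)) * (∑ x, (v x : ℂ) * (deg x * Q x ^ 2)) =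
      (∑ x, (v x : ℂ) * (deg x * P x * Q x)) ^ 2 := by
  rw [h9_sum_three v x1 x2 x3 g1 g2 g3 hv] at h0 hP hQ ⊢
  rw [h9_sum_three v x1 x2 x3 g1 g2 g3 hv, h9_sum_three v x1 x2 x3 g1 g2 g3 hv]
  have := rank_core ((g1 : ℂ) * deg x1) ((g2 : ℂ) * deg x2) ((g3 : ℂ) * deg x3)
    (P x1) (P x2) (P x3) (Q x1) (Q x2) (Q x3) h0 (by linear_combination hP)
    (by linear_combination hQ)
  linear_combination this

/-! ### the six vectors of norm six -/

/-- `c - d` -/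
def h9_vcd (m : M72) : ℤ := fc m - fd m
/-- `a + b + d` -/
def h9_vabd (m : M72) : ℤ := fa m + fb m + fd m
/-- `a + b + c` -/
def h9_vabc (m : M72) : ℤ := fa m + fb m + fc m
/-- `a - b` -/
def h9_vab (m : M72) : ℤ := fa m - fb m
/-- `a + c + d` -/
def h9_vacd (m : M72) : ℤ := fa m + fc m + fd m
/-- `b + c + d` -/
def h9_vbcd (m : M72) : ℤ := fb m + fc m + fd m

theorem h9_vcd_van (m : M72) (h : sing m = false) : h9_vcd m = 0 := by
  unfold h9_vcd; rw [fc_van m h, fd_van m h]; rfl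
theorem h9_vabd_van (m : M72) (h : sing m = false) : h9_vabd m = 0 := by
  unfold h9_vabd; rw [fa_van m h, fb_van m h, fd_van m h]; rfl
theorem h9_vabc_van (m : M72) (h : sing m = false) : h9_vabc m = 0 := by
  unfold h9_vabc; rw [fa_van m h, fb_van m h, fc_van m h]; rfl
theorem h9_vab_van (m : M72) (h : sing m = false) : h9_vab m = 0 := by
  unfold h9_vab; rw [fa_van m h, fb_van m h]; rfl
theorem h9_vacd_van (m : M72) (h : sing m = false) : h9_vacd m = 0 := by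
  unfold h9_vacd; rw [fa_van m h, fc_van m h, fd_van m h]; rfl
theorem h9_vbcd_van (m : M72) (h : sing m = false) : h9_vbcd m = 0 := by
  unfold h9_vbcd; rw [fb_van m h, fc_van m h, fd_van m h]; rfl

/-! ### pattern `F1`: `P = finCl2 1 2`, `t = finCl 3` -/

theorem h9_F1_PP_cd : pairSum (finCl2 1 2) (finCl2 1 2) h9_vcd = 0 := by decide +kernel
theorem h9_F1_Pt_cd : pairSum (finCl2 1 2) (finCl 3) h9_vcd = 216 := by decide +kernel
theorem h9_F1_tt_cd : pairSum (finCl 3) (finCl 3) h9_vcd = 0 := by decide +kernel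
theorem h9_F1_PP_abd : pairSum (finCl2 1 2) (finCl2 1 2) h9_vabd = -324 := by decide +kernel
theorem h9_F1_Pt_abd : pairSum (finCl2 1 2) (finCl 3) h9_vabd = -108 := by decide +kernel
theorem h9_F1_tt_abd : pairSum (finCl 3) (finCl 3) h9_vabd = -108 := by decide +kernel
theorem h9_F1_PP_abc : pairSum (finCl2 1 2) (finCl2 1 2) h9_vabc = -324 := by decide +kernel
theorem h9_F1_Pt_abc : pairSum (finCl2 1 2) (finCl 3) h9_vabc = 108 := by decide +kernel
theorem h9_F1_tt_abc : pairSum (finCl 3) (finCl 3) h9_vabc = -108 := by decide +kernel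

theorem h9_minor_F1_cd : pairSum (finCl2 1 2) (finCl2 1 2) h9_vcd * pairSum (finCl 3) (finCl 3) h9_vcd
    ≠ pairSum (finCl2 1 2) (finCl 3) h9_vcd ^ 2 := by
  rw [h9_F1_PP_cd, h9_F1_Pt_cd, h9_F1_tt_cd]; norm_num
theorem h9_minor_F1_abd :
    pairSum (finCl2 1 2) (finCl2 1 2) h9_vabd * pairSum (finCl 3) (finCl 3) h9_vabd
    ≠ pairSum (finCl2 1 2) (finCl 3) h9_vabd ^ 2 := by
  rw [h9_F1_PP_abd, h9_F1_Pt_abd, h9_F1_tt_abd]; norm_num
theorem h9_minor_F1_abc :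
    pairSum (finCl2 1 2) (finCl2 1 2) h9_vabc * pairSum (finCl 3) (finCl 3) h9_vabc
    ≠ pairSum (finCl2 1 2) (finCl 3) h9_vabc ^ 2 := by
  rw [h9_F1_PP_abc, h9_F1_Pt_abc, h9_F1_tt_abc]; norm_num

/-! ### pattern `Ft`: `1 = finCl 1`, `P = finCl2 2 3` -/

theorem h9_Ft_11_ab : pairSum (finCl 1) (finCl 1) h9_vab = 0 := by decide +kernel
theorem h9_Ft_1P_ab : pairSum (finCl 1) (finCl2 2 3) h9_vab = -216 := by decide +kernel
theorem h9_Ft_PP_ab : pairSum (finCl2 2 3) (finCl2 2 3) h9_vab = 0 := by decide +kernel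
theorem h9_Ft_11_acd : pairSum (finCl 1) (finCl 1) h9_vacd = 108 := by decide +kernel
theorem h9_Ft_1P_acd : pairSum (finCl 1) (finCl2 2 3) h9_vacd = -108 := by decide +kernel
theorem h9_Ft_PP_acd : pairSum (finCl2 2 3) (finCl2 2 3) h9_vacd = 324 := by decide +kernel
theorem h9_Ft_11_bcd : pairSum (finCl 1) (finCl 1) h9_vbcd = 108 := by decide +kernel
theorem h9_Ft_1P_bcd : pairSum (finCl 1) (finCl2 2 3) h9_vbcd = 108 := by decide +kernel
theorem h9_Ft_PP_bcd : pairSum (finCl2 2 3) (finCl2 2 3) h9_vbcd = 324 := by decide +kernel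

theorem h9_minor_Ft_ab : pairSum (finCl 1) (finCl 1) h9_vab * pairSum (finCl2 2 3) (finCl2 2 3) h9_vab
    ≠ pairSum (finCl 1) (finCl2 2 3) h9_vab ^ 2 := by
  rw [h9_Ft_11_ab, h9_Ft_1P_ab, h9_Ft_PP_ab]; norm_num
theorem h9_minor_Ft_acd :
    pairSum (finCl 1) (finCl 1) h9_vacd * pairSum (finCl2 2 3) (finCl2 2 3) h9_vacd
    ≠ pairSum (finCl 1) (finCl2 2 3) h9_vacd ^ 2 := by
  rw [h9_Ft_11_acd, h9_Ft_1P_acd, h9_Ft_PP_acd]; norm_num
theorem h9_minor_Ft_bcd :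
    pairSum (finCl 1) (finCl 1) h9_vbcd * pairSum (finCl2 2 3) (finCl2 2 3) h9_vbcd
    ≠ pairSum (finCl 1) (finCl2 2 3) h9_vbcd ^ 2 := by
  rw [h9_Ft_11_bcd, h9_Ft_1P_bcd, h9_Ft_PP_bcd]; norm_num

/-! ### pattern `U`: the classes `finCl 2`, `finCl 3` -/

theorem h9_U_22_cd : pairSum (finCl 2) (finCl 2) h9_vcd = 0 := by decide +kernel
theorem h9_U_23_cd : pairSum (finCl 2) (finCl 3) h9_vcd = 216 := by decide +kernel
theorem h9_U_22_abd : pairSum (finCl 2) (finCl 2) h9_vabd = -324 := by decide +kernel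
theorem h9_U_23_abd : pairSum (finCl 2) (finCl 3) h9_vabd = -108 := by decide +kernel
theorem h9_U_22_abc : pairSum (finCl 2) (finCl 2) h9_vabc = -324 := by decide +kernel
theorem h9_U_23_abc : pairSum (finCl 2) (finCl 3) h9_vabc = 108 := by decide +kernel

theorem h9_minor_U_cd : pairSum (finCl 2) (finCl 2) h9_vcd * pairSum (finCl 3) (finCl 3) h9_vcd
    ≠ pairSum (finCl 2) (finCl 3) h9_vcd ^ 2 := by
  rw [h9_U_22_cd, h9_U_23_cd, h9_F1_tt_cd]; norm_num
theorem h9_minor_U_abd : pairSum (finCl 2) (finCl 2) h9_vabd * pairSum (finCl 3) (finCl 3) h9_vabd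
    ≠ pairSum (finCl 2) (finCl 3) h9_vabd ^ 2 := by
  rw [h9_U_22_abd, h9_U_23_abd, h9_F1_tt_abd]; norm_num
theorem h9_minor_U_abc : pairSum (finCl 2) (finCl 2) h9_vabc * pairSum (finCl 3) (finCl 3) h9_vabc
    ≠ pairSum (finCl 2) (finCl 3) h9_vabc ^ 2 := by
  rw [h9_U_22_abc, h9_U_23_abc, h9_F1_tt_abc]; norm_num

end Cfsg.Agent.Helper6.H72
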