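import Mathlib
import Cfsg.Agent.H72.H9_Rank

/-!
# H72 / P6-R, application layer: a vector supported on three characters contradicts a nonzero
minor of the pair sums

`ClassData c deg a b K nu nv suu suv svv` packages the six primal equations of an integer vector
`c : ι → ℤ` (`ι` = irreducible characters, `deg χ = χ 1`, `a χ = χ u`, `b χ = χ v`,
`K = |G| / 72`, `nu = |u^G|`, `nv = |v^G|`, `s** = pair sums`).  It is additive in `(c, s)`.
`rank_contra`: if moreover `c` is supported on three points then `suu * svv = suv ^ 2`.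
-/

set_option autoImplicit false
set_option linter.style.haveILetI false

namespace Cfsg.Agent.Helper6.H72

variable {ι : Type*} [Fintype ι]

/-- the six primal equations of an integer vector -/
structure ClassData (c : ι → ℤ) (deg a b : ι → ℂ) (K nu nv : ℂ) (suu suv svv : ℤ) : Prop where
  h0 : ∑ x, (c x : ℂ) * deg x = 0
  ha : ∑ x, (c x : ℂ) * a x = 0
  hb : ∑ x, (c x : ℂ) * b x = 0
  huu : nu * nu * ∑ x, (c x : ℂ) * (a x * a x / deg x) = K * (suu : ℂ)
  huv : nu * nv * ∑ x, (c x : ℂ) * (a x * b x / deg x) = K * (suv : ℂ)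
  hvv : nv * nv * ∑ x, (c x : ℂ) * (b x * b x / deg x) = K * (svv : ℂ)

namespace ClassData

variable {c c' : ι → ℤ} {deg a b : ι → ℂ} {K nu nv : ℂ} {suu suv svv suu' suv' svv' : ℤ}

theorem add (h : ClassData c deg a b K nu nv suu suv svv)
    (h' : ClassData c' deg a b K nu nv suu' suv' svv') :
    ClassData (fun x => c x + c' x) deg a b K nu nv (suu + suu') (suv + suv') (svv + svv') := by
  have e : ∀ F : ι → ℂ, ∑ x, ((c x + c' x : ℤ) : ℂ) * F x =
      ∑ x, (c x : ℂ) * F x + ∑ x, (c' x : ℂ) * F x := by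
    intro F
    rw [← Finset.sum_add_distrib]
    apply Finset.sum_congr rfl
    intro x _
    push_cast
    ring
  constructor
  · rw [e, h.h0, h'.h0, add_zero]
  · rw [e, h.ha, h'.ha, add_zero]
  · rw [e, h.hb, h'.hb, add_zero]
  · rw [e]; push_cast; linear_combination h.huu + h'.huu
  · rw [e]; push_cast; linear_combination h.huv + h'.huv
  · rw [e]; push_cast; linear_combination h.hvv + h'.hvv

theorem neg (h : ClassData c deg a b K nu nv suu suv svv) :
    ClassData (fun x => -c x) deg a b K nu nv (-suu) (-suv) (-svv) := by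
  have e : ∀ F : ι → ℂ, ∑ x, ((-c x : ℤ) : ℂ) * F x = -∑ x, (c x : ℂ) * F x := by
    intro F
    rw [← Finset.sum_neg_distrib]
    apply Finset.sum_congr rfl
    intro x _
    push_cast
    ring
  constructor
  · rw [e, h.h0, neg_zero]
  · rw [e, h.ha, neg_zero]
  · rw [e, h.hb, neg_zero]
  · rw [e]; push_cast; linear_combination -h.huu
  · rw [e]; push_cast; linear_combination -h.huv
  · rw [e]; push_cast; linear_combination -h.hvv

theorem sub (h : ClassData c deg a b K nu nv suu suv svv)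
    (h' : ClassData c' deg a b K nu nv suu' suv' svv') :
    ClassData (fun x => c x - c' x) deg a b K nu nv (suu - suu') (suv - suv') (svv - svv') := by
  have := h.add h'.neg
  simpa only [sub_eq_add_neg] using this

/-- a vector supported on three points has degenerate pair sums -/
theorem rank_contra [DecidableEq ι] (h : ClassData c deg a b K nu nv suu suv svv)
    (hdeg : ∀ x, deg x ≠ 0) (hK : K ≠ 0) (x1 x2 x3 : ι) (g1 g2 g3 : ℤ)
    (hc : ∀ x, c x = g1 * (if x = x1 then 1 else 0) + g2 * (if x = x2 then 1 else 0) +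
      g3 * (if x = x3 then 1 else 0)) : suu * svv = suv ^ 2 := by
  have hP : ∑ x, (c x : ℂ) * (deg x * (a x / deg x)) = 0 := by
    rw [← h.ha]
    apply Finset.sum_congr rfl
    intro x _
    rw [mul_div_cancel₀ _ (hdeg x)]
  have hQ : ∑ x, (c x : ℂ) * (deg x * (b x / deg x)) = 0 := by
    rw [← h.hb]
    apply Finset.sum_congr rfl
    intro x _
    rw [mul_div_cancel₀ _ (hdeg x)]
  have hr := rank_lift c x1 x2 x3 g1 g2 g3 hc deg (fun x => a x / deg x) (fun x => b x / deg x)
    h.h0 hP hQ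
  have e1 : ∑ x, (c x : ℂ) * (deg x * (a x / deg x) ^ 2) =
      ∑ x, (c x : ℂ) * (a x * a x / deg x) := by
    apply Finset.sum_congr rfl
    intro x _
    have := hdeg x
    field_simp
  have e2 : ∑ x, (c x : ℂ) * (deg x * (b x / deg x) ^ 2) =
      ∑ x, (c x : ℂ) * (b x * b x / deg x) := by
    apply Finset.sum_congr rfl
    intro x _
    have := hdeg x
    field_simp
  have e3 : ∑ x, (c x : ℂ) * (deg x * (a x / deg x) * (b x / deg x)) =
      ∑ x, (c x : ℂ) * (a x * b x / deg x) := by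
    apply Finset.sum_congr rfl
    intro x _
    have := hdeg x
    field_simp
  rw [e1, e2, e3] at hr
  have hfin : K * K * ((suu : ℂ) * (svv : ℂ)) = K * K * ((suv : ℂ) ^ 2) := by
    have h1 := h.huu
    have h2 := h.huv
    have h3 := h.hvv
    calc K * K * ((suu : ℂ) * (svv : ℂ)) = (K * (suu : ℂ)) * (K * (svv : ℂ)) := by ring
      _ = (nu * nu * ∑ x, (c x : ℂ) * (a x * a x / deg x)) *
          (nv * nv * ∑ x, (c x : ℂ) * (b x * b x / deg x)) := by rw [h1, h3]
      _ = (nu * nv) ^ 2 * ((∑ x, (c x : ℂ) * (a x * a x / deg x)) *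
          (∑ x, (c x : ℂ) * (b x * b x / deg x))) := by ring
      _ = (nu * nv) ^ 2 * (∑ x, (c x : ℂ) * (a x * b x / deg x)) ^ 2 := by rw [hr]
      _ = (nu * nv * ∑ x, (c x : ℂ) * (a x * b x / deg x)) ^ 2 := by ring
      _ = (K * (suv : ℂ)) ^ 2 := by rw [h2]
      _ = K * K * ((suv : ℂ) ^ 2) := by ring
  have hKK : K * K ≠ 0 := mul_ne_zero hK hK
  have h4 := mul_left_cancel₀ hKK hfin
  exact_mod_cast h4

end ClassData

end Cfsg.Agent.Helper6.H72

namespace Cfsg.Agent.Helper6.H72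

variable {ι : Type*} [Fintype ι] [DecidableEq ι]

/-- `c` is supported on (at most) three points -/
def Supp3 (c : ι → ℤ) : Prop :=
  ∃ (x1 x2 x3 : ι) (g1 g2 g3 : ℤ), ∀ x, c x = g1 * (if x = x1 then 1 else 0) +
    g2 * (if x = x2 then 1 else 0) + g3 * (if x = x3 then 1 else 0)

variable {deg a b : ι → ℂ} {K nu nv : ℂ}

theorem ClassData.not_supp3 {c : ι → ℤ} {suu suv svv : ℤ}
    (h : ClassData c deg a b K nu nv suu suv svv) (hdeg : ∀ x, deg x ≠ 0) (hK : K ≠ 0)
    (hminor : suu * svv ≠ suv ^ 2) : ¬ Supp3 c := by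
  rintro ⟨x1, x2, x3, g1, g2, g3, hc⟩
  exact hminor (h.rank_contra hdeg hK x1 x2 x3 g1 g2 g3 hc)

variable {cA cB cC cD : ι → ℤ}

/-- pattern `F1` (`u` with class `finCl2 1 2`, `v` with class `finCl 3`): none of `c - d`,
`a + b + d`, `a + b + c` is supported on three characters. -/
theorem not_supp3_F1
    (hA : ClassData cA deg a b K nu nv (pairSum (finCl2 1 2) (finCl2 1 2) fa)
      (pairSum (finCl2 1 2) (finCl 3) fa) (pairSum (finCl 3) (finCl 3) fa))
    (hB : ClassData cB deg a b K nu nv (pairSum (finCl2 1 2) (finCl2 1 2) fb)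
      (pairSum (finCl2 1 2) (finCl 3) fb) (pairSum (finCl 3) (finCl 3) fb))
    (hC : ClassData cC deg a b K nu nv (pairSum (finCl2 1 2) (finCl2 1 2) fc)
      (pairSum (finCl2 1 2) (finCl 3) fc) (pairSum (finCl 3) (finCl 3) fc))
    (hD : ClassData cD deg a b K nu nv (pairSum (finCl2 1 2) (finCl2 1 2) fd)
      (pairSum (finCl2 1 2) (finCl 3) fd) (pairSum (finCl 3) (finCl 3) fd))
    (hdeg : ∀ x, deg x ≠ 0) (hK : K ≠ 0) :
    ¬ Supp3 (fun x => cC x - cD x) ∧ ¬ Supp3 (fun x => cA x + cB x + cD x) ∧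
      ¬ Supp3 (fun x => cA x + cB x + cC x) := by
  rw [psF1_PP_a, psF1_Pt_a, ps_33_a] at hA
  rw [psF1_PP_b, psF1_Pt_b, ps_33_b] at hB
  rw [psF1_PP_c, psF1_Pt_c, ps_33_c] at hC
  rw [psF1_PP_d, psF1_Pt_d, ps_33_d] at hD
  refine ⟨(hC.sub hD).not_supp3 hdeg hK (by norm_num),
    ((hA.add hB).add hD).not_supp3 hdeg hK (by norm_num),
    ((hA.add hB).add hC).not_supp3 hdeg hK (by norm_num)⟩

/-- pattern `Ft` (`u` with class `finCl 1`, `v` with class `finCl2 2 3`): none of `a - b`,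
`a + c + d`, `b + c + d` is supported on three characters. -/
theorem not_supp3_Ft
    (hA : ClassData cA deg a b K nu nv (pairSum (finCl 1) (finCl 1) fa)
      (pairSum (finCl 1) (finCl2 2 3) fa) (pairSum (finCl2 2 3) (finCl2 2 3) fa))
    (hB : ClassData cB deg a b K nu nv (pairSum (finCl 1) (finCl 1) fb)
      (pairSum (finCl 1) (finCl2 2 3) fb) (pairSum (finCl2 2 3) (finCl2 2 3) fb))
    (hC : ClassData cC deg a b K nu nv (pairSum (finCl 1) (finCl 1) fc)
      (pairSum (finCl 1) (finCl2 2 3) fc) (pairSum (finCl2 2 3) (finCl2 2 3) fc))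
    (hD : ClassData cD deg a b K nu nv (pairSum (finCl 1) (finCl 1) fd)
      (pairSum (finCl 1) (finCl2 2 3) fd) (pairSum (finCl2 2 3) (finCl2 2 3) fd))
    (hdeg : ∀ x, deg x ≠ 0) (hK : K ≠ 0) :
    ¬ Supp3 (fun x => cA x - cB x) ∧ ¬ Supp3 (fun x => cA x + cC x + cD x) ∧
      ¬ Supp3 (fun x => cB x + cC x + cD x) := by
  rw [ps_11_a, psFt_1P_a, psFt_PP_a] at hA
  rw [ps_11_b, psFt_1P_b, psFt_PP_b] at hB
  rw [ps_11_c, psFt_1P_c, psFt_PP_c] at hC
  rw [ps_11_d, psFt_1P_d, psFt_PP_d] at hD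
  refine ⟨(hA.sub hB).not_supp3 hdeg hK (by norm_num),
    ((hA.add hC).add hD).not_supp3 hdeg hK (by norm_num),
    ((hB.add hC).add hD).not_supp3 hdeg hK (by norm_num)⟩

/-- pattern `U`, classes `finCl 2` and `finCl 3`: none of `c - d`, `a + b + d`, `a + b + c` is
supported on three characters. -/
theorem not_supp3_U
    (hA : ClassData cA deg a b K nu nv (pairSum (finCl 2) (finCl 2) fa)
      (pairSum (finCl 2) (finCl 3) fa) (pairSum (finCl 3) (finCl 3) fa))
    (hB : ClassData cB deg a b K nu nv (pairSum (finCl 2) (finCl 2) fb)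
      (pairSum (finCl 2) (finCl 3) fb) (pairSum (finCl 3) (finCl 3) fb))
    (hC : ClassData cC deg a b K nu nv (pairSum (finCl 2) (finCl 2) fc)
      (pairSum (finCl 2) (finCl 3) fc) (pairSum (finCl 3) (finCl 3) fc))
    (hD : ClassData cD deg a b K nu nv (pairSum (finCl 2) (finCl 2) fd)
      (pairSum (finCl 2) (finCl 3) fd) (pairSum (finCl 3) (finCl 3) fd))
    (hdeg : ∀ x, deg x ≠ 0) (hK : K ≠ 0) :
    ¬ Supp3 (fun x => cC x - cD x) ∧ ¬ Supp3 (fun x => cA x + cB x + cD x) ∧
      ¬ Supp3 (fun x => cA x + cB x + cC x) := by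
  rw [ps_22_a, ps_23_a, ps_33_a] at hA
  rw [ps_22_b, ps_23_b, ps_33_b] at hB
  rw [ps_22_c, ps_23_c, ps_33_c] at hC
  rw [ps_22_d, ps_23_d, ps_33_d] at hD
  refine ⟨(hC.sub hD).not_supp3 hdeg hK (by norm_num),
    ((hA.add hB).add hD).not_supp3 hdeg hK (by norm_num),
    ((hA.add hB).add hC).not_supp3 hdeg hK (by norm_num)⟩

end Cfsg.Agent.Helper6.H72
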