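import Mathlib
import Cfsg.Agent.Helper6.SEmbA
import Cfsg.Agent.Helper6.Expansion
import Cfsg.Agent.H72.H1_Fus72
import Cfsg.Agent.H72.H9_RankApp

/-!
# H72 / P7d: the primal equations `ClassData` from the setup

* `classData_of_setup`: for `S : GSetup G M72 sing`, an integer class function `f` on the model
  vanishing off the 3-singular elements, integers `c χ = ⟨Θ f, χ⟩` and two involutions `u v` of `G`
  whose classes meet the model in `U`, `V`: the six primal equations.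
* `classData_F1`, `classData_Ft`: the patterns `F1`, `Ft`.
* `classData_U`: in the unfused pattern the classes of `u1`, `u2` are merged with weights, giving
  data of the shape `F1`.
-/

set_option autoImplicit false
set_option linter.style.haveILetI false

namespace Cfsg.Agent.Helper6.H72

open Cfsg.Agent.Helper6

universe u

variable {G : Type u} [Group G] [Fintype G] [Fintype (Cfsg.IrrCharacter G)]

theorem h9_expansion_apply (ψ : G → ℂ) (hψ : Cfsg.IsClassFunction G ψ)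
    (c : Cfsg.IrrCharacter G → ℤ) (hc : ∀ χ : Cfsg.IrrCharacter G,
      Cfsg.classInner ψ (χ : G → ℂ) = (c χ : ℂ)) (g : G) :
    ∑ χ : Cfsg.IrrCharacter G, (c χ : ℂ) * (χ : G → ℂ) g = ψ g := by
  have h := congrFun (classFunction_expansion ψ hψ) g
  rw [Finset.sum_apply] at h
  rw [h]
  apply Finset.sum_congr rfl
  intro χ _
  rw [Pi.smul_apply, smul_eq_mul, hc]

theorem h9_card_M72 : (Fintype.card M72 : ℂ) = 72 := by
  have := card_M72
  rw [Nat.card_eq_fintype_card] at this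
  rw [this]
  norm_num

/-- The six primal equations from the setup. -/
theorem classData_of_setup (S : GSetup G M72 sing) (f : M72 → ℤ)
    (hf : ∀ m, sing m = false → f m = 0) (c : Cfsg.IrrCharacter G → ℤ)
    (hc : ∀ χ : Cfsg.IrrCharacter G, Cfsg.classInner (S.Theta f) (χ : G → ℂ) = (c χ : ℂ))
    (u v : G) (hu : u * u = 1) (hv : v * v = 1) (U V : Finset M72)
    (hU : ∀ m, m ∈ U ↔ IsConj u (S.ι m)) (hV : ∀ m, m ∈ V ↔ IsConj v (S.ι m)) :
    ClassData c (fun χ => (χ : G → ℂ) 1) (fun χ => (χ : G → ℂ) u) (fun χ => (χ : G → ℂ) v)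
      ((Nat.card G : ℂ) / 72) ((classFinset u).card : ℂ) ((classFinset v).card : ℂ)
      (pairSum U U f) (pairSum U V f) (pairSum V V f) := by
  have hcf := S.Theta_isClassFunction f
  have hrel : ∀ (x y : G) (hx : x * x = 1) (hy : y * y = 1) (X Y : Finset M72)
      (hX : ∀ m, m ∈ X ↔ IsConj x (S.ι m)) (hY : ∀ m, m ∈ Y ↔ IsConj y (S.ι m)),
      ((classFinset x).card : ℂ) * ((classFinset y).card : ℂ) *
        ∑ χ : Cfsg.IrrCharacter G, (c χ : ℂ) *
          ((χ : G → ℂ) x * (χ : G → ℂ) y / (χ : G → ℂ) 1) =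
      (Nat.card G : ℂ) / 72 * ((pairSum X Y f : ℤ) : ℂ) := by
    intro x y hx hy X Y hX hY
    have h1 := SEmb.sum_class_mul_eq (S.Theta f) x y
    rw [S.sum_class_Theta sing_inv f hf x y hx hy X Y hX hY, h9_card_M72] at h1
    have h2 : ((pairSum X Y f : ℤ) : ℂ) = ((∑ m₁ ∈ X, ∑ m₂ ∈ Y, f (m₁ * m₂) : ℤ) : ℂ) := rfl
    rw [h2, h1]
    congr 1
    apply Finset.sum_congr rfl
    intro χ _
    rw [hc]
  constructor
  · rw [h9_expansion_apply (S.Theta f) hcf c hc 1]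
    exact S.Theta_eq_zero_of_sq sing_sq_ne f hf 1 (one_mul 1)
  · rw [h9_expansion_apply (S.Theta f) hcf c hc u]
    exact S.Theta_eq_zero_of_sq sing_sq_ne f hf u hu
  · rw [h9_expansion_apply (S.Theta f) hcf c hc v]
    exact S.Theta_eq_zero_of_sq sing_sq_ne f hf v hv
  · exact hrel u u hu hu U U hU hU
  · exact hrel u v hu hv U V hU hV
  · exact hrel v v hv hv V V hV hV

theorem h9_u1_sq : u1 * u1 = 1 := by decide +kernel
theorem h9_u2_sq : u2 * u2 = 1 := by decide +kernel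
theorem h9_u3_sq : u3 * u3 = 1 := by decide +kernel

variable (S : GSetupT G M72 sing rr72 3)

omit [Fintype G] [Fintype (Cfsg.IrrCharacter G)] in
theorem h9_ι_sq (m : M72) (h : m * m = 1) : S.ι m * S.ι m = 1 := by
  rw [← map_mul, h, map_one]

/-- pattern `F1` -/
theorem classData_F1 (hpat : PatF1 S) (f : M72 → ℤ) (hf : ∀ m, sing m = false → f m = 0)
    (c : Cfsg.IrrCharacter G → ℤ)
    (hc : ∀ χ : Cfsg.IrrCharacter G, Cfsg.classInner (S.Theta f) (χ : G → ℂ) = (c χ : ℂ)) :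
    ClassData c (fun χ => (χ : G → ℂ) 1) (fun χ => (χ : G → ℂ) (S.ι u1))
      (fun χ => (χ : G → ℂ) (S.ι u3)) ((Nat.card G : ℂ) / 72)
      ((classFinset (S.ι u1)).card : ℂ) ((classFinset (S.ι u3)).card : ℂ)
      (pairSum (finCl2 1 2) (finCl2 1 2) f) (pairSum (finCl2 1 2) (finCl 3) f)
      (pairSum (finCl 3) (finCl 3) f) :=
  classData_of_setup S.toGSetup f hf c hc (S.ι u1) (S.ι u3) (h9_ι_sq S u1 h9_u1_sq)
    (h9_ι_sq S u3 h9_u3_sq) (finCl2 1 2) (finCl 3) hpat.1 hpat.2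

/-- pattern `Ft` -/
theorem classData_Ft (hpat : PatFt S) (f : M72 → ℤ) (hf : ∀ m, sing m = false → f m = 0)
    (c : Cfsg.IrrCharacter G → ℤ)
    (hc : ∀ χ : Cfsg.IrrCharacter G, Cfsg.classInner (S.Theta f) (χ : G → ℂ) = (c χ : ℂ)) :
    ClassData c (fun χ => (χ : G → ℂ) 1) (fun χ => (χ : G → ℂ) (S.ι u1))
      (fun χ => (χ : G → ℂ) (S.ι u3)) ((Nat.card G : ℂ) / 72)
      ((classFinset (S.ι u1)).card : ℂ) ((classFinset (S.ι u3)).card : ℂ)
      (pairSum (finCl 1) (finCl 1) f) (pairSum (finCl 1) (finCl2 2 3) f)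
      (pairSum (finCl2 2 3) (finCl2 2 3) f) :=
  classData_of_setup S.toGSetup f hf c hc (S.ι u1) (S.ι u3) (h9_ι_sq S u1 h9_u1_sq)
    (h9_ι_sq S u3 h9_u3_sq) (finCl 1) (finCl2 2 3) hpat.1 hpat.2

omit [Fintype (Cfsg.IrrCharacter G)] in
theorem h9_card_class_ne (g : G) : ((classFinset g).card : ℂ) ≠ 0 := by
  have : 0 < (classFinset g).card := Finset.card_pos.mpr ⟨g, by rw [mem_classFinset]⟩
  exact_mod_cast this.ne'

omit [Fintype (Cfsg.IrrCharacter G)] in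
theorem h9_card_class_add_ne (g h : G) :
    ((classFinset g).card : ℂ) + ((classFinset h).card : ℂ) ≠ 0 := by
  have h1 : 0 < (classFinset g).card := Finset.card_pos.mpr ⟨g, by rw [mem_classFinset]⟩
  have h2 : 0 < (classFinset g).card + (classFinset h).card := by omega
  exact_mod_cast h2.ne'

/-- the unfused pattern, merged into the shape `F1` -/
theorem classData_U (hpat : PatU S) (f : M72 → ℤ) (hf : ∀ m, sing m = false → f m = 0)
    (hPP : pairSum (finCl2 1 2) (finCl2 1 2) f = pairSum (finCl 1) (finCl 1) f +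
      2 * pairSum (finCl 1) (finCl 2) f + pairSum (finCl 2) (finCl 2) f)
    (hPt : pairSum (finCl2 1 2) (finCl 3) f = pairSum (finCl 1) (finCl 3) f +
      pairSum (finCl 2) (finCl 3) f)
    (c : Cfsg.IrrCharacter G → ℤ)
    (hc : ∀ χ : Cfsg.IrrCharacter G, Cfsg.classInner (S.Theta f) (χ : G → ℂ) = (c χ : ℂ)) :
    ClassData c (fun χ => (χ : G → ℂ) 1)
      (fun χ => (((classFinset (S.ι u1)).card : ℂ) * (χ : G → ℂ) (S.ι u1) +
        ((classFinset (S.ι u2)).card : ℂ) * (χ : G → ℂ) (S.ι u2)) /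
        (((classFinset (S.ι u1)).card : ℂ) + ((classFinset (S.ι u2)).card : ℂ)))
      (fun χ => (χ : G → ℂ) (S.ι u3)) ((Nat.card G : ℂ) / 72)
      (((classFinset (S.ι u1)).card : ℂ) + ((classFinset (S.ι u2)).card : ℂ))
      ((classFinset (S.ι u3)).card : ℂ)
      (pairSum (finCl2 1 2) (finCl2 1 2) f) (pairSum (finCl2 1 2) (finCl 3) f)
      (pairSum (finCl 3) (finCl 3) f) := by
  obtain ⟨hU1, hU2, hU3⟩ := hpat
  have hs1 := h9_ι_sq S u1 h9_u1_sq
  have hs2 := h9_ι_sq S u2 h9_u2_sq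
  have hs3 := h9_ι_sq S u3 h9_u3_sq
  have d12 := classData_of_setup S.toGSetup f hf c hc (S.ι u1) (S.ι u2) hs1 hs2 (finCl 1)
    (finCl 2) hU1 hU2
  have d13 := classData_of_setup S.toGSetup f hf c hc (S.ι u1) (S.ι u3) hs1 hs3 (finCl 1)
    (finCl 3) hU1 hU3
  have d23 := classData_of_setup S.toGSetup f hf c hc (S.ι u2) (S.ι u3) hs2 hs3 (finCl 2)
    (finCl 3) hU2 hU3
  set n1 : ℂ := ((classFinset (S.ι u1)).card : ℂ) with hn1
  set n2 : ℂ := ((classFinset (S.ι u2)).card : ℂ) with hn2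
  set n3 : ℂ := ((classFinset (S.ι u3)).card : ℂ) with hn3
  have hn : n1 + n2 ≠ 0 := h9_card_class_add_ne (S.ι u1) (S.ι u2)
  constructor
  · exact d12.h0
  · have e : ∀ χ : Cfsg.IrrCharacter G, (c χ : ℂ) * ((n1 * (χ : G → ℂ) (S.ι u1) +
        n2 * (χ : G → ℂ) (S.ι u2)) / (n1 + n2)) =
        n1 / (n1 + n2) * ((c χ : ℂ) * (χ : G → ℂ) (S.ι u1)) +
        n2 / (n1 + n2) * ((c χ : ℂ) * (χ : G → ℂ) (S.ι u2)) := by
      intro χ; field_simp
    simp_rw [e]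
    rw [Finset.sum_add_distrib, ← Finset.mul_sum, ← Finset.mul_sum, d12.ha, d12.hb]
    ring
  · exact d13.hb
  · have e : ∀ χ : Cfsg.IrrCharacter G, (n1 + n2) * (n1 + n2) * ((c χ : ℂ) *
        ((n1 * (χ : G → ℂ) (S.ι u1) + n2 * (χ : G → ℂ) (S.ι u2)) / (n1 + n2) *
          ((n1 * (χ : G → ℂ) (S.ι u1) + n2 * (χ : G → ℂ) (S.ι u2)) / (n1 + n2)) /
          (χ : G → ℂ) 1)) =
        n1 * n1 * ((c χ : ℂ) * ((χ : G → ℂ) (S.ι u1) * (χ : G → ℂ) (S.ι u1) / (χ : G → ℂ) 1)) +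
        2 * (n1 * n2 * ((c χ : ℂ) *
          ((χ : G → ℂ) (S.ι u1) * (χ : G → ℂ) (S.ι u2) / (χ : G → ℂ) 1))) +
        n2 * n2 * ((c χ : ℂ) * ((χ : G → ℂ) (S.ι u2) * (χ : G → ℂ) (S.ι u2) / (χ : G → ℂ) 1)) := by
      intro χ
      rw [div_mul_div_comm, div_div, div_eq_mul_inv, div_eq_mul_inv, div_eq_mul_inv,
        div_eq_mul_inv, mul_inv, mul_inv]
      field_simp
      ring
    rw [Finset.mul_sum]
    simp_rw [e]
    rw [Finset.sum_add_distrib, Finset.sum_add_distrib, ← Finset.mul_sum, ← Finset.mul_sum,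
      ← Finset.mul_sum, ← Finset.mul_sum, d12.huu, d12.huv, d12.hvv, hPP]
    push_cast
    ring
  · have e : ∀ χ : Cfsg.IrrCharacter G, (n1 + n2) * n3 * ((c χ : ℂ) *
        ((n1 * (χ : G → ℂ) (S.ι u1) + n2 * (χ : G → ℂ) (S.ι u2)) / (n1 + n2) *
          (χ : G → ℂ) (S.ι u3) / (χ : G → ℂ) 1)) =
        n1 * n3 * ((c χ : ℂ) * ((χ : G → ℂ) (S.ι u1) * (χ : G → ℂ) (S.ι u3) / (χ : G → ℂ) 1)) +
        n2 * n3 * ((c χ : ℂ) * ((χ : G → ℂ) (S.ι u2) * (χ : G → ℂ) (S.ι u3) / (χ : G → ℂ) 1)) := by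
      intro χ
      rw [div_eq_mul_inv, div_eq_mul_inv, div_eq_mul_inv, div_eq_mul_inv]
      field_simp
    rw [Finset.mul_sum]
    simp_rw [e]
    rw [Finset.sum_add_distrib, ← Finset.mul_sum, ← Finset.mul_sum, d13.huv, d23.huv, hPt]
    push_cast
    ring
  · exact d13.hvv

end Cfsg.Agent.Helper6.H72

namespace Cfsg.Agent.Helper6.H72

open Cfsg.Agent.Helper6

universe u

variable {G : Type u} [Group G] [Fintype G] [Fintype (Cfsg.IrrCharacter G)]
  (S : GSetupT G M72 sing rr72 3)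
  (cA cB cC cD : Cfsg.IrrCharacter G → ℤ)

/-- The four primal data sets in the pattern `F1`, with common parameters. -/
theorem classData_pack_F1 (hpat : PatF1 S)
    (hA : ∀ χ : Cfsg.IrrCharacter G, Cfsg.classInner (S.Theta fa) (χ : G → ℂ) = (cA χ : ℂ))
    (hB : ∀ χ : Cfsg.IrrCharacter G, Cfsg.classInner (S.Theta fb) (χ : G → ℂ) = (cB χ : ℂ))
    (hC : ∀ χ : Cfsg.IrrCharacter G, Cfsg.classInner (S.Theta fc) (χ : G → ℂ) = (cC χ : ℂ))
    (hD : ∀ χ : Cfsg.IrrCharacter G, Cfsg.classInner (S.Theta fd) (χ : G → ℂ) = (cD χ : ℂ)) :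
    ∃ (a b : Cfsg.IrrCharacter G → ℂ) (K nu nv : ℂ), K ≠ 0 ∧
      (∀ χ : Cfsg.IrrCharacter G, (χ : G → ℂ) = (fun _ => (1 : ℂ)) → a χ = 1 ∧ b χ = 1) ∧
      ClassData cA (fun χ => (χ : G → ℂ) 1) a b K nu nv (pairSum (finCl2 1 2) (finCl2 1 2) fa)
        (pairSum (finCl2 1 2) (finCl 3) fa) (pairSum (finCl 3) (finCl 3) fa) ∧
      ClassData cB (fun χ => (χ : G → ℂ) 1) a b K nu nv (pairSum (finCl2 1 2) (finCl2 1 2) fb)
        (pairSum (finCl2 1 2) (finCl 3) fb) (pairSum (finCl 3) (finCl 3) fb) ∧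
      ClassData cC (fun χ => (χ : G → ℂ) 1) a b K nu nv (pairSum (finCl2 1 2) (finCl2 1 2) fc)
        (pairSum (finCl2 1 2) (finCl 3) fc) (pairSum (finCl 3) (finCl 3) fc) ∧
      ClassData cD (fun χ => (χ : G → ℂ) 1) a b K nu nv (pairSum (finCl2 1 2) (finCl2 1 2) fd)
        (pairSum (finCl2 1 2) (finCl 3) fd) (pairSum (finCl 3) (finCl 3) fd) := by
  have hK : (Nat.card G : ℂ) / 72 ≠ 0 := by
    have : 0 < Nat.card G := Nat.card_pos
    have h1 : (Nat.card G : ℂ) ≠ 0 := by exact_mod_cast this.ne'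
    exact div_ne_zero h1 (by norm_num)
  refine ⟨_, _, _, _, _, hK, ?_, classData_F1 S hpat fa fa_van cA hA,
    classData_F1 S hpat fb fb_van cB hB, classData_F1 S hpat fc fc_van cC hC,
    classData_F1 S hpat fd fd_van cD hD⟩
  intro χ hχ
  simp only [hχ, and_self]

/-- The four primal data sets in the pattern `Ft`, with common parameters. -/
theorem classData_pack_Ft (hpat : PatFt S)
    (hA : ∀ χ : Cfsg.IrrCharacter G, Cfsg.classInner (S.Theta fa) (χ : G → ℂ) = (cA χ : ℂ))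
    (hB : ∀ χ : Cfsg.IrrCharacter G, Cfsg.classInner (S.Theta fb) (χ : G → ℂ) = (cB χ : ℂ))
    (hC : ∀ χ : Cfsg.IrrCharacter G, Cfsg.classInner (S.Theta fc) (χ : G → ℂ) = (cC χ : ℂ))
    (hD : ∀ χ : Cfsg.IrrCharacter G, Cfsg.classInner (S.Theta fd) (χ : G → ℂ) = (cD χ : ℂ)) :
    ∃ (a b : Cfsg.IrrCharacter G → ℂ) (K nu nv : ℂ), K ≠ 0 ∧
      (∀ χ : Cfsg.IrrCharacter G, (χ : G → ℂ) = (fun _ => (1 : ℂ)) → a χ = 1 ∧ b χ = 1) ∧
      ClassData cA (fun χ => (χ : G → ℂ) 1) a b K nu nv (pairSum (finCl 1) (finCl 1) fa)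
        (pairSum (finCl 1) (finCl2 2 3) fa) (pairSum (finCl2 2 3) (finCl2 2 3) fa) ∧
      ClassData cB (fun χ => (χ : G → ℂ) 1) a b K nu nv (pairSum (finCl 1) (finCl 1) fb)
        (pairSum (finCl 1) (finCl2 2 3) fb) (pairSum (finCl2 2 3) (finCl2 2 3) fb) ∧
      ClassData cC (fun χ => (χ : G → ℂ) 1) a b K nu nv (pairSum (finCl 1) (finCl 1) fc)
        (pairSum (finCl 1) (finCl2 2 3) fc) (pairSum (finCl2 2 3) (finCl2 2 3) fc) ∧
      ClassData cD (fun χ => (χ : G → ℂ) 1) a b K nu nv (pairSum (finCl 1) (finCl 1) fd)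
        (pairSum (finCl 1) (finCl2 2 3) fd) (pairSum (finCl2 2 3) (finCl2 2 3) fd) := by
  have hK : (Nat.card G : ℂ) / 72 ≠ 0 := by
    have : 0 < Nat.card G := Nat.card_pos
    have h1 : (Nat.card G : ℂ) ≠ 0 := by exact_mod_cast this.ne'
    exact div_ne_zero h1 (by norm_num)
  refine ⟨_, _, _, _, _, hK, ?_, classData_Ft S hpat fa fa_van cA hA,
    classData_Ft S hpat fb fb_van cB hB, classData_Ft S hpat fc fc_van cC hC,
    classData_Ft S hpat fd fd_van cD hD⟩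
  intro χ hχ
  simp only [hχ, and_self]

/-- The four primal data sets in the unfused pattern, merged into the shape `F1`. -/
theorem classData_pack_U (hpat : PatU S)
    (hA : ∀ χ : Cfsg.IrrCharacter G, Cfsg.classInner (S.Theta fa) (χ : G → ℂ) = (cA χ : ℂ))
    (hB : ∀ χ : Cfsg.IrrCharacter G, Cfsg.classInner (S.Theta fb) (χ : G → ℂ) = (cB χ : ℂ))
    (hC : ∀ χ : Cfsg.IrrCharacter G, Cfsg.classInner (S.Theta fc) (χ : G → ℂ) = (cC χ : ℂ))
    (hD : ∀ χ : Cfsg.IrrCharacter G, Cfsg.classInner (S.Theta fd) (χ : G → ℂ) = (cD χ : ℂ)) :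
    ∃ (a b : Cfsg.IrrCharacter G → ℂ) (K nu nv : ℂ), K ≠ 0 ∧
      (∀ χ : Cfsg.IrrCharacter G, (χ : G → ℂ) = (fun _ => (1 : ℂ)) → a χ = 1 ∧ b χ = 1) ∧
      ClassData cA (fun χ => (χ : G → ℂ) 1) a b K nu nv (pairSum (finCl2 1 2) (finCl2 1 2) fa)
        (pairSum (finCl2 1 2) (finCl 3) fa) (pairSum (finCl 3) (finCl 3) fa) ∧
      ClassData cB (fun χ => (χ : G → ℂ) 1) a b K nu nv (pairSum (finCl2 1 2) (finCl2 1 2) fb)
        (pairSum (finCl2 1 2) (finCl 3) fb) (pairSum (finCl 3) (finCl 3) fb) ∧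
      ClassData cC (fun χ => (χ : G → ℂ) 1) a b K nu nv (pairSum (finCl2 1 2) (finCl2 1 2) fc)
        (pairSum (finCl2 1 2) (finCl 3) fc) (pairSum (finCl 3) (finCl 3) fc) ∧
      ClassData cD (fun χ => (χ : G → ℂ) 1) a b K nu nv (pairSum (finCl2 1 2) (finCl2 1 2) fd)
        (pairSum (finCl2 1 2) (finCl 3) fd) (pairSum (finCl 3) (finCl 3) fd) := by
  have hK : (Nat.card G : ℂ) / 72 ≠ 0 := by
    have : 0 < Nat.card G := Nat.card_pos
    have h1 : (Nat.card G : ℂ) ≠ 0 := by exact_mod_cast this.ne'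
    exact div_ne_zero h1 (by norm_num)
  refine ⟨_, _, _, _, _, hK, ?_,
    classData_U S hpat fa fa_van (by rw [psF1_PP_a, ps_11_a, ps_12_a, ps_22_a]; norm_num)
      (by rw [psF1_Pt_a, ps_13_a, ps_23_a]; norm_num) cA hA,
    classData_U S hpat fb fb_van (by rw [psF1_PP_b, ps_11_b, ps_12_b, ps_22_b]; norm_num)
      (by rw [psF1_Pt_b, ps_13_b, ps_23_b]; norm_num) cB hB,
    classData_U S hpat fc fc_van (by rw [psF1_PP_c, ps_11_c, ps_12_c, ps_22_c]; norm_num)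
      (by rw [psF1_Pt_c, ps_13_c, ps_23_c]; norm_num) cC hC,
    classData_U S hpat fd fd_van (by rw [psF1_PP_d, ps_11_d, ps_12_d, ps_22_d]; norm_num)
      (by rw [psF1_Pt_d, ps_13_d, ps_23_d]; norm_num) cD hD⟩
  intro χ hχ
  have hn := h9_card_class_add_ne (S.ι u1) (S.ι u2)
  simp only [hχ, mul_one, and_true]
  exact div_self hn

end Cfsg.Agent.Helper6.H72
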