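import Mathlib
import Cfsg.Agent.H72.H3_P4
import Cfsg.Agent.H72.H9_RankApp

/-!
# H72: the collapsed alternatives of `embedding_cases` contradict the primal equations

With the four `ClassData` of shape `F1` (patterns `F1` and `U`) or `Ft`, the non-coherent branch
of helper3's `embedding_cases` is impossible, so the embedding is coherent.
-/

set_option autoImplicit false
set_option linter.style.haveILetI false

namespace Cfsg.Agent.Helper6.H72

variable {ι : Type*} [Fintype ι] [DecidableEq ι]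

omit [Fintype ι] in
theorem Coll.supp3 {v : ι → ℤ} (h : Coll v) : Supp3 v := by
  obtain ⟨x1, x2, x3, -, -, -, s1, s2, s3, -, -, -, hv⟩ := h
  exact ⟨x1, x2, x3, s1, s2, 2 * s3, hv⟩

variable {deg a b : ι → ℂ} {K nu nv : ℂ} {cA cB cC cD : ι → ℤ}

/-- patterns `F1` and (merged) `U` -/
theorem coll_false_F1
    (hA : ClassData cA deg a b K nu nv (pairSum (finCl2 1 2) (finCl2 1 2) fa)
      (pairSum (finCl2 1 2) (finCl 3) fa) (pairSum (finCl 3) (finCl 3) fa))
    (hB : ClassData cB deg a b K nu nv (pairSum (finCl2 1 2) (finCl2 1 2) fb)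
      (pairSum (finCl2 1 2) (finCl 3) fb) (pairSum (finCl 3) (finCl 3) fb))
    (hC : ClassData cC deg a b K nu nv (pairSum (finCl2 1 2) (finCl2 1 2) fc)
      (pairSum (finCl2 1 2) (finCl 3) fc) (pairSum (finCl 3) (finCl 3) fc))
    (hD : ClassData cD deg a b K nu nv (pairSum (finCl2 1 2) (finCl2 1 2) fd)
      (pairSum (finCl2 1 2) (finCl 3) fd) (pairSum (finCl 3) (finCl 3) fd))
    (hdeg : ∀ x, deg x ≠ 0) (hK : K ≠ 0) :
    ¬ (Coll (cC - cD) ∨ Coll (cA + cB + cD) ∨ Coll (cA + cB + cC)) := by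
  obtain ⟨h1, h2, h3⟩ := not_supp3_F1 hA hB hC hD hdeg hK
  rintro (h | h | h)
  · exact h1 h.supp3
  · exact h2 h.supp3
  · exact h3 h.supp3

/-- pattern `Ft` -/
theorem coll_false_Ft
    (hA : ClassData cA deg a b K nu nv (pairSum (finCl 1) (finCl 1) fa)
      (pairSum (finCl 1) (finCl2 2 3) fa) (pairSum (finCl2 2 3) (finCl2 2 3) fa))
    (hB : ClassData cB deg a b K nu nv (pairSum (finCl 1) (finCl 1) fb)
      (pairSum (finCl 1) (finCl2 2 3) fb) (pairSum (finCl2 2 3) (finCl2 2 3) fb))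
    (hC : ClassData cC deg a b K nu nv (pairSum (finCl 1) (finCl 1) fc)
      (pairSum (finCl 1) (finCl2 2 3) fc) (pairSum (finCl2 2 3) (finCl2 2 3) fc))
    (hD : ClassData cD deg a b K nu nv (pairSum (finCl 1) (finCl 1) fd)
      (pairSum (finCl 1) (finCl2 2 3) fd) (pairSum (finCl2 2 3) (finCl2 2 3) fd))
    (hdeg : ∀ x, deg x ≠ 0) (hK : K ≠ 0) :
    ¬ (Coll (cA - cB) ∨ Coll (cA + cC + cD) ∨ Coll (cB + cC + cD)) := by
  obtain ⟨h1, h2, h3⟩ := not_supp3_Ft hA hB hC hD hdeg hK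
  rintro (h | h | h)
  · exact h1 h.supp3
  · exact h2 h.supp3
  · exact h3 h.supp3

/-- in the patterns `F1` and `U` the embedding is coherent -/
theorem coherent_of_cases_F1 (triv : ι)
    (hemb : Coherent triv cA cB cC cD ∨
      ((Coll (cC - cD) ∨ Coll (cA + cB + cD) ∨ Coll (cA + cB + cC)) ∧
        (Coll (cA - cB) ∨ Coll (cA + cC + cD) ∨ Coll (cB + cC + cD))))
    (hA : ClassData cA deg a b K nu nv (pairSum (finCl2 1 2) (finCl2 1 2) fa)
      (pairSum (finCl2 1 2) (finCl 3) fa) (pairSum (finCl 3) (finCl 3) fa))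
    (hB : ClassData cB deg a b K nu nv (pairSum (finCl2 1 2) (finCl2 1 2) fb)
      (pairSum (finCl2 1 2) (finCl 3) fb) (pairSum (finCl 3) (finCl 3) fb))
    (hC : ClassData cC deg a b K nu nv (pairSum (finCl2 1 2) (finCl2 1 2) fc)
      (pairSum (finCl2 1 2) (finCl 3) fc) (pairSum (finCl 3) (finCl 3) fc))
    (hD : ClassData cD deg a b K nu nv (pairSum (finCl2 1 2) (finCl2 1 2) fd)
      (pairSum (finCl2 1 2) (finCl 3) fd) (pairSum (finCl 3) (finCl 3) fd))
    (hdeg : ∀ x, deg x ≠ 0) (hK : K ≠ 0) : Coherent triv cA cB cC cD := by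
  rcases hemb with h | ⟨h, -⟩
  · exact h
  · exact (coll_false_F1 hA hB hC hD hdeg hK h).elim

/-- in the pattern `Ft` the embedding is coherent -/
theorem coherent_of_cases_Ft (triv : ι)
    (hemb : Coherent triv cA cB cC cD ∨
      ((Coll (cC - cD) ∨ Coll (cA + cB + cD) ∨ Coll (cA + cB + cC)) ∧
        (Coll (cA - cB) ∨ Coll (cA + cC + cD) ∨ Coll (cB + cC + cD))))
    (hA : ClassData cA deg a b K nu nv (pairSum (finCl 1) (finCl 1) fa)
      (pairSum (finCl 1) (finCl2 2 3) fa) (pairSum (finCl2 2 3) (finCl2 2 3) fa))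
    (hB : ClassData cB deg a b K nu nv (pairSum (finCl 1) (finCl 1) fb)
      (pairSum (finCl 1) (finCl2 2 3) fb) (pairSum (finCl2 2 3) (finCl2 2 3) fb))
    (hC : ClassData cC deg a b K nu nv (pairSum (finCl 1) (finCl 1) fc)
      (pairSum (finCl 1) (finCl2 2 3) fc) (pairSum (finCl2 2 3) (finCl2 2 3) fc))
    (hD : ClassData cD deg a b K nu nv (pairSum (finCl 1) (finCl 1) fd)
      (pairSum (finCl 1) (finCl2 2 3) fd) (pairSum (finCl2 2 3) (finCl2 2 3) fd))
    (hdeg : ∀ x, deg x ≠ 0) (hK : K ≠ 0) : Coherent triv cA cB cC cD := by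
  rcases hemb with h | ⟨-, h⟩
  · exact h
  · exact (coll_false_Ft hA hB hC hD hdeg hK h).elim

end Cfsg.Agent.Helper6.H72
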