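import Mathlib
import Cfsg.Agent.Helper6.SEmbE

/-!
# H72 / P3, part (a): generators of a group `T : D₈` with `T` self-centralizing elementary abelian
of order nine

`H` a finite group, `T ⊴ H` abelian of exponent three and order nine with `C_H(T) ≤ T`,
`f : DihedralGroup 4 →* H` with `f d ∈ T → d = 1`.  Then there are `a, b ∈ T`, both nontrivial,
with `R a R⁻¹ = b`, `R b R⁻¹ = a⁻¹`, `σ a σ⁻¹ = a`, `σ b σ⁻¹ = b⁻¹` (`R = f (r 1)`, `σ = f (sr 0)`).
-/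

set_option autoImplicit false
set_option linter.style.haveILetI false

namespace Cfsg.Agent.Helper6.H72

open DihedralGroup
open Cfsg.Agent.Helper6.SEmb

variable {H : Type*} [Group H]

/-- An involution normalizing `T` either fixes a nontrivial element of `T` or inverts `T`. -/
theorem h9_fix_or_invert (T : Subgroup H) [hTn : T.Normal]
    (hcomm : ∀ x ∈ T, ∀ y ∈ T, x * y = y * x) (w : H) (hw : w * w = 1) :
    (∃ c ∈ T, c ≠ 1 ∧ w * c * w⁻¹ = c) ∨ (∀ t ∈ T, w * t * w⁻¹ = t⁻¹) := by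
  by_cases hcon : ∃ c ∈ T, c ≠ 1 ∧ w * c * w⁻¹ = c
  · exact Or.inl hcon
  · right
    push Not at hcon
    intro t ht
    have hwt : w * t * w⁻¹ ∈ T := hTn.conj_mem t ht w
    set s := t * (w * t * w⁻¹) with hs
    have hsT : s ∈ T := T.mul_mem ht hwt
    have hfix : w * s * w⁻¹ = s := by
      have e1 : w * s * w⁻¹ = (w * t * w⁻¹) * ((w * w) * t * (w * w)⁻¹) := by
        rw [hs]; group
      rw [e1, hw, one_mul, inv_one, mul_one, hs]
      exact hcomm _ hwt _ ht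
    have hs1 : s = 1 := by
      by_contra hne
      exact hcon s hsT hne hfix
    exact eq_inv_of_mul_eq_one_right hs1

/-- An involution normalizing `T` and not in `T` inverts a nontrivial element of `T`. -/
theorem h9_exists_inverted (T : Subgroup H) [hTn : T.Normal]
    (hCT : ∀ h : H, (∀ t ∈ T, h * t = t * h) → h ∈ T) (w : H) (hw : w * w = 1) (hwT : w ∉ T) :
    ∃ d ∈ T, d ≠ 1 ∧ w * d * w⁻¹ = d⁻¹ := by
  have hex : ∃ t₀ ∈ T, w * t₀ ≠ t₀ * w := by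
    by_contra hcon
    push Not at hcon
    exact hwT (hCT w hcon)
  obtain ⟨t₀, ht₀, hne⟩ := hex
  have hut₀ : w * t₀ * w⁻¹ ∈ T := hTn.conj_mem t₀ ht₀ w
  refine ⟨t₀ * (w * t₀ * w⁻¹)⁻¹, T.mul_mem ht₀ (T.inv_mem hut₀), ?_, ?_⟩
  · intro h
    apply hne
    have h1 : t₀ = w * t₀ * w⁻¹ := mul_inv_eq_one.mp h
    calc w * t₀ = (w * t₀ * w⁻¹) * w := by group
      _ = t₀ * w := by rw [← h1]
  · have e1 : w * (t₀ * (w * t₀ * w⁻¹)⁻¹) * w⁻¹
        = (w * t₀ * w⁻¹) * ((w * w) * t₀⁻¹ * (w * w)⁻¹) := by group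
    rw [e1, hw, one_mul, inv_one, mul_one]
    group

/-- If `T = ⟨a⟩ × ⟨b⟩` with `u` inverting `a` and fixing `b`, the elements of `T` inverted by `u`
are the powers of `a`. -/
theorem h9_inverted_eq_pw3 [Finite H] (T : Subgroup H) (hT9 : Nat.card T = 9)
    (a b u : H) (haT : a ∈ T) (hbT : b ∈ T)
    (ha : a ^ 3 = 1) (hb : b ^ 3 = 1) (ha1 : a ≠ 1) (hb1 : b ≠ 1) (hab : a * b = b * a)
    (hua : u * a * u⁻¹ = a⁻¹) (hub : u * b * u⁻¹ = b) (t : H) (ht : t ∈ T)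
    (hinvt : u * t * u⁻¹ = t⁻¹) : ∃ i : ZMod 3, t = pw3 a i := by
  have hcomm_pw : ∀ i j : ZMod 3, pw3 a i * pw3 b j = pw3 b j * pw3 a i := by
    intro i j
    unfold pw3
    exact ((Commute.pow_pow (show Commute a b from hab) _ _)).eq
  obtain ⟨i, j, rfl⟩ := exists_pw3_of_mem T hT9 a b u haT hbT ha hb ha1 hb1 hab hua hub t ht
  refine ⟨i, ?_⟩
  have e1 : u * (pw3 a i * pw3 b j) * u⁻¹ = (pw3 a i)⁻¹ * pw3 b j := by
    calc u * (pw3 a i * pw3 b j) * u⁻¹ = (u * pw3 a i * u⁻¹) * (u * pw3 b j * u⁻¹) := by group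
      _ = _ := by rw [pw3_conj_inv a u hua, pw3_conj_fix b u hub]
  rw [e1, mul_inv_rev] at hinvt
  have e2 : pw3 b j = (pw3 b j)⁻¹ := by
    have := mul_left_cancel (a := (pw3 a i)⁻¹) (b := pw3 b j) (c := (pw3 b j)⁻¹)
    apply this
    rw [hinvt]
    have := hcomm_pw i j
    calc (pw3 b j)⁻¹ * (pw3 a i)⁻¹ = (pw3 a i * pw3 b j)⁻¹ := by group
      _ = (pw3 b j * pw3 a i)⁻¹ := by rw [this]
      _ = (pw3 a i)⁻¹ * (pw3 b j)⁻¹ := by group
  have e3 : pw3 b j = 1 := by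
    apply eq_one_of_inv_fix (pw3 b j) (pw3 b j)
    · unfold pw3
      rw [← pow_mul, mul_comm, pow_mul, hb, one_pow]
    · rw [mul_inv_cancel_right]; exact e2
    · rw [mul_inv_cancel_right]
  rw [e3, mul_one]

theorem h9_d4_rel1 : (r 1 : DihedralGroup 4) * r 1 = r 2 := by decide
theorem h9_d4_rel2 : (r 2 : DihedralGroup 4) * r 2 = 1 := by decide
theorem h9_d4_rel3 : (sr 0 : DihedralGroup 4) * sr 0 = 1 := by decide
theorem h9_d4_rel4 : (sr 0 : DihedralGroup 4) * r 1 * (sr 0)⁻¹ = r 1 * r 2 := by decide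
theorem h9_d4_rel5 : (r 2 : DihedralGroup 4) ≠ 1 := by decide
theorem h9_d4_rel6 : (sr 0 : DihedralGroup 4) ≠ 1 := by decide
theorem h9_d4_rel7 : (sr 0 : DihedralGroup 4) * r 2 ≠ 1 := by decide
theorem h9_d4_rel8 : (r 1 : DihedralGroup 4)⁻¹ = r 1 * r 2 := by decide

/-- Choice of the generators `a, b` adapted to a complement `D₈`. -/
theorem h9_exists_ab [Finite H] (T : Subgroup H) [hTn : T.Normal] (hT9 : Nat.card T = 9)
    (hcomm : ∀ x ∈ T, ∀ y ∈ T, x * y = y * x) (hexp : ∀ t ∈ T, t ^ 3 = 1)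
    (hCT : ∀ h : H, (∀ t ∈ T, h * t = t * h) → h ∈ T)
    (f : DihedralGroup 4 →* H) (hfT : ∀ d, f d ∈ T → d = 1) :
    ∃ a b : H, a ∈ T ∧ b ∈ T ∧ a ≠ 1 ∧ b ≠ 1 ∧
      f (r 1) * a * (f (r 1))⁻¹ = b ∧ f (r 1) * b * (f (r 1))⁻¹ = a⁻¹ ∧
      f (sr 0) * a * (f (sr 0))⁻¹ = a ∧ f (sr 0) * b * (f (sr 0))⁻¹ = b⁻¹ := by
  set R := f (r 1) with hR
  set σ := f (sr 0) with hσ
  set z := f (r 2) with hz
  have hRR : R * R = z := by rw [hR, hz, ← map_mul, h9_d4_rel1]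
  have hzz : z * z = 1 := by rw [hz, ← map_mul, h9_d4_rel2, map_one]
  have hσσ : σ * σ = 1 := by rw [hσ, ← map_mul, h9_d4_rel3, map_one]
  have hσR : σ * R * σ⁻¹ = R * z := by
    rw [hσ, hR, hz, ← map_inv, ← map_mul, ← map_mul, ← map_mul, h9_d4_rel4]
  have hRinv : R⁻¹ = R * z := by rw [hR, hz, ← map_inv, ← map_mul, h9_d4_rel8]
  have hzT : z ∉ T := fun h => h9_d4_rel5 (hfT _ h)
  have hσT : σ ∉ T := fun h => h9_d4_rel6 (hfT _ h)
  have hσzT : σ * z ∉ T := by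
    intro h
    rw [hσ, hz, ← map_mul] at h
    exact h9_d4_rel7 (hfT _ h)
  have hzinv : z⁻¹ = z := inv_eq_of_mul_eq_one_left hzz
  -- Claim 1: `z` inverts `T`
  have hz_inv : ∀ t ∈ T, z * t * z⁻¹ = t⁻¹ := by
    rcases h9_fix_or_invert T hcomm z hzz with ⟨c, hcT, hc1, hzc⟩ | h
    · exfalso
      obtain ⟨d, hdT, hd1, hzd⟩ := h9_exists_inverted T hCT z hzz hzT
      have hd3 : d ^ 3 = 1 := hexp d hdT
      have hc3 : c ^ 3 = 1 := hexp c hcT
      have hRd : R * d * R⁻¹ ∈ T := hTn.conj_mem d hdT R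
      have hRd_inv : z * (R * d * R⁻¹) * z⁻¹ = (R * d * R⁻¹)⁻¹ := by
        calc z * (R * d * R⁻¹) * z⁻¹ = (R * R) * (R * d * R⁻¹) * (R * R)⁻¹ := by rw [hRR]
          _ = R * ((R * R) * d * (R * R)⁻¹) * R⁻¹ := by group
          _ = R * (z * d * z⁻¹) * R⁻¹ := by rw [hRR]
          _ = R * d⁻¹ * R⁻¹ := by rw [hzd]
          _ = (R * d * R⁻¹)⁻¹ := by group
      obtain ⟨i, hi⟩ := h9_inverted_eq_pw3 T hT9 d c z hdT hcT hd3 hc3 hd1 hc1
        (hcomm d hdT c hcT) hzd hzc _ hRd hRd_inv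
      have hzd2 : z * d * z⁻¹ = R * (R * d * R⁻¹) * R⁻¹ := by
        rw [← hRR]; group
      have hpw2 : pw3 d 2 = d⁻¹ := by
        have : (2 : ZMod 3) = -1 := by decide
        rw [this, pw3_neg d hd3, pw3_one]
      have hdd : d⁻¹ = d := by
        fin_cases i
        · exfalso
          apply hd1
          have h0 : R * d * R⁻¹ = 1 := by rw [hi]; exact pw3_zero d
          have : d = R⁻¹ * (R * d * R⁻¹) * R := by group
          rw [this, h0]; group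
        · have h1 : R * d * R⁻¹ = d := by rw [hi]; exact pw3_one d
          rw [← hzd, hzd2, h1, h1]
        · have h2 : R * d * R⁻¹ = d⁻¹ := by rw [hi]; exact hpw2
          rw [← hzd, hzd2, h2]
          calc R * d⁻¹ * R⁻¹ = (R * d * R⁻¹)⁻¹ := by group
            _ = d := by rw [h2, inv_inv]
      apply hd1
      apply eq_one_of_inv_fix z d hd3 hzd
      rw [hzd, hdd]
    · exact h
  -- Claim 2: `σ` fixes a nontrivial element
  have hσ_fix : ∃ a ∈ T, a ≠ 1 ∧ σ * a * σ⁻¹ = a := by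
    rcases h9_fix_or_invert T hcomm σ hσσ with h | h
    · exact h
    · exfalso
      apply hσzT
      apply hCT
      intro t ht
      have h1 : z * t * z⁻¹ = t⁻¹ := hz_inv t ht
      have h2 : σ * t⁻¹ * σ⁻¹ = t := by
        have := h t⁻¹ (T.inv_mem ht)
        rw [inv_inv] at this
        exact this
      have h3 : (σ * z) * t * (σ * z)⁻¹ = t := by
        calc (σ * z) * t * (σ * z)⁻¹ = σ * (z * t * z⁻¹) * σ⁻¹ := by group
          _ = t := by rw [h1, h2]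
      calc σ * z * t = (σ * z) * t * (σ * z)⁻¹ * (σ * z) := by group
        _ = t * (σ * z) := by rw [h3]
  obtain ⟨a, haT, ha1, hσa⟩ := hσ_fix
  have hbT : R * a * R⁻¹ ∈ T := hTn.conj_mem a haT R
  have hRb : R * (R * a * R⁻¹) * R⁻¹ = a⁻¹ := by
    calc R * (R * a * R⁻¹) * R⁻¹ = (R * R) * a * (R * R)⁻¹ := by group
      _ = a⁻¹ := by rw [hRR]; exact hz_inv a haT
  refine ⟨a, R * a * R⁻¹, haT, hbT, ha1, ?_, rfl, hRb, hσa, ?_⟩
  · intro h
    apply ha1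
    have : a = R⁻¹ * (R * a * R⁻¹) * R := by group
    rw [this, h]; group
  · have h1 : σ * (R * a * R⁻¹) * σ⁻¹ = (σ * R * σ⁻¹) * (σ * a * σ⁻¹) * (σ * R * σ⁻¹)⁻¹ := by
      group
    rw [h1, hσa, hσR]
    calc R * z * a * (R * z)⁻¹ = R * (z * a * z⁻¹) * R⁻¹ := by group
      _ = R * a⁻¹ * R⁻¹ := by rw [hz_inv a haT]
      _ = (R * a * R⁻¹)⁻¹ := by group

end Cfsg.Agent.Helper6.H72
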