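import Mathlib
import Cfsg.Agent.H72.H9_P3a

/-!
# H72 / P3, part (b): the coordinates `(v, d) ↦ a^{v.1} b^{v.2} f(d)` (model-free form)

With `a, b, f` as in part (a): `h9_vec a b v = a^{v.1} b^{v.2}` is additive in `v`, conjugation by
`f d` acts on it through the explicit action `h9_act d` of `DihedralGroup 4` on `ZMod 3 × ZMod 3`
(`r 1 ↦ (i,j) ↦ (-j,i)`, `sr 0 ↦ (i,j) ↦ (i,-j)`), and `(v,d) ↦ h9_vec a b v * f d` is a bijection
onto `H` when `|H| = 72`.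
-/

set_option autoImplicit false
set_option linter.style.haveILetI false

namespace Cfsg.Agent.Helper6.H72

open DihedralGroup
open Cfsg.Agent.Helper6.SEmb

/-- the quarter turn `(i,j) ↦ (-j,i)` -/
def h9_rot (v : ZMod 3 × ZMod 3) : ZMod 3 × ZMod 3 := (-v.2, v.1)

/-- the reflection `(i,j) ↦ (i,-j)` -/
def h9_refl (v : ZMod 3 × ZMod 3) : ZMod 3 × ZMod 3 := (v.1, -v.2)

/-- The action of `DihedralGroup 4` on `ZMod 3 × ZMod 3`: `r k ↦ rot^k`, `sr k ↦ refl ∘ rot^k`. -/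
def h9_act : DihedralGroup 4 → ZMod 3 × ZMod 3 → ZMod 3 × ZMod 3
  | r k, v => h9_rot^[k.val] v
  | sr k, v => h9_refl (h9_rot^[k.val] v)

theorem h9_act_one : ∀ v, h9_act 1 v = v := by decide
theorem h9_act_mul : ∀ d d' v, h9_act (d * d') v = h9_act d (h9_act d' v) := by decide
theorem h9_act_add : ∀ d v w, h9_act d (v + w) = h9_act d v + h9_act d w := by decide
theorem h9_act_r1 : ∀ v : ZMod 3 × ZMod 3, h9_act (r 1) v = (-v.2, v.1) := by decide
theorem h9_act_sr0 : ∀ v : ZMod 3 × ZMod 3, h9_act (sr 0) v = (v.1, -v.2) := by decide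
theorem h9_act_faithful : ∀ d, (∀ v, h9_act d v = v) → d = 1 := by decide
theorem h9_d4_gen : ∀ d : DihedralGroup 4,
    d = r 1 ^ 0 ∨ d = r 1 ^ 1 ∨ d = r 1 ^ 2 ∨ d = r 1 ^ 3 ∨
    d = sr 0 * r 1 ^ 0 ∨ d = sr 0 * r 1 ^ 1 ∨ d = sr 0 * r 1 ^ 2 ∨ d = sr 0 * r 1 ^ 3 := by decide

variable {H : Type*} [Group H]

/-- `a^{v.1} b^{v.2}` -/
def h9_vec (a b : H) (v : ZMod 3 × ZMod 3) : H := pw3 a v.1 * pw3 b v.2

theorem h9_vec_zero (a b : H) : h9_vec a b 0 = 1 := by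
  unfold h9_vec
  show pw3 a 0 * pw3 b 0 = 1
  rw [pw3_zero, pw3_zero, one_mul]

theorem h9_pw3_comm (a b : H) (hab : a * b = b * a) (i j : ZMod 3) :
    pw3 a i * pw3 b j = pw3 b j * pw3 a i := by
  unfold pw3
  exact ((Commute.pow_pow (show Commute a b from hab) _ _)).eq

theorem h9_vec_add (a b : H) (ha : a ^ 3 = 1) (hb : b ^ 3 = 1) (hab : a * b = b * a)
    (v w : ZMod 3 × ZMod 3) : h9_vec a b (v + w) = h9_vec a b v * h9_vec a b w := by
  unfold h9_vec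
  show pw3 a (v.1 + w.1) * pw3 b (v.2 + w.2) = _
  rw [pw3_add a ha, pw3_add b hb]
  calc pw3 a v.1 * pw3 a w.1 * (pw3 b v.2 * pw3 b w.2)
      = pw3 a v.1 * (pw3 a w.1 * pw3 b v.2) * pw3 b w.2 := by group
    _ = pw3 a v.1 * (pw3 b v.2 * pw3 a w.1) * pw3 b w.2 := by rw [h9_pw3_comm a b hab]
    _ = _ := by group

theorem h9_vec_mem (a b : H) (T : Subgroup H) (ha : a ∈ T) (hb : b ∈ T) (v : ZMod 3 × ZMod 3) :
    h9_vec a b v ∈ T := T.mul_mem (pw3_mem a T ha _) (pw3_mem b T hb _)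

theorem h9_pw3_conj (a u : H) (i : ZMod 3) : u * pw3 a i * u⁻¹ = pw3 (u * a * u⁻¹) i := by
  unfold pw3
  rw [conj_pow]

theorem h9_pw3_inv (a : H) (ha : a ^ 3 = 1) (i : ZMod 3) : pw3 a⁻¹ i = pw3 a (-i) := by
  rw [pw3_neg a ha]
  unfold pw3
  rw [inv_pow]

section coords

variable (T : Subgroup H)
  (f : DihedralGroup 4 →* H) (hfT : ∀ d, f d ∈ T → d = 1)
  (a b : H) (haT : a ∈ T) (hbT : b ∈ T) (ha3 : a ^ 3 = 1) (hb3 : b ^ 3 = 1)
  (ha1 : a ≠ 1) (hb1 : b ≠ 1) (hab : a * b = b * a)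
  (hRa : f (r 1) * a * (f (r 1))⁻¹ = b) (hRb : f (r 1) * b * (f (r 1))⁻¹ = a⁻¹)
  (hσa : f (sr 0) * a * (f (sr 0))⁻¹ = a) (hσb : f (sr 0) * b * (f (sr 0))⁻¹ = b⁻¹)

include ha3 hb3 hab hRa hRb hσa hσb in
/-- conjugation by `f d` acts through `h9_act d`. -/
theorem h9_conj_vec (d : DihedralGroup 4) (v : ZMod 3 × ZMod 3) :
    f d * h9_vec a b v * (f d)⁻¹ = h9_vec a b (h9_act d v) := by
  have hR : ∀ v, f (r 1) * h9_vec a b v * (f (r 1))⁻¹ = h9_vec a b (h9_act (r 1) v) := by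
    intro v
    rw [h9_act_r1]
    unfold h9_vec
    show _ = pw3 a (-v.2) * pw3 b v.1
    calc f (r 1) * (pw3 a v.1 * pw3 b v.2) * (f (r 1))⁻¹
        = (f (r 1) * pw3 a v.1 * (f (r 1))⁻¹) * (f (r 1) * pw3 b v.2 * (f (r 1))⁻¹) := by group
      _ = pw3 b v.1 * pw3 a (-v.2) := by
          rw [h9_pw3_conj, h9_pw3_conj, hRa, hRb, h9_pw3_inv a ha3]
      _ = _ := (h9_pw3_comm a b hab _ _).symm
  have hS : ∀ v, f (sr 0) * h9_vec a b v * (f (sr 0))⁻¹ = h9_vec a b (h9_act (sr 0) v) := by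
    intro v
    rw [h9_act_sr0]
    unfold h9_vec
    show _ = pw3 a v.1 * pw3 b (-v.2)
    calc f (sr 0) * (pw3 a v.1 * pw3 b v.2) * (f (sr 0))⁻¹
        = (f (sr 0) * pw3 a v.1 * (f (sr 0))⁻¹) * (f (sr 0) * pw3 b v.2 * (f (sr 0))⁻¹) := by
          group
      _ = _ := by rw [h9_pw3_conj, h9_pw3_conj, hσa, hσb, h9_pw3_inv b hb3]
  have hmul : ∀ d d' : DihedralGroup 4,
      (∀ v, f d * h9_vec a b v * (f d)⁻¹ = h9_vec a b (h9_act d v)) →
      (∀ v, f d' * h9_vec a b v * (f d')⁻¹ = h9_vec a b (h9_act d' v)) →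
      ∀ v, f (d * d') * h9_vec a b v * (f (d * d'))⁻¹ = h9_vec a b (h9_act (d * d') v) := by
    intro d d' h1 h2 v
    rw [map_mul, h9_act_mul, ← h1, ← h2]
    group
  have hone : ∀ v, f 1 * h9_vec a b v * (f 1)⁻¹ = h9_vec a b (h9_act 1 v) := by
    intro v
    rw [map_one, h9_act_one]
    group
  have hpow : ∀ n : ℕ, ∀ v, f (r 1 ^ n) * h9_vec a b v * (f (r 1 ^ n))⁻¹
      = h9_vec a b (h9_act (r 1 ^ n) v) := by
    intro n
    induction n with
    | zero => rw [pow_zero]; exact hone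
    | succ n ih => rw [pow_succ]; exact hmul _ _ ih hR
  rcases h9_d4_gen d with h | h | h | h | h | h | h | h <;> rw [h]
  · exact hpow 0 v
  · exact hpow 1 v
  · exact hpow 2 v
  · exact hpow 3 v
  · exact hmul _ _ hS (hpow 0) v
  · exact hmul _ _ hS (hpow 1) v
  · exact hmul _ _ hS (hpow 2) v
  · exact hmul _ _ hS (hpow 3) v

include haT hbT ha3 hb3 ha1 hb1 hab hσa hσb in
/-- the nine elements `h9_vec a b v` exhaust `T`. -/
theorem h9_exists_vec [Finite H] (hT9 : Nat.card T = 9) (t : H) (ht : t ∈ T) : ∃ v : ZMod 3 × ZMod 3, t = h9_vec a b v := by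
  obtain ⟨j, i, h⟩ := exists_pw3_of_mem T hT9 b a (f (sr 0)) hbT haT hb3 ha3 hb1 ha1 hab.symm
    hσb hσa t ht
  refine ⟨(i, j), ?_⟩
  rw [h]
  exact (h9_pw3_comm a b hab i j).symm

include ha3 hb3 ha1 hb1 hσa hσb in
theorem h9_vec_eq_one (v : ZMod 3 × ZMod 3) (h : h9_vec a b v = 1) : v = 0 := by
  unfold h9_vec at h
  have hab' : pw3 b v.2 * pw3 a v.1 = 1 := by
    have h1 : pw3 a v.1 = (pw3 b v.2)⁻¹ := eq_inv_of_mul_eq_one_left h
    rw [h1, mul_inv_cancel]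
  obtain ⟨h2, h1⟩ := pw3_indep b a (f (sr 0)) hb3 ha3 hb1 ha1 hσb hσa v.2 v.1 hab'
  exact Prod.ext h1 h2

include hfT haT hbT in
theorem h9_coord_mem_iff (v : ZMod 3 × ZMod 3) (d : DihedralGroup 4) :
    h9_vec a b v * f d ∈ T ↔ d = 1 := by
  constructor
  · intro h
    apply hfT
    have : f d = (h9_vec a b v)⁻¹ * (h9_vec a b v * f d) := by group
    rw [this]
    exact T.mul_mem (T.inv_mem (h9_vec_mem a b T haT hbT v)) h
  · rintro rfl
    rw [map_one, mul_one]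
    exact h9_vec_mem a b T haT hbT v

include hfT haT hbT ha3 hb3 ha1 hb1 hab hσa hσb in
theorem h9_coord_injective :
    Function.Injective (fun p : (ZMod 3 × ZMod 3) × DihedralGroup 4 => h9_vec a b p.1 * f p.2) := by
  rintro ⟨v, d⟩ ⟨w, d'⟩ h
  have h0 : h9_vec a b v * f d = h9_vec a b w * f d' := h
  have h1 : h9_vec a b (v - w) * f (d * d'⁻¹) = 1 := by
    have e : v - w = -w + v := by ring
    rw [e, h9_vec_add a b ha3 hb3 hab, map_mul, map_inv]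
    have e2 : h9_vec a b (-w) = (h9_vec a b w)⁻¹ := by
      have := h9_vec_add a b ha3 hb3 hab (-w) w
      rw [neg_add_cancel, h9_vec_zero] at this
      exact eq_inv_of_mul_eq_one_left this.symm
    rw [e2]
    calc (h9_vec a b w)⁻¹ * h9_vec a b v * (f d * (f d')⁻¹)
        = (h9_vec a b w)⁻¹ * (h9_vec a b v * f d) * (f d')⁻¹ := by group
      _ = 1 := by rw [h0]; group
  have h2 : d * d'⁻¹ = 1 := by
    apply (h9_coord_mem_iff T f hfT a b haT hbT (v - w) (d * d'⁻¹)).mp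
    rw [h1]
    exact T.one_mem
  rw [h2, map_one, mul_one] at h1
  have h3 := h9_vec_eq_one f a b ha3 hb3 ha1 hb1 hσa hσb _ h1
  have hd : d = d' := by
    have := mul_inv_eq_one.mp h2
    exact this
  have hv : v = w := sub_eq_zero.mp h3
  rw [hd, hv]

include hfT haT hbT ha3 hb3 ha1 hb1 hab hσa hσb in
theorem h9_coord_bijective [Finite H] (hH72 : Nat.card H = 72) :
    Function.Bijective (fun p : (ZMod 3 × ZMod 3) × DihedralGroup 4 => h9_vec a b p.1 * f p.2) := by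
  haveI : Fintype H := Fintype.ofFinite H
  rw [Fintype.bijective_iff_injective_and_card]
  refine ⟨h9_coord_injective T f hfT a b haT hbT ha3 hb3 ha1 hb1 hab hσa hσb, ?_⟩
  rw [← Nat.card_eq_fintype_card, ← Nat.card_eq_fintype_card, hH72, Nat.card_prod, Nat.card_prod,
    DihedralGroup.nat_card]
  simp

end coords

end Cfsg.Agent.Helper6.H72
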