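import Mathlib
import Cfsg.Agent.H72.H9_P3b

/-!
# H72 / P3, part (c): `|N_G(M)| = 72` and the packaged coordinates

* `h9_centralizes_of_prime`: an element of prime order `p ≥ 5` normalizing a subgroup of order nine
  centralizes it.
* `h9_card_normalizer`: if `M` is a self-centralizing Sylow 3-subgroup of order nine and the
  Sylow 2-subgroups of `N_G(M)` have order eight then `|N_G(M)| = 72`.
* `h9_exists_coords`: the packaged coordinates on a group of order 72.
-/

set_option autoImplicit false
set_option linter.style.haveILetI false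

namespace Cfsg.Agent.Helper6.H72

open DihedralGroup
open Cfsg.Agent.Helper6.SEmb

section prime

variable {G : Type*} [Group G]

theorem h9_centralizes_of_prime [Finite G] (M : Subgroup G) (hM9 : Nat.card M = 9)
    (x : G) (hx : x ∈ Subgroup.normalizer (M : Set G)) (p : ℕ) (hp : p.Prime) (hp5 : 5 ≤ p)
    (hxp : x ^ p = 1) : ∀ t ∈ M, x * t * x⁻¹ = t := by
  classical
  haveI : Fact p.Prime := ⟨hp⟩
  haveI : Fintype M := Fintype.ofFinite M
  have hx' : ∀ t : G, t ∈ M → x * t * x⁻¹ ∈ M :=
    fun t ht => (Subgroup.mem_normalizer_iff.mp hx t).mp ht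
  let φ : Function.End M := fun t => ⟨x * t * x⁻¹, hx' t t.2⟩
  have hpow : ∀ k : ℕ, ∀ t : M, (((φ ^ k) t : M) : G) = x ^ k * t * (x ^ k)⁻¹ := by
    intro k
    induction k with
    | zero =>
      intro t
      rw [pow_zero, pow_zero]
      show (t : G) = 1 * t * 1⁻¹
      group
    | succ k ih =>
      intro t
      rw [pow_succ']
      show x * (((φ ^ k) t : M) : G) * x⁻¹ = _
      rw [ih t, pow_succ']
      group
  have hφp : φ ^ p ^ 1 = 1 := by
    rw [pow_one]
    funext t
    apply Subtype.ext
    rw [hpow p t, hxp]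
    show 1 * (t : G) * 1⁻¹ = t
    group
  have hmod := Equiv.Perm.card_fixedPoints_modEq (f := φ) (p := p) (n := 1) hφp
  -- the fixed points form a subgroup
  let F : Subgroup M :=
    { carrier := {t | x * (t : G) * x⁻¹ = t}
      one_mem' := by
        show x * ((1 : M) : G) * x⁻¹ = ((1 : M) : G)
        simp
      mul_mem' := by
        intro s t hs ht
        have hs : x * (s : G) * x⁻¹ = s := hs
        have ht : x * (t : G) * x⁻¹ = t := ht
        show x * ((s : G) * t) * x⁻¹ = s * t
        calc x * ((s : G) * t) * x⁻¹ = (x * s * x⁻¹) * (x * t * x⁻¹) := by group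
          _ = s * t := by rw [hs, ht]
      inv_mem' := by
        intro s hs
        have hs : x * (s : G) * x⁻¹ = s := hs
        show x * (s : G)⁻¹ * x⁻¹ = (s : G)⁻¹
        calc x * (s : G)⁻¹ * x⁻¹ = (x * s * x⁻¹)⁻¹ := by group
          _ = (s : G)⁻¹ := by rw [hs] }
  have hFfix : Function.fixedPoints φ = (F : Set M) := by
    ext t
    show φ t = t ↔ x * (t : G) * x⁻¹ = t
    constructor
    · intro h
      exact congrArg Subtype.val h
    · intro h
      exact Subtype.ext h
  have hcardF : Fintype.card (Function.fixedPoints φ) = Nat.card F := by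
    rw [← Nat.card_eq_fintype_card]
    exact Nat.card_congr (Equiv.setCongr hFfix)
  rw [hcardF, ← Nat.card_eq_fintype_card, hM9] at hmod
  have hdvd : Nat.card F ∣ 9 := by
    rw [← hM9]
    exact Subgroup.card_subgroup_dvd_card F
  have hle : Nat.card F ≤ 9 := Nat.le_of_dvd (by norm_num) hdvd
  have hpd : p ∣ 9 - Nat.card F := (Nat.modEq_iff_dvd' hle).mp hmod.symm
  have hF9 : Nat.card F = 9 := by
    by_contra hne
    have hpos : 0 < 9 - Nat.card F := by omega
    have hple : p ≤ 9 - Nat.card F := Nat.le_of_dvd hpos hpd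
    have hc : Nat.card F = 1 ∨ Nat.card F = 3 := by
      have : Nat.card F ∈ Nat.divisors 9 := Nat.mem_divisors.mpr ⟨hdvd, by norm_num⟩
      have h9 : Nat.divisors 9 = {1, 3, 9} := by decide
      rw [h9] at this
      simp only [Finset.mem_insert, Finset.mem_singleton] at this
      rcases this with h | h | h
      · exact Or.inl h
      · exact Or.inr h
      · exact absurd h hne
    rcases hc with hc | hc
    · rw [hc] at hpd hple
      have hp8 : p ≤ 8 := hple
      interval_cases p <;> first | omega | (exfalso; revert hp; decide)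
    · rw [hc] at hpd hple
      have hp6 : p ≤ 6 := hple
      interval_cases p <;> first | omega | (exfalso; revert hp; decide)
  have hFtop : F = ⊤ := by
    apply Subgroup.eq_top_of_card_eq
    rw [hF9, hM9]
  intro t ht
  have : (⟨t, ht⟩ : M) ∈ F := by rw [hFtop]; exact Subgroup.mem_top _
  exact this

theorem h9_card_normalizer [Finite G] (M : Sylow 3 G) (hM9 : Nat.card ↥(M : Subgroup G) = 9)
    (hCM : Subgroup.centralizer ((M : Subgroup G) : Set G) = (M : Subgroup G))
    (N : Subgroup G) (hN : N = Subgroup.normalizer ((M : Subgroup G) : Set G))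
    (P : Sylow 2 ↥N) (hP8 : Nat.card ↥(P : Subgroup ↥N) = 8) :
    Nat.card ↥N = 72 := by
  classical
  haveI : Fact (Nat.Prime 2) := ⟨Nat.prime_two⟩
  haveI : Fact (Nat.Prime 3) := ⟨Nat.prime_three⟩
  have hMN : (M : Subgroup G) ≤ N := by rw [hN]; exact Subgroup.le_normalizer
  set n := Nat.card N with hn
  have hnpos : 0 < n := Nat.card_pos
  have h2 : n = 8 * (P : Subgroup N).index := by
    rw [← hP8]
    exact ((P : Subgroup N).card_mul_index).symm
  have h2' : ¬ 2 ∣ (P : Subgroup N).index := P.not_dvd_index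
  have h3 : n = 9 * ((M : Subgroup G).subgroupOf N).index := by
    have hc : Nat.card ((M : Subgroup G).subgroupOf N) = 9 := by
      rw [← hM9]
      exact Nat.card_congr (Subgroup.subgroupOfEquivOfLe hMN).toEquiv
    rw [← hc]
    exact (((M : Subgroup G).subgroupOf N).card_mul_index).symm
  have h3' : ¬ 3 ∣ ((M : Subgroup G).subgroupOf N).index := by
    intro h
    apply M.not_dvd_index
    have := Subgroup.relIndex_mul_index hMN
    rw [← this]
    exact Dvd.dvd.mul_right h _
  have hprime : ∀ p : ℕ, p.Prime → p ∣ n → p < 5 := by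
    intro p hp hpn
    by_contra hp5
    push Not at hp5
    haveI : Fact p.Prime := ⟨hp⟩
    obtain ⟨x, hx⟩ := exists_prime_orderOf_dvd_card' (G := N) p hpn
    have hxp : (x : G) ^ p = 1 := by
      have : x ^ p = 1 := by rw [← hx]; exact pow_orderOf_eq_one x
      exact congrArg Subtype.val this
    have hcent := h9_centralizes_of_prime (M : Subgroup G) hM9 (x : G) (hN ▸ x.2) p hp hp5 hxp
    have hxM : (x : G) ∈ (M : Subgroup G) := by
      rw [← hCM, Subgroup.mem_centralizer_iff]
      intro t ht
      have := hcent t ht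
      calc t * (x : G) = (x * t * (x : G)⁻¹) * x := by rw [this]
        _ = x * t := by group
    have hord : orderOf (⟨(x : G), hxM⟩ : (M : Subgroup G)) ∣ 9 := by
      rw [← hM9]
      exact orderOf_dvd_natCard _
    have hord2 : orderOf (⟨(x : G), hxM⟩ : (M : Subgroup G)) = p := by
      rw [← hx]
      rw [← Subgroup.orderOf_coe, ← Subgroup.orderOf_coe]
    rw [hord2] at hord
    have hp9 : p ≤ 9 := Nat.le_of_dvd (by norm_num) hord
    interval_cases p <;> first | omega | (exfalso; revert hp; decide)
  have h72 : 72 ∣ n := by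
    have h8 : 8 ∣ n := ⟨_, h2⟩
    have h9 : 9 ∣ n := ⟨_, h3⟩
    exact Nat.Coprime.mul_dvd_of_dvd_of_dvd (by decide : Nat.Coprime 8 9) h8 h9
  obtain ⟨j, hj⟩ := h72
  by_cases hj1 : j = 1
  · rw [hj, hj1]
  · exfalso
    obtain ⟨p, hp, hpj⟩ := Nat.exists_prime_and_dvd hj1
    have hpn : p ∣ n := by rw [hj]; exact Dvd.dvd.mul_left hpj _
    have hp5 := hprime p hp hpn
    obtain ⟨k, hk⟩ := hpj
    have hp2 := hp.two_le
    interval_cases p
    · apply h2'
      omega
    · apply h3'
      omega
    · exact absurd hp (by decide)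

end prime

section coords

variable {H : Type*} [Group H]

/-- The packaged coordinates on a group of order 72 with a normal self-centralizing elementary
abelian subgroup of order nine and a complement `D₈`. -/
theorem h9_exists_coords [Finite H] (T : Subgroup H) [hTn : T.Normal] (hT9 : Nat.card T = 9)
    (hcomm : ∀ x ∈ T, ∀ y ∈ T, x * y = y * x) (hexp : ∀ t ∈ T, t ^ 3 = 1)
    (hCT : ∀ h : H, (∀ t ∈ T, h * t = t * h) → h ∈ T) (hH72 : Nat.card H = 72)
    (f : DihedralGroup 4 →* H) (hfT : ∀ d, f d ∈ T → d = 1) :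
    ∃ c : ZMod 3 × ZMod 3 → H,
      (∀ v w, c (v + w) = c v * c w) ∧
      (∀ d v, f d * c v * (f d)⁻¹ = c (h9_act d v)) ∧
      Function.Bijective (fun p : (ZMod 3 × ZMod 3) × DihedralGroup 4 => c p.1 * f p.2) ∧
      (∀ v d, c v * f d ∈ T ↔ d = 1) := by
  obtain ⟨a, b, haT, hbT, ha1, hb1, hRa, hRb, hσa, hσb⟩ :=
    h9_exists_ab T hT9 hcomm hexp hCT f hfT
  have ha3 := hexp a haT
  have hb3 := hexp b hbT
  have hab := hcomm a haT b hbT
  exact ⟨h9_vec a b, h9_vec_add a b ha3 hb3 hab,
    h9_conj_vec f a b ha3 hb3 hab hRa hRb hσa hσb,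
    h9_coord_bijective T f hfT a b haT hbT ha3 hb3 ha1 hb1 hab hσa hσb hH72,
    h9_coord_mem_iff T f hfT a b haT hbT⟩

end coords

end Cfsg.Agent.Helper6.H72
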