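import Mathlib
import Cfsg.Agent.H72.H9_P3c

/-!
# H72 / P3, part (d): two groups with `(ZMod 3 × ZMod 3) ⋊ D₈`-coordinates are isomorphic

A *coordinate system* on a group `X` is a pair `c : ZMod 3 × ZMod 3 → X`, `f : DihedralGroup 4 →* X`
with `c (v + w) = c v * c w`, `f d * c v * (f d)⁻¹ = c (h9_act d v)` and `(v, d) ↦ c v * f d`
bijective.  Two groups with coordinate systems are isomorphic compatibly with the coordinates.
-/

set_option autoImplicit false
set_option linter.style.haveILetI false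

namespace Cfsg.Agent.Helper6.H72

open DihedralGroup

variable {X : Type*} [Group X] {H : Type*} [Group H]

theorem h9_coord_mul (c : ZMod 3 × ZMod 3 → X) (f : DihedralGroup 4 →* X)
    (hadd : ∀ v w, c (v + w) = c v * c w)
    (hconj : ∀ d v, f d * c v * (f d)⁻¹ = c (h9_act d v))
    (v w : ZMod 3 × ZMod 3) (d d' : DihedralGroup 4) :
    c v * f d * (c w * f d') = c (v + h9_act d w) * f (d * d') := by
  rw [hadd, ← hconj, map_mul]
  group

/-- Two groups with coordinate systems are isomorphic, compatibly with the coordinates. -/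
theorem h9_iso_of_coords
    (cX : ZMod 3 × ZMod 3 → X) (fX : DihedralGroup 4 →* X)
    (hXadd : ∀ v w, cX (v + w) = cX v * cX w)
    (hXconj : ∀ d v, fX d * cX v * (fX d)⁻¹ = cX (h9_act d v))
    (hXbij : Function.Bijective
      (fun p : (ZMod 3 × ZMod 3) × DihedralGroup 4 => cX p.1 * fX p.2))
    (cH : ZMod 3 × ZMod 3 → H) (fH : DihedralGroup 4 →* H)
    (hHadd : ∀ v w, cH (v + w) = cH v * cH w)
    (hHconj : ∀ d v, fH d * cH v * (fH d)⁻¹ = cH (h9_act d v))
    (hHbij : Function.Bijective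
      (fun p : (ZMod 3 × ZMod 3) × DihedralGroup 4 => cH p.1 * fH p.2)) :
    ∃ e : H ≃* X, ∀ v d, e (cH v * fH d) = cX v * fX d := by
  let EX : (ZMod 3 × ZMod 3) × DihedralGroup 4 ≃ X := Equiv.ofBijective _ hXbij
  let EH : (ZMod 3 × ZMod 3) × DihedralGroup 4 ≃ H := Equiv.ofBijective _ hHbij
  have hEX : ∀ v d, EX (v, d) = cX v * fX d := fun v d => rfl
  have hEH : ∀ v d, EH (v, d) = cH v * fH d := fun v d => rfl
  have hsymm : ∀ v d, EH.symm (cH v * fH d) = (v, d) := by
    intro v d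
    rw [← hEH, Equiv.symm_apply_apply]
  let e0 : H ≃ X := EH.symm.trans EX
  have he0 : ∀ v d, e0 (cH v * fH d) = cX v * fX d := by
    intro v d
    show EX (EH.symm (cH v * fH d)) = _
    rw [hsymm, hEX]
  have hmul : ∀ x y : H, e0 (x * y) = e0 x * e0 y := by
    intro x y
    obtain ⟨⟨v, d⟩, rfl⟩ := EH.surjective x
    obtain ⟨⟨w, d'⟩, rfl⟩ := EH.surjective y
    rw [hEH, hEH, h9_coord_mul cH fH hHadd hHconj, he0, he0, he0,
      h9_coord_mul cX fX hXadd hXconj]
  exact ⟨{ e0 with map_mul' := hmul }, he0⟩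

end Cfsg.Agent.Helper6.H72
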