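import Mathlib
import Cfsg.Agent.H72.H9_P3d

/-!
# H72 / P3, part (e): coordinates on `N_G(M)` from the hypotheses of S3716
-/

set_option autoImplicit false
set_option linter.style.haveILetI false

namespace Cfsg.Agent.Helper6.H72

open DihedralGroup

variable {G : Type*} [Group G]

/-- From the hypotheses of S3716: a coordinate system `(c, f)` on `N = N_G(M)` in which `M` is the
set of elements with trivial `D₈`-coordinate. -/
theorem h9_exists_coords_N [Finite G] (M : Sylow 3 G) (hM9 : Nat.card ↥(M : Subgroup G) = 9)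
    (hMel : ∀ m ∈ (M : Subgroup G), m ^ 3 = 1)
    (hCM : Subgroup.centralizer ((M : Subgroup G) : Set G) = (M : Subgroup G))
    (N : Subgroup G) (hN : N = Subgroup.normalizer ((M : Subgroup G) : Set G))
    (hS : ∀ S : Sylow 2 ↥N, Nonempty (↥(S : Subgroup ↥N) ≃* DihedralGroup 4)) :
    ∃ (f : DihedralGroup 4 →* ↥N) (c : ZMod 3 × ZMod 3 → ↥N),
      (∀ v w, c (v + w) = c v * c w) ∧
      (∀ d v, f d * c v * (f d)⁻¹ = c (h9_act d v)) ∧
      Function.Bijective (fun p : (ZMod 3 × ZMod 3) × DihedralGroup 4 => c p.1 * f p.2) ∧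
      (∀ v d, ((c v * f d : ↥N) : G) ∈ (M : Subgroup G) ↔ d = 1) := by
  classical
  haveI : Fact (Nat.Prime 2) := ⟨Nat.prime_two⟩
  haveI : Fact (Nat.Prime 3) := ⟨Nat.prime_three⟩
  have hMN : (M : Subgroup G) ≤ N := by rw [hN]; exact Subgroup.le_normalizer
  set T' : Subgroup N := (M : Subgroup G).subgroupOf N with hT'
  haveI hTn : T'.Normal := by
    rw [hT']
    subst hN
    exact Subgroup.normal_in_normalizer
  have hmemT' : ∀ n : N, n ∈ T' ↔ (n : G) ∈ (M : Subgroup G) := fun n => Subgroup.mem_subgroupOf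
  have hT9 : Nat.card T' = 9 := by
    rw [← hM9]
    exact Nat.card_congr (Subgroup.subgroupOfEquivOfLe hMN).toEquiv
  have hcommG : ∀ x ∈ (M : Subgroup G), ∀ y ∈ (M : Subgroup G), x * y = y * x := by
    intro x hx y hy
    have hx' : x ∈ Subgroup.centralizer ((M : Subgroup G) : Set G) := by rw [hCM]; exact hx
    rw [Subgroup.mem_centralizer_iff] at hx'
    exact (hx' y hy).symm
  have hcomm : ∀ x ∈ T', ∀ y ∈ T', x * y = y * x := by
    intro x hx y hy
    rw [hmemT'] at hx hy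
    apply Subtype.ext
    exact hcommG _ hx _ hy
  have hexp : ∀ t ∈ T', t ^ 3 = 1 := by
    intro t ht
    rw [hmemT'] at ht
    apply Subtype.ext
    exact hMel _ ht
  have hCT : ∀ h : N, (∀ t ∈ T', h * t = t * h) → h ∈ T' := by
    intro h hh
    rw [hmemT', ← hCM, Subgroup.mem_centralizer_iff]
    intro t ht
    have := hh ⟨t, hMN ht⟩ ((hmemT' _).mpr ht)
    exact (congrArg Subtype.val this).symm
  obtain ⟨P⟩ : Nonempty (Sylow 2 ↥N) := inferInstance
  obtain ⟨ψ⟩ := hS P
  have hP8 : Nat.card ↥(P : Subgroup ↥N) = 8 := by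
    rw [Nat.card_congr ψ.toEquiv, DihedralGroup.nat_card]
  have hH72 : Nat.card ↥N = 72 := h9_card_normalizer M hM9 hCM N hN P hP8
  have hbot : (P : Subgroup ↥N) ⊓ T' = ⊥ := by
    apply disjoint_iff.mp
    apply Subgroup.disjoint_of_coprime_natCard
    rw [hP8, hT9]
    decide
  let f : DihedralGroup 4 →* ↥N := (P : Subgroup ↥N).subtype.comp ψ.symm.toMonoidHom
  have hfT : ∀ d, f d ∈ T' → d = 1 := by
    intro d hd
    have h1 : f d ∈ (P : Subgroup ↥N) := (ψ.symm d).2
    have h2 : f d ∈ (P : Subgroup ↥N) ⊓ T' := ⟨h1, hd⟩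
    rw [hbot, Subgroup.mem_bot] at h2
    have h3 : ψ.symm d = 1 := Subtype.ext h2
    have h4 : ψ.symm d = ψ.symm 1 := by rw [h3, map_one]
    exact ψ.symm.injective h4
  obtain ⟨c, h1, h2, h3, h4⟩ := h9_exists_coords T' hT9 hcomm hexp hCT hH72 f hfT
  refine ⟨f, c, h1, h2, h3, ?_⟩
  intro v d
  rw [← hmemT']
  exact h4 v d

end Cfsg.Agent.Helper6.H72
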