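import Mathlib
import Cfsg.Agent.H72.H9_P3e

/-!
# H72 / P3, part (f): the TI property and the identification of `N_G(M)` with a model

* `h9_TI`: if `t, t' ∈ N = N_G(M)` have fourth powers in `M`, the one of `t` nontrivial, and
  `t' = z⁻¹ t z`, then `z ∈ N` (Burnside fusion + `C_G(g) ≤ N`).
* `h9_exists_iso_N`: for every group `X` with a coordinate system `(cX, fX)` (see part (d)),
  an isomorphism `e : N ≃* X` with `n ∈ M ↔ e n ∈ range cX`, and the TI property phrased through `e`.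
-/

set_option autoImplicit false
set_option linter.style.haveILetI false

namespace Cfsg.Agent.Helper6.H72

open DihedralGroup

variable {G : Type*} [Group G]

theorem h9_TI [Finite G] (M : Sylow 3 G)
    (hCM : Subgroup.centralizer ((M : Subgroup G) : Set G) = (M : Subgroup G))
    (N : Subgroup G) (hN : N = Subgroup.normalizer ((M : Subgroup G) : Set G))
    (hCg : ∀ g ∈ (M : Subgroup G), g ≠ 1 → Subgroup.centralizer ({g} : Set G) ≤ N)
    (t t' : G) (ht : t ^ 4 ∈ (M : Subgroup G)) (ht1 : t ^ 4 ≠ 1)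
    (ht' : t' ^ 4 ∈ (M : Subgroup G)) (z : G) (hz : t' = z⁻¹ * t * z) : z ∈ N := by
  haveI : Fact (Nat.Prime 3) := ⟨Nat.prime_three⟩
  have hconj : z⁻¹ * t ^ 4 * z = t' ^ 4 := by
    rw [hz]
    have h := conj_pow (a := z⁻¹) (b := t) (i := 4)
    rw [inv_inv] at h
    exact h.symm
  have hx : t ^ 4 ∈ Subgroup.centralizer ((M : Subgroup G) : Set G) := by rw [hCM]; exact ht
  have hy : z⁻¹ * t ^ 4 * z ∈ Subgroup.centralizer ((M : Subgroup G) : Set G) := by
    rw [hCM, hconj]; exact ht'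
  obtain ⟨n, hn', hn2⟩ := M.conj_eq_normalizer_conj_of_mem_centralizer (t ^ 4) z hx hy
  have hnN : n ∈ N := by rw [hN]; exact hn'
  have hcent : z * n⁻¹ ∈ Subgroup.centralizer ({t ^ 4} : Set G) := by
    rw [Subgroup.mem_centralizer_singleton_iff]
    have h5 : t ^ 4 = n * (z⁻¹ * t ^ 4 * z) * n⁻¹ := by
      rw [hn2]
      group
    calc z * n⁻¹ * t ^ 4 = z * n⁻¹ * (n * (z⁻¹ * t ^ 4 * z) * n⁻¹) := by rw [← h5]
      _ = t ^ 4 * (z * n⁻¹) := by group
  have h6 := hCg _ ht ht1 hcent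
  have : z = z * n⁻¹ * n := by group
  rw [this]
  exact N.mul_mem h6 hnN

/-- From the hypotheses of S3716: for every group `X` with a coordinate system, an isomorphism
`e : N ≃* X` identifying `M` with the range of `cX`, together with the TI property. -/
theorem h9_exists_iso_N [Finite G] (M : Sylow 3 G) (hM9 : Nat.card ↥(M : Subgroup G) = 9)
    (hMel : ∀ m ∈ (M : Subgroup G), m ^ 3 = 1)
    (hCM : Subgroup.centralizer ((M : Subgroup G) : Set G) = (M : Subgroup G))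
    (N : Subgroup G) (hN : N = Subgroup.normalizer ((M : Subgroup G) : Set G))
    (hCg : ∀ g ∈ (M : Subgroup G), g ≠ 1 → Subgroup.centralizer ({g} : Set G) ≤ N)
    (hS : ∀ S : Sylow 2 ↥N, Nonempty (↥(S : Subgroup ↥N) ≃* DihedralGroup 4))
    {X : Type*} [Group X] (cX : ZMod 3 × ZMod 3 → X) (fX : DihedralGroup 4 →* X)
    (hXadd : ∀ v w, cX (v + w) = cX v * cX w)
    (hXconj : ∀ d v, fX d * cX v * (fX d)⁻¹ = cX (h9_act d v))
    (hXbij : Function.Bijective
      (fun p : (ZMod 3 × ZMod 3) × DihedralGroup 4 => cX p.1 * fX p.2)) :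
    ∃ e : ↥N ≃* X, (∀ n : ↥N, (n : G) ∈ (M : Subgroup G) ↔ ∃ v, e n = cX v) ∧
      (∀ t t' : ↥N, (∃ v, (e t) ^ 4 = cX v) → (e t) ^ 4 ≠ 1 → (∃ v, (e t') ^ 4 = cX v) →
        ∀ z : G, (t' : G) = z⁻¹ * (t : G) * z → z ∈ N) := by
  obtain ⟨f, c, h1, h2, h3, h4⟩ := h9_exists_coords_N M hM9 hMel hCM N hN hS
  obtain ⟨e, he⟩ := h9_iso_of_coords cX fX hXadd hXconj hXbij c f h1 h2 h3
  have hmem : ∀ n : ↥N, (n : G) ∈ (M : Subgroup G) ↔ ∃ v, e n = cX v := by
    intro n
    obtain ⟨⟨v, d⟩, rfl⟩ := h3.2 n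
    show ((c v * f d : ↥N) : G) ∈ (M : Subgroup G) ↔ ∃ w, e (c v * f d) = cX w
    rw [h4, he]
    constructor
    · rintro rfl
      exact ⟨v, by rw [map_one, mul_one]⟩
    · rintro ⟨w, hw⟩
      have h5 : cX v * fX d = cX w * fX 1 := by rw [hw, map_one, mul_one]
      have h6 := hXbij.1 (a₁ := (v, d)) (a₂ := (w, 1)) h5
      exact (Prod.ext_iff.mp h6).2
  refine ⟨e, hmem, ?_⟩
  intro t t' ht ht1 ht' z hz
  have hpow : ∀ s : ↥N, ((s ^ 4 : ↥N) : G) = (s : G) ^ 4 := fun s => by simp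
  apply h9_TI M hCM N hN hCg (t : G) (t' : G) _ _ _ z hz
  · rw [← hpow, hmem, map_pow]
    exact ht
  · intro h
    apply ht1
    have : t ^ 4 = 1 := Subtype.ext (by rw [hpow]; exact h)
    rw [← map_pow, this, map_one]
  · rw [← hpow, hmem, map_pow]
    exact ht'

end Cfsg.Agent.Helper6.H72
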