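import Mathlib
import Cfsg.Agent.Helper6.H72A
import Cfsg.Agent.H72.H9_P3f

/-!
# H72 / P3, part (g): identification of `N_G(M)` with the model `M72`

`h9_exists_iso_M72`: from the hypotheses of S3716, an isomorphism `e : N ≃* M72` such that
`n ∈ M ↔ (e n).right = 1`, the TI property for the 3-singular elements, and `|N| = 72`.
-/

set_option autoImplicit false
set_option linter.style.haveILetI false

namespace Cfsg.Agent.Helper6.H72

open DihedralGroup

theorem h9_act_eq : ∀ (d : D4) (v : ZMod 3 × ZMod 3), act d v = h9_act d v := by decide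

/-- the `V9`-coordinate of the model -/
def h9_cM (v : ZMod 3 × ZMod 3) : M72 := SemidirectProduct.inl (Multiplicative.ofAdd v)

/-- the `D4`-coordinate of the model -/
def h9_fM : DihedralGroup 4 →* M72 := SemidirectProduct.inr

theorem h9_cM_add (v w : ZMod 3 × ZMod 3) : h9_cM (v + w) = h9_cM v * h9_cM w := by
  unfold h9_cM
  rw [ofAdd_add, map_mul]

theorem h9_cM_conj (d : DihedralGroup 4) (v : ZMod 3 × ZMod 3) :
    h9_fM d * h9_cM v * (h9_fM d)⁻¹ = h9_cM (h9_act d v) := by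
  unfold h9_cM h9_fM
  rw [← map_inv, ← SemidirectProduct.inl_aut, ← h9_act_eq]
  rfl

theorem h9_cM_mul_fM (v : ZMod 3 × ZMod 3) (d : DihedralGroup 4) :
    h9_cM v * h9_fM d = ⟨Multiplicative.ofAdd v, d⟩ := by
  have := SemidirectProduct.inl_left_mul_inr_right (⟨Multiplicative.ofAdd v, d⟩ : M72)
  exact this

theorem h9_cM_bij : Function.Bijective
    (fun p : (ZMod 3 × ZMod 3) × DihedralGroup 4 => h9_cM p.1 * h9_fM p.2) := by
  constructor
  · rintro ⟨v, d⟩ ⟨w, d'⟩ h
    have h0 : h9_cM v * h9_fM d = h9_cM w * h9_fM d' := h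
    rw [h9_cM_mul_fM, h9_cM_mul_fM] at h0
    have h1 : Multiplicative.ofAdd v = Multiplicative.ofAdd w := congrArg SemidirectProduct.left h0
    have h2 : d = d' := congrArg SemidirectProduct.right h0
    rw [Multiplicative.ofAdd.injective h1, h2]
  · intro m
    refine ⟨(m.left.toAdd, m.right), ?_⟩
    show h9_cM m.left.toAdd * h9_fM m.right = m
    rw [h9_cM_mul_fM]
    rfl

theorem h9_right_eq_one_iff (m : M72) : (∃ v, m = h9_cM v) ↔ m.right = 1 := by
  constructor
  · rintro ⟨v, rfl⟩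
    rfl
  · intro h
    refine ⟨m.left.toAdd, ?_⟩
    have h1 : m = ⟨m.left, m.right⟩ := rfl
    rw [h1, h]
    rfl

theorem h9_pow_four_of_sing : ∀ m : M72, sing m = true → (m ^ 4).right = 1 ∧ m ^ 4 ≠ 1 := by
  decide +kernel

variable {G : Type*} [Group G]

/-- From the hypotheses of S3716: `N ≃* M72` with `M` ↔ trivial `D4`-part, the TI property of the
3-singular elements, and `|N| = 72`. -/
theorem h9_exists_iso_M72 [Finite G] (M : Sylow 3 G) (hM9 : Nat.card ↥(M : Subgroup G) = 9)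
    (hMel : ∀ m ∈ (M : Subgroup G), m ^ 3 = 1)
    (hCM : Subgroup.centralizer ((M : Subgroup G) : Set G) = (M : Subgroup G))
    (N : Subgroup G) (hN : N = Subgroup.normalizer ((M : Subgroup G) : Set G))
    (hCg : ∀ g ∈ (M : Subgroup G), g ≠ 1 → Subgroup.centralizer ({g} : Set G) ≤ N)
    (hS : ∀ S : Sylow 2 ↥N, Nonempty (↥(S : Subgroup ↥N) ≃* DihedralGroup 4)) :
    ∃ e : ↥N ≃* M72, (∀ n : ↥N, (n : G) ∈ (M : Subgroup G) ↔ (e n).right = 1) ∧
      (∀ t t' : ↥N, sing (e t) = true → sing (e t') = true →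
        ∀ z : G, (t' : G) = z⁻¹ * (t : G) * z → z ∈ N) ∧
      Nat.card ↥N = 72 := by
  obtain ⟨e, he1, he2⟩ := h9_exists_iso_N M hM9 hMel hCM N hN hCg hS h9_cM h9_fM h9_cM_add
    h9_cM_conj h9_cM_bij
  refine ⟨e, ?_, ?_, ?_⟩
  · intro n
    rw [he1, h9_right_eq_one_iff]
  · intro t t' ht ht' z hz
    obtain ⟨h1, h2⟩ := h9_pow_four_of_sing (e t) ht
    obtain ⟨h1', -⟩ := h9_pow_four_of_sing (e t') ht'
    exact he2 t t' ((h9_right_eq_one_iff _).mpr h1) h2 ((h9_right_eq_one_iff _).mpr h1') z hz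
  · rw [Nat.card_congr e.toEquiv, card_M72]

end Cfsg.Agent.Helper6.H72
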