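import Mathlib
import Cfsg.Agent.H72.H1_GFusion
import Cfsg.Agent.H72.H9_RR72
import Cfsg.Agent.H72.H9_P3g

/-!
# H72 / P3: the setup `GSetupT G M72 sing rr72 3` from the hypotheses of S3716
-/

set_option autoImplicit false
set_option linter.style.haveILetI false

namespace Cfsg.Agent.Helper6.H72

universe u

variable {G : Type u} [Group G]

/-- From the hypotheses of S3716: the abstract situation `GSetupT G M72 sing rr72 3` with
`S.N = N`, `S.T = M`; moreover `|N| = 72`. -/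
theorem exists_setup72 [Finite G] (M : Sylow 3 G) (hM9 : Nat.card ↥(M : Subgroup G) = 9)
    (hMel : ∀ m ∈ (M : Subgroup G), m ^ 3 = 1)
    (hCM : Subgroup.centralizer ((M : Subgroup G) : Set G) = (M : Subgroup G))
    (N : Subgroup G) (hN : N = Subgroup.normalizer ((M : Subgroup G) : Set G))
    (hCg : ∀ g ∈ (M : Subgroup G), g ≠ 1 → Subgroup.centralizer ({g} : Set G) ≤ N)
    (hS : ∀ S : Sylow 2 ↥N, Nonempty (↥(S : Subgroup ↥N) ≃* DihedralGroup 4)) :
    ∃ S : GSetupT G M72 sing rr72 3, S.N = N ∧ S.T = M ∧ Nat.card ↥N = 72 := by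
  obtain ⟨e, he1, he2, hcard⟩ := h9_exists_iso_M72 M hM9 hMel hCM N hN hCg hS
  have hMN : (M : Subgroup G) ≤ N := by rw [hN]; exact Subgroup.le_normalizer
  refine ⟨{ N := N, e := e, hTI := he2, T := M, hT := ?_ }, rfl, rfl, hcard⟩
  intro g
  constructor
  · intro hg
    refine ⟨⟨g, hMN hg⟩, rfl, ?_⟩
    rw [rr72_iff]
    exact (he1 ⟨g, hMN hg⟩).mp hg
  · rintro ⟨n, rfl, h⟩
    rw [rr72_iff] at h
    exact (he1 n).mpr h

end Cfsg.Agent.Helper6.H72
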